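import Cfsg.Agent.Lib.FusionSystem.Saturation
import Cfsg.Agent.Lib.Cores.Basic

/-!
An induction principle for the maps of a saturated fusion system: a property closed under composition and
restriction that holds for the automorphisms of fully normalized centric radical subgroups holds for all maps.
-/

set_option autoImplicit false
set_option linter.style.haveILetI false

namespace Cfsg.Agent.Lib.FusionP3.Induction

open Cfsg Cfsg.FusionSystem Cfsg.Agent.Lib.FS

variable {Ω : Type*} [Group Ω] {S : Subgroup Ω} [Finite S] {p : ℕ} [Fact p.Prime] {F : FusionSystem S}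

theorem lt_normalizerIn (hS : IsPGroup p S) {P : Subgroup Ω} (hlt : P < S) : P < normalizerIn S P := by
  haveI := hS.isNilpotent
  refine lt_of_le_of_ne (le_normalizerIn hlt.le) fun h => ?_
  have hne : P.subgroupOf S ≠ ⊤ := fun he => hlt.not_ge (Subgroup.subgroupOf_eq_top.mp he)
  have h1 : P.subgroupOf S < Subgroup.normalizer ((P.subgroupOf S : Subgroup S) : Set S) :=
    (Group.normalizerCondition_of_isNilpotent (G := S)) _ (lt_top_iff_ne_top.mpr hne)
  refine h1.not_ge fun g hg => Subgroup.mem_subgroupOf.mpr ?_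
  rw [h]
  haveI := finite_sub hlt.le
  exact ⟨g.2, mem_normalizer_of_conj_mem fun x hx =>
    Subgroup.mem_subgroupOf.mp ((Subgroup.mem_normalizer_iff.mp hg ⟨x, hlt.le hx⟩).mp
      (Subgroup.mem_subgroupOf.mpr hx))⟩

/-- An automorphism of a receptive subgroup extends to every subgroup of `N_S(P)` whose induced action it
normalizes. -/
theorem exists_extend_aut {P R : Subgroup Ω} (hrec : F.IsReceptive P) (hR : R ≤ normalizerIn S P)
    {α : MulAut P} (hα : α ∈ F.autGroup P)
    (hnorm : ∀ g ∈ R, ∃ h ∈ S, ∀ (x : P) (hx : g * (x : Ω) * g⁻¹ ∈ P),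
      ((α ⟨g * x * g⁻¹, hx⟩ : P) : Ω) = h * (α x : P) * h⁻¹) :
    ∃ ψ ∈ F.Hom R, ∀ (x : Ω) (hx : x ∈ P) (hxR : x ∈ R), ψ ⟨x, hxR⟩ = ((α ⟨x, hx⟩ : P) : Ω) := by
  obtain ⟨φ, hφ, hr, he⟩ := exists_hom_of_aut hrec.1 hα
  obtain ⟨ψ, hψ, hext⟩ := hrec.2 P φ hφ hr
  have hle : R ≤ extender S P φ := fun g hg => by
    obtain ⟨h, hh, hc⟩ := hnorm g hg
    exact mem_extender_of (hR hg) hh fun x hx => by rw [he, he]; exact hc x hx
  obtain ⟨ψ', hψ', e⟩ := exists_restrict hψ hle
  exact ⟨ψ', hψ', fun x hx hxR => by rw [e, hext x hx (hle hxR), he]⟩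

theorem isCentric_of_centralizerIn_le {P : Subgroup Ω} (hP : F.IsFullyCentralized P)
    (hC : centralizerIn S P ≤ P) : F.IsCentric P := by
  refine ⟨hP.1, fun Q hQ => ?_⟩
  obtain ⟨φ, hφ, hQe⟩ := hQ
  haveI : Finite (centralizerIn S Q) := finite_sub (centralizerIn_le Q)
  -- the image of the centre of `P`
  have hz : ∀ c : centralizerIn S P, φ ⟨c, hC c.2⟩ ∈ centralizerIn S Q := fun c => by
    refine ⟨apply_mem hφ _, fun y hy => ?_⟩
    obtain ⟨x, rfl⟩ := hQe.ge hy
    rw [← map_mul, ← map_mul]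
    exact congrArg φ (Subtype.ext (c.2.2 x x.2))
  have hsurj : ∀ y ∈ centralizerIn S Q, ∃ c : centralizerIn S P, φ ⟨c, hC c.2⟩ = y := by
    have hb : Function.Bijective (fun c : centralizerIn S P => (⟨_, hz c⟩ : centralizerIn S Q)) := by
      refine ⟨fun a b h => ?_, ?_⟩
      · exact Subtype.ext (congrArg (fun w : P => (w : Ω))
          (F.injective_of_mem hφ (congrArg Subtype.val h)))
      · haveI : Finite (centralizerIn S P) := finite_sub (centralizerIn_le P)
        exact (Function.Injective.bijective_of_nat_card_le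
          (f := fun c : centralizerIn S P => (⟨_, hz c⟩ : centralizerIn S Q)) (fun a b h => Subtype.ext
          (congrArg (fun w : P => (w : Ω)) (F.injective_of_mem hφ (congrArg Subtype.val h))))
          (hP.2 Q ⟨φ, hφ, hQe⟩)).2
    exact fun y hy => (hb.2 ⟨y, hy⟩).imp fun c hc => congrArg Subtype.val hc
  intro y hy
  obtain ⟨c, rfl⟩ := hsurj y hy
  exact hQe.le ⟨_, rfl⟩

/-- The elements of `N_S(P)` inducing automorphisms in `W`. -/
def preimageAut (S P : Subgroup Ω) (W : Subgroup (MulAut P)) : Subgroup Ω where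
  carrier := {g | g ∈ normalizerIn S P ∧ ∃ w ∈ W, ∀ x : P, ((w x : P) : Ω) = g * x * g⁻¹}
  one_mem' := ⟨one_mem _, 1, one_mem _, fun x => by simp⟩
  mul_mem' := by
    rintro a b ⟨ha, u, hu, hua⟩ ⟨hb, v, hv, hvb⟩
    exact ⟨mul_mem ha hb, u * v, mul_mem hu hv, fun x => by rw [MulAut.mul_apply, hua, hvb]; group⟩
  inv_mem' := by
    rintro a ⟨ha, u, hu, hua⟩
    refine ⟨inv_mem ha, u⁻¹, inv_mem hu, fun x => ?_⟩
    have h := hua (u⁻¹ x)
    rw [MulAut.apply_inv_self] at h
    rw [h]; group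

theorem preimageAut_le (P : Subgroup Ω) (W : Subgroup (MulAut P)) : preimageAut S P W ≤ normalizerIn S P :=
  fun _ h => h.1

theorem le_preimageAut {P : Subgroup Ω} (hP : P ≤ S) {W : Subgroup (MulAut P)} (hW : Inn P ≤ W) :
    P ≤ preimageAut S P W := fun g hg =>
  ⟨le_normalizerIn hP hg, _, hW ⟨⟨g, hg⟩, rfl⟩, fun _ => rfl⟩

/-- An automorphism normalizing `W ≤ Aut_S(P)` extends to the preimage of `W`. -/
theorem exists_extend_preimage {P : Subgroup Ω} (hrec : F.IsReceptive P) {W : Subgroup (MulAut P)}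
    (hW : W ≤ autInducedBy S P) {α : MulAut P} (hα : α ∈ F.autGroup P)
    (hn : ∀ w ∈ W, α * w * α⁻¹ ∈ W) :
    ∃ ψ ∈ F.Hom (preimageAut S P W), ∀ (x : Ω) (hx : x ∈ P) (hxR : x ∈ preimageAut S P W),
      ψ ⟨x, hxR⟩ = ((α ⟨x, hx⟩ : P) : Ω) := by
  refine exists_extend_aut hrec (preimageAut_le P W) hα ?_
  rintro g ⟨-, w, hw, hwg⟩
  obtain ⟨h, hh, hc⟩ := mem_autInducedBy.mp (hW (hn w hw))
  refine ⟨h, hh, fun x hx => ?_⟩
  rw [← hc, MulAut.mul_apply, MulAut.mul_apply, MulAut.inv_apply_self]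
  congr 2
  exact Subtype.ext (hwg x).symm

/-- Induction on the maps of a saturated fusion system. -/
theorem hom_induction (hS : IsPGroup p S) (hF : F.IsSaturated p)
    {M : ∀ P : Subgroup Ω, (P →* Ω) → Prop}
    (comp : ∀ (P Q : Subgroup Ω) (φ : P →* Ω) (ψ : Q →* Ω) (χ : P →* Ω), φ ∈ F.Hom P → ψ ∈ F.Hom Q →
      ∀ h : ∀ x, φ x ∈ Q, (∀ x, χ x = ψ ⟨φ x, h x⟩) → M P φ → M Q ψ → M P χ)
    (restrict : ∀ (P Q : Subgroup Ω) (φ : P →* Ω) (ψ : Q →* Ω) (h : P ≤ Q), ψ ∈ F.Hom Q →
      (∀ x : P, φ x = ψ ⟨x, h x.2⟩) → M Q ψ → M P φ)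
    (aut : ∀ P : Subgroup Ω, F.IsFullyNormalized P → F.IsCentric P → F.IsRadical p P →
      ∀ α ∈ F.autGroup P, (∀ R : Subgroup Ω, Nat.card P < Nat.card R → ∀ χ ∈ F.Hom R, M R χ) →
        M P (P.subtype.comp α.toMonoidHom)) :
    ∀ (P : Subgroup Ω) (φ : P →* Ω), φ ∈ F.Hom P → M P φ := by
  suffices h : ∀ (k : ℕ) (P : Subgroup Ω) (φ : P →* Ω), φ ∈ F.Hom P → Nat.card S - Nat.card P ≤ k → M P φ from
    fun P φ hφ => h _ P φ hφ le_rfl
  intro k
  induction k using Nat.strong_induction_on with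
  | _ k ih =>
    -- maps on strictly larger sources are fine
    intro P φ hφ hk
    have big : ∀ R : Subgroup Ω, Nat.card P < Nat.card R → ∀ χ ∈ F.Hom R, M R χ := by
      intro R hR χ hχ
      have := Subgroup.card_le_of_le (src_le hχ)
      exact ih (Nat.card S - Nat.card R) (by omega) R χ hχ le_rfl
    haveI : Finite P := finite_sub (src_le hφ)
    -- automorphisms of fully normalised subgroups of the same order
    have hauto : ∀ Q : Subgroup Ω, Nat.card Q = Nat.card P → F.IsFullyNormalized Q → ∀ α ∈ F.autGroup Q,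
        M Q (Q.subtype.comp α.toMonoidHom) := by
      intro Q hQc hQ α hα
      haveI : Finite Q := finite_sub hQ.1
      have hrec := receptive_of_fullyNormalized hS hF hQ
      have ext_big : ∀ R : Subgroup Ω, Q < R → ∀ ψ ∈ F.Hom R,
          (∀ (x : Ω) (hx : x ∈ Q) (hxR : x ∈ R), ψ ⟨x, hxR⟩ = ((α ⟨x, hx⟩ : Q) : Ω)) →
            M Q (Q.subtype.comp α.toMonoidHom) := by
        intro R hQR ψ hψ he
        haveI : Finite R := finite_sub (src_le hψ)
        refine restrict Q R _ ψ hQR.le hψ (fun x => (he x x.2 (hQR.le x.2)).symm) (big R ?_ ψ hψ)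
        rw [← hQc]
        exact lt_of_not_ge fun h => hQR.ne (Subgroup.eq_of_le_of_card_ge hQR.le h)
      by_cases hcen : centralizerIn S Q ≤ Q
      · have hc : F.IsCentric Q :=
          isCentric_of_centralizerIn_le (fullyNormalized_props hS hF hQ).1 hcen
        by_cases hrad : F.IsRadical p Q
        · exact aut Q hQ hc hrad α hα (by rw [hQc]; exact big)
        · haveI : Finite (F.autGroup Q) := inferInstance
          set W := (pCore p (F.autGroup Q)).map (F.autGroup Q).subtype with hWdef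
          have hinn : Inn Q ≤ W := by
            intro w hw
            have hwX := inn_le_autGroup F hQ.1 hw
            haveI : ((Inn Q).subgroupOf (F.autGroup Q)).Normal := by
              refine ⟨fun n hn g => ?_⟩
              obtain ⟨q, hq⟩ := Subgroup.mem_subgroupOf.mp hn
              refine Subgroup.mem_subgroupOf.mpr ⟨g.1 q, ?_⟩
              rw [Subgroup.coe_mul, Subgroup.coe_mul, Subgroup.coe_inv, ← hq]
              refine MulEquiv.ext fun x => ?_
              simp [MulAut.mul_apply, MulAut.conj_apply]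
            refine ⟨⟨w, hwX⟩, Cores.le_pCore ?_ (Subgroup.mem_subgroupOf.mpr hw), rfl⟩
            refine IsPGroup.of_injective ?_ (Subgroup.subgroupOfEquivOfLe (inn_le_autGroup F hQ.1)).toMonoidHom
              (MulEquiv.injective _)
            exact (isPGroup_of_le hS hQ.1).of_surjective (MulAut.conj (G := Q)).rangeRestrict
              (MulAut.conj (G := Q)).rangeRestrict_surjective
          have hWT : W ≤ autInducedBy S Q := by
            obtain ⟨R, hR⟩ := (fullyAutomized_of_fullyNormalized hS hF hQ).2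
            rintro _ ⟨w, hw, rfl⟩
            exact Subgroup.mem_subgroupOf.mp (hR ▸ Cores.pCore_le_sylow R hw)
          have hlt : Q < preimageAut S Q W := by
            refine lt_of_le_of_ne (le_preimageAut hQ.1 hinn) fun he => hrad ⟨hQ.1, le_antisymm ?_ hinn⟩
            intro w hw
            obtain ⟨g, hg, hgw⟩ := mem_autInducedBy.mp (hWT hw)
            have hgQ : g ∈ Q := by
              rw [he]; exact ⟨⟨hg, mem_normalizer_of_aut hgw⟩, w, hw, hgw⟩
            exact ⟨⟨g, hgQ⟩, MulEquiv.ext fun x => Subtype.ext (hgw x).symm⟩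
          obtain ⟨ψ, hψ, he⟩ := exists_extend_preimage hrec hWT hα fun w hw => by
            obtain ⟨v, hv, rfl⟩ := hw
            haveI : (pCore p (F.autGroup Q)).Normal := inferInstance
            exact ⟨_, Subgroup.Normal.conj_mem inferInstance v hv ⟨α, hα⟩, rfl⟩
          exact ext_big _ hlt ψ hψ he
      · have hle : Q ⊔ centralizerIn S Q ≤ normalizerIn S Q :=
          sup_le (le_normalizerIn hQ.1) (centralizerIn_le_normalizerIn Q)
        obtain ⟨φ', hφ', hr', he'⟩ := exists_hom_of_aut hQ.1 hα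
        obtain ⟨ψ, hψ, hext⟩ := hrec.2 Q φ' hφ' hr'
        have hQE : Q < extender S Q φ' := lt_of_le_of_ne (le_extender hQ.1 (apply_mem hφ')) fun h =>
          hcen ((centralizerIn_le_extender Q φ').trans h.ge)
        exact ext_big _ hQE ψ hψ fun x hx hxR => (hext x hx hxR).trans (he' _)
    -- the general map
    rcases (src_le hφ).lt_or_eq with hPS | hPS
    · set P' := φ.range with hP'
      have hcard : Nat.card P' = Nat.card P := card_range hφ
      obtain ⟨Q, hQP, hQfn⟩ := exists_isFullyNormalized F (range_le_base hφ)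
      have hPQ : F.IsConj P Q := isConj_trans ⟨φ, hφ, rfl⟩ hQP
      have hQc : Nat.card Q = Nat.card P := isConj_card hPQ
      haveI : Finite Q := finite_sub hQfn.1
      haveI : Finite P' := finite_sub (range_le_base hφ)
      obtain ⟨ψ₂, hψ₂, hψ₂N, hψ₂Q⟩ := exists_normalizer_map hS hF hQfn hQP
      set τ : P →* Ω := ψ₂.comp (φ.codRestrict _ fun x => le_normalizerIn (range_le_base hφ) ⟨x, rfl⟩)
        with hτ
      have hτm : τ ∈ F.Hom P := F.comp_mem hφ hψ₂ _
      have hτr : τ.range = Q := by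
        rw [← hψ₂Q]
        ext y
        constructor
        · rintro ⟨x, rfl⟩
          exact ⟨_, Subgroup.mem_subgroupOf.mpr ⟨x, rfl⟩, rfl⟩
        · rintro ⟨⟨_, _⟩, hz, rfl⟩
          obtain ⟨x, rfl⟩ := Subgroup.mem_subgroupOf.mp hz
          exact ⟨x, rfl⟩
      obtain ⟨a, ha, ψ₁, hψ₁, hψ₁N, hψ₁P, hψ₁e⟩ :=
        exists_twist_extension hS (fullyAutomized_of_fullyNormalized hS hF hQfn)
          (receptive_of_fullyNormalized hS hF hQfn) hτm hτr
      have hNP : Nat.card P < Nat.card (normalizerIn S P) := by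
        haveI : Finite (normalizerIn S P) := finite_sub (normalizerIn_le P)
        exact lt_of_not_ge fun h =>
          (lt_normalizerIn hS hPS).ne (Subgroup.eq_of_le_of_card_ge (le_normalizerIn (src_le hφ)) h)
      have hP'S : P' < S := by
        refine lt_of_le_of_ne (range_le_base hφ) fun h => ?_
        have hh : Nat.card P = Nat.card S := by rw [← hcard, h]
        exact hPS.ne (Subgroup.eq_of_le_of_card_ge hPS.le hh.ge)
      have hNP' : Nat.card P < Nat.card (normalizerIn S P') := by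
        haveI : Finite (normalizerIn S P') := finite_sub (normalizerIn_le P')
        rw [← hcard]
        exact lt_of_not_ge fun h =>
          (lt_normalizerIn hS hP'S).ne (Subgroup.eq_of_le_of_card_ge (le_normalizerIn (range_le_base hφ)) h)
      -- the inverse of `ψ₂`, whose source is as large as `N_S(P')`
      obtain ⟨θ, hθ, -, hθl, -⟩ := exists_inv hψ₂ rfl
      have hMθ : M ψ₂.range θ := big _ (by rw [card_range hψ₂]; exact hNP') θ hθ
      obtain ⟨ψ₁', hψ₁', e₁⟩ := exists_restrict hψ₁ (le_normalizerIn (src_le hφ))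
      have hM1 : M P ψ₁' := restrict P _ ψ₁' ψ₁ _ hψ₁ e₁ (big _ hNP ψ₁ hψ₁)
      have hψ₁'Q : ∀ x : P, ψ₁' x ∈ Q := fun x => by
        rw [e₁, ← hψ₁P]; exact ⟨_, Subgroup.mem_subgroupOf.mpr x.2, rfl⟩
      have hM2 : M Q (Q.subtype.comp (a⁻¹).toMonoidHom) := hauto Q hQc hQfn a⁻¹ (inv_mem ha)
      obtain ⟨χ, hχ, e₂⟩ := exists_comp hψ₁' ((mem_autGroup hQfn.1).mp (inv_mem ha)) hψ₁'Q
      have hM3 : M P χ := comp P Q _ _ χ hψ₁' ((mem_autGroup hQfn.1).mp (inv_mem ha)) hψ₁'Q e₂ hM1 hM2
      have hχτ : ∀ x : P, χ x = τ x := fun x => by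
        rw [e₂]
        have h1 := hψ₁e x (le_normalizerIn (src_le hφ) x.2) (hτr.le ⟨x, rfl⟩)
        have h2 : (⟨ψ₁' x, hψ₁'Q x⟩ : Q) = a ⟨τ x, hτr.le ⟨x, rfl⟩⟩ :=
          Subtype.ext ((e₁ x).trans h1)
        rw [h2]
        show ((a⁻¹ (a _) : Q) : Ω) = _
        rw [MulAut.inv_apply_self]
      have hχm : ∀ x, χ x ∈ ψ₂.range := fun x => by rw [hχτ]; exact ⟨_, rfl⟩
      refine comp P _ χ θ φ hχ hθ hχm (fun x => ?_) hM3 hMθ
      have h := hθl ⟨φ x, le_normalizerIn (range_le_base hφ) ⟨x, rfl⟩⟩ ⟨_, rfl⟩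
      refine Eq.trans h.symm (congrArg θ (Subtype.ext ?_))
      exact ((hχτ x).trans (by rfl)).symm
    · subst hPS
      have hr : φ.range = P := range_eq_of_mem hφ (apply_mem hφ) le_rfl
      have := hauto P rfl (isFullyNormalized_base F) _ (homEquiv_mem_autGroup hφ hr)
      have he : P.subtype.comp (homEquiv hφ hr).toMonoidHom = φ := MonoidHom.ext fun x => rfl
      rwa [he] at this

end Cfsg.Agent.Lib.FusionP3.Induction
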