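import Cfsg.Agent.Lib.FusionP3.Induction

/-!
Puig's theorem on strongly closed subgroups: every map of a saturated system is congruent, modulo a strongly
closed subgroup `T`, to a map defined on the product with `T` and carrying `T` to itself.
-/

set_option autoImplicit false
set_option linter.style.haveILetI false

namespace Cfsg.Agent.Lib.FusionP3.StronglyClosed

open Cfsg Cfsg.FusionSystem Cfsg.Agent.Lib.FS Cfsg.Agent.Lib.FusionP3.Induction

variable {Ω : Type*} [Group Ω]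

/-- In a group, a subgroup `T` normalized by `P` has `P ⊔ T = P T`. -/
theorem exists_mul_of_mem_sup {P T : Subgroup Ω} (h : ∀ u ∈ P, ∀ t ∈ T, u * t * u⁻¹ ∈ T) {g : Ω}
    (hg : g ∈ P ⊔ T) : ∃ u ∈ P, ∃ t ∈ T, g = u * t := by
  rw [Subgroup.sup_eq_closure] at hg
  refine Subgroup.closure_induction (p := fun g _ => ∃ u ∈ P, ∃ t ∈ T, g = u * t) ?_ ?_ ?_ ?_ hg
  · rintro x (hx | hx)
    · exact ⟨x, hx, 1, one_mem _, (mul_one x).symm⟩
    · exact ⟨1, one_mem _, x, hx, (one_mul x).symm⟩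
  · exact ⟨1, one_mem _, 1, one_mem _, (mul_one _).symm⟩
  · rintro _ _ - - ⟨u, hu, t, ht, rfl⟩ ⟨v, hv, s, hs, rfl⟩
    refine ⟨u * v, mul_mem hu hv, v⁻¹ * t * v * s, mul_mem ?_ hs, by group⟩
    simpa using h v⁻¹ (inv_mem hv) t ht
  · rintro _ - ⟨u, hu, t, ht, rfl⟩
    exact ⟨u⁻¹, inv_mem hu, u * t⁻¹ * u⁻¹, h u hu _ (inv_mem ht), by group⟩

/-- The Frattini argument for the intersection of a Sylow subgroup with a normal subgroup. -/
theorem normalizer_inf_sup_eq_top {G : Type*} [Group G] [Finite G] {p : ℕ} [Fact p.Prime] (T : Sylow p G)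
    (N : Subgroup G) [N.Normal] :
    Subgroup.normalizer (((T : Subgroup G) ⊓ N : Subgroup G) : Set G) ⊔ N = ⊤ := by
  have hW : IsPGroup p (((T : Subgroup G) ⊓ N).subgroupOf N) :=
    (T.isPGroup'.of_injective (Subgroup.inclusion inf_le_left) (Subgroup.inclusion_injective _)).of_equiv
      (Subgroup.subgroupOfEquivOfLe (inf_le_right : (T : Subgroup G) ⊓ N ≤ N)).symm
  obtain ⟨Q, hQ⟩ := hW.exists_le_sylow
  have hQG : IsPGroup p ((Q : Subgroup N).map N.subtype) := Q.isPGroup'.map _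
  obtain ⟨R, hR⟩ := hQG.exists_le_sylow
  obtain ⟨a, ha⟩ := MulAction.exists_smul_eq G R T
  have heq : ((T : Subgroup G) ⊓ N).subgroupOf N = Q := by
    refine Subgroup.eq_of_le_of_card_ge hQ ?_
    rw [Nat.card_congr (Subgroup.subgroupOfEquivOfLe (inf_le_right : (T : Subgroup G) ⊓ N ≤ N)).toEquiv]
    refine Nat.card_le_card_of_injective (fun q : (Q : Subgroup N) =>
      (⟨a * (q : N) * a⁻¹, ?_, Subgroup.Normal.conj_mem inferInstance _ (q : N).2 a⟩ :
        ((T : Subgroup G) ⊓ N : Subgroup G))) ?_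
    · have h1 : ((q : N) : G) ∈ R := hR ⟨q, q.2, rfl⟩
      rw [← ha, Sylow.coe_subgroup_smul]
      exact Subgroup.mem_map_of_mem _ h1
    · intro x y hxy
      have := congrArg (fun w : ((T : Subgroup G) ⊓ N : Subgroup G) => (w : G)) hxy
      exact Subtype.ext (Subtype.ext (mul_left_cancel (mul_right_cancel this)))
  have := Sylow.normalizer_sup_eq_top Q
  rwa [← heq, Subgroup.map_subgroupOf_eq_of_le inf_le_right] at this

variable {S : Subgroup Ω} {F : FusionSystem S}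

theorem conj_mem_of_stronglyClosed {T : Subgroup Ω} (hT : F.StronglyClosed T) {g t : Ω} (hg : g ∈ S)
    (ht : t ∈ T) : g * t * g⁻¹ ∈ T :=
  hT.2 T le_rfl _ (F.conj_mem hT.1 hg) ⟨t, ht⟩

theorem apply_mem_of_stronglyClosed {T : Subgroup Ω} (hT : F.StronglyClosed T) {P : Subgroup Ω}
    {φ : P →* Ω} (hφ : φ ∈ F.Hom P) (x : P) (hx : (x : Ω) ∈ T) : φ x ∈ T := by
  obtain ⟨ψ, hψ, e⟩ := exists_restrict hφ (inf_le_left : P ⊓ T ≤ P)
  have := hT.2 _ inf_le_right ψ hψ ⟨x, x.2, hx⟩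
  rwa [e] at this

theorem map_subgroupOf_eq {T : Subgroup Ω} [Finite T] (hT : F.StronglyClosed T) {P : Subgroup Ω}
    {φ : P →* Ω} (hφ : φ ∈ F.Hom P) (hle : T ≤ P) : (T.subgroupOf P).map φ = T := by
  refine Subgroup.eq_of_le_of_card_ge ?_ ?_
  · rintro _ ⟨x, hx, rfl⟩
    exact apply_mem_of_stronglyClosed hT hφ x hx
  · rw [Subgroup.card_map_of_injective (F.injective_of_mem hφ),
      Nat.card_congr (Subgroup.subgroupOfEquivOfLe hle).toEquiv]

/-- `φ` has a lift modulo `T`. -/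
def HasLift (F : FusionSystem S) (T P : Subgroup Ω) (φ : P →* Ω) : Prop :=
  ∃ ψ ∈ F.Hom (P ⊔ T), ∀ x : P, (φ x)⁻¹ * ψ (Subgroup.inclusion le_sup_left x) ∈ T

theorem hasLift_restrict {T P Q : Subgroup Ω} {φ : P →* Ω} {ψ : Q →* Ω} (h : P ≤ Q)
    (he : ∀ x : P, φ x = ψ ⟨x, h x.2⟩) (hψ : HasLift F T Q ψ) : HasLift F T P φ := by
  obtain ⟨ψ', hψ', hc⟩ := hψ
  obtain ⟨χ, hχ, e⟩ := exists_restrict hψ' (sup_le_sup_right h T)
  refine ⟨χ, hχ, fun x => ?_⟩
  rw [e, he]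
  exact hc ⟨x, h x.2⟩

theorem hasLift_comp {T : Subgroup Ω} (hT : F.StronglyClosed T) {P Q : Subgroup Ω} {φ : P →* Ω} {ψ : Q →* Ω}
    {χ : P →* Ω} (hψQ : ψ ∈ F.Hom Q) (h : ∀ x, φ x ∈ Q) (he : ∀ x, χ x = ψ ⟨φ x, h x⟩)
    (hφ : HasLift F T P φ) (hψ : HasLift F T Q ψ) : HasLift F T P χ := by
  obtain ⟨φ', hφ', hc⟩ := hφ
  obtain ⟨ψ', hψ', hc'⟩ := hψ
  have hm : ∀ y : ↥(P ⊔ T), φ' y ∈ Q ⊔ T := by
    intro y
    have hnorm : ∀ u ∈ P, ∀ t ∈ T, u * t * u⁻¹ ∈ T := fun u hu t ht =>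
      conj_mem_of_stronglyClosed hT ((le_sup_left.trans (src_le hφ')) hu) ht
    obtain ⟨u, hu, t, ht, hy⟩ := exists_mul_of_mem_sup hnorm y.2
    have : y = Subgroup.inclusion le_sup_left ⟨u, hu⟩ * Subgroup.inclusion le_sup_right ⟨t, ht⟩ :=
      Subtype.ext hy
    rw [this, map_mul]
    refine mul_mem ?_ (Subgroup.mem_sup_right (apply_mem_of_stronglyClosed hT hφ' _ ht))
    have h1 := Subgroup.mem_sup_right (S := Q) (hc ⟨u, hu⟩)
    simpa using mul_mem (Subgroup.mem_sup_left (T := T) (h ⟨u, hu⟩)) h1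
  obtain ⟨χ', hχ', e⟩ := exists_comp hφ' hψ' hm
  refine ⟨χ', hχ', fun x => ?_⟩
  rw [e, he]
  have h2 := hc' ⟨φ x, h x⟩
  set d : ↥(Q ⊔ T) := ⟨(φ x)⁻¹ * φ' (Subgroup.inclusion le_sup_left x), Subgroup.mem_sup_right (hc x)⟩
  have hsplit : (⟨φ' (Subgroup.inclusion le_sup_left x), hm _⟩ : ↥(Q ⊔ T)) =
      Subgroup.inclusion le_sup_left ⟨φ x, h x⟩ * d := by
    apply Subtype.ext
    simp [d]
  rw [hsplit, map_mul, ← mul_assoc]
  exact mul_mem h2 (apply_mem_of_stronglyClosed hT hψ' d (hc x))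

variable [Finite S] {p : ℕ} [Fact p.Prime]

/-- Puig: every map lifts modulo a strongly closed subgroup. -/
theorem hasLift (hS : IsPGroup p S) (hF : F.IsSaturated p) {T : Subgroup Ω} (hT : F.StronglyClosed T)
    {P : Subgroup Ω} {φ : P →* Ω} (hφ : φ ∈ F.Hom P) : HasLift F T P φ := by
  revert P φ
  suffices h : ∀ (P : Subgroup Ω) (φ : P →* Ω), φ ∈ F.Hom P → HasLift F T P φ from
    fun {P} {φ} hφ => h P φ hφ
  refine hom_induction (M := fun P φ => HasLift F T P φ) hS hF ?_ ?_ ?_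
  · exact fun P Q φ ψ χ _ hψQ h he h1 h2 => hasLift_comp hT hψQ h he h1 h2
  · exact fun P Q φ ψ h _ he h1 => hasLift_restrict h he h1
  · intro P hPfn _ _ α hα big
    haveI := finite_sub hPfn.1
    by_cases hTP : T ≤ P
    · obtain ⟨φ, hφ, -, he⟩ := exists_hom_of_aut hPfn.1 hα
      obtain ⟨ψ, hψ, e⟩ := exists_restrict hφ (sup_le le_rfl hTP : P ⊔ T ≤ P)
      refine ⟨ψ, hψ, fun x => ?_⟩
      rw [e, he]
      simp
    -- the automorphisms congruent to inner ones modulo `T`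
    set X := F.autGroup P
    have hXT : ∀ β ∈ X, ∀ x : P, (x : Ω) ∈ T → ((β x : P) : Ω) ∈ T := fun β hβ x hx =>
      apply_mem_of_stronglyClosed hT ((mem_autGroup hPfn.1).mp hβ) x hx
    let K : Subgroup X :=
      { carrier := {β | ∃ u : P, ∀ x : P, (((u * x * u⁻¹)⁻¹ * β.1 x : P) : Ω) ∈ T}
        one_mem' := ⟨1, fun x => by simp⟩
        mul_mem' := by
          rintro β γ ⟨u, hu⟩ ⟨v, hv⟩
          refine ⟨u * v, fun x => ?_⟩
          have h1 := hu (γ.1 x)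
          have h2 := conj_mem_of_stronglyClosed hT (hPfn.1 u.2) (hv x)
          have h3 := mul_mem h2 h1
          convert h3 using 1
          simp only [Subgroup.coe_mul, Subgroup.coe_inv, MulAut.mul_apply]
          group
        inv_mem' := by
          rintro β ⟨u, hu⟩
          refine ⟨u⁻¹, fun x => ?_⟩
          have h1 := hu (β⁻¹.1 x)
          rw [Subgroup.coe_inv, MulAut.apply_inv_self] at h1
          have h2 := conj_mem_of_stronglyClosed hT (hPfn.1 (inv_mem u.2)) (inv_mem h1)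
          convert h2 using 1
          simp only [Subgroup.coe_mul, Subgroup.coe_inv]
          group }
    haveI hKn : K.Normal := by
      refine ⟨?_⟩
      rintro β ⟨u, hu⟩ γ
      refine ⟨γ.1 u, fun x => ?_⟩
      have h1 := hXT _ γ.2 _ (hu (γ⁻¹.1 x))
      convert h1 using 1
      simp [Subgroup.coe_mul, MulAut.mul_apply, Subgroup.coe_inv, MulAut.apply_inv_self]
    obtain ⟨R, hR⟩ := (fullyAutomized_of_fullyNormalized hS hF hPfn).2
    set W : Subgroup (MulAut P) := ((R : Subgroup X) ⊓ K).map X.subtype with hWdef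
    have hWS : W ≤ autInducedBy S P := by
      rintro _ ⟨w, hw, rfl⟩
      exact Subgroup.mem_subgroupOf.mp (hR ▸ hw.1)
    have hInn : Inn P ≤ W := by
      rintro _ ⟨u, rfl⟩
      refine ⟨⟨_, inn_le_autGroup F hPfn.1 ⟨u, rfl⟩⟩, ⟨?_, u, fun x => by simp [MulAut.conj_apply, mul_assoc]⟩, rfl⟩
      exact hR ▸ Subgroup.mem_subgroupOf.mpr (inn_le_autInducedBy hPfn.1 ⟨u, rfl⟩)
    -- an element of `T` normalizing `P` outside `P`
    have hnormT : ∀ u ∈ P, ∀ t ∈ T, u * t * u⁻¹ ∈ T := fun u hu t ht =>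
      conj_mem_of_stronglyClosed hT (hPfn.1 hu) ht
    have hPT : P ⊔ T ≤ S := sup_le hPfn.1 hT.1
    haveI := finite_sub hPT
    have hlt : P < P ⊔ T := left_lt_sup.mpr hTP
    obtain ⟨g, hg, hgP⟩ := SetLike.exists_of_lt (lt_normalizerIn (isPGroup_of_le hS hPT) hlt)
    obtain ⟨u, hu, t, ht, rfl⟩ := exists_mul_of_mem_sup hnormT hg.1
    have htP : t ∉ P := fun h => hgP (mul_mem hu h)
    have htN : t ∈ Subgroup.normalizer (P : Set Ω) :=
      (Subgroup.mul_mem_cancel_left _ (Subgroup.le_normalizer hu)).mp hg.2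
    obtain ⟨τ, hτ⟩ : ∃ τ : MulAut P, ∀ x : P, ((τ x : P) : Ω) = t * x * t⁻¹ :=
      ⟨P.normalizerMonoidHom ⟨t, htN⟩, fun _ => rfl⟩
    have hτW : τ ∈ W := by
      have hτS : τ ∈ autInducedBy S P := mem_autInducedBy.mpr ⟨t, hT.1 ht, hτ⟩
      refine ⟨⟨τ, autInducedBy_le_autGroup F hPfn.1 hτS⟩, ⟨?_, 1, fun x => ?_⟩, rfl⟩
      · exact hR ▸ Subgroup.mem_subgroupOf.mpr hτS
      · have h1 : (x : Ω)⁻¹ * t * x * t⁻¹ ∈ T :=
          mul_mem (by simpa using hnormT _ (inv_mem x.2) t ht) (inv_mem ht)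
        convert h1 using 1
        simp [hτ, mul_assoc]
    have hbig : Nat.card P < Nat.card (preimageAut S P W) := by
      haveI := finite_sub ((preimageAut_le P W).trans (normalizerIn_le (S := S) P))
      refine lt_of_not_ge fun h => htP ?_
      rw [Subgroup.eq_of_le_of_card_ge (le_preimageAut hPfn.1 hInn) h]
      exact ⟨⟨hT.1 ht, htN⟩, τ, hτW, hτ⟩
    -- Frattini
    have htop := normalizer_inf_sup_eq_top R K
    obtain ⟨n, hn, k, hk, hnk⟩ := Subgroup.mem_sup_of_normal_right.mp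
      (show (⟨α, hα⟩ : X) ∈ Subgroup.normalizer (((R : Subgroup X) ⊓ K : Subgroup X) : Set X) ⊔ K by
        rw [htop]; exact Subgroup.mem_top _)
    obtain ⟨ψ, hψ, hψe⟩ := exists_extend_preimage (receptive_of_fullyNormalized hS hF hPfn) hWS n.2 (by
      rintro _ ⟨w, hw, rfl⟩
      exact ⟨n * w * n⁻¹, (Subgroup.mem_normalizer_iff.mp hn w).mp hw, rfl⟩)
    have hn' : HasLift F T P (P.subtype.comp n.1.toMonoidHom) :=
      hasLift_restrict (le_preimageAut hPfn.1 hInn)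
        (fun x => (hψe x x.2 (le_preimageAut hPfn.1 hInn x.2)).symm) (big _ hbig ψ hψ)
    have hk' : HasLift F T P (P.subtype.comp k.1.toMonoidHom) := by
      obtain ⟨v, hv⟩ := hk
      exact ⟨conjHom _ v, F.conj_mem hPT (hPfn.1 v.2), fun x => by
        simpa [mul_assoc] using inv_mem (hv x)⟩
    refine hasLift_comp hT ((mem_autGroup hPfn.1).mp n.2) (fun x => (k.1 x).2) (fun x => ?_) hk' hn'
    have := congrArg (fun w : X => ((w.1 x : P) : Ω)) hnk
    simpa [MulAut.mul_apply] using this.symm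

/-- If `T` is strongly closed, so is `T C_S(T)`. -/
theorem stronglyClosed_sup_centralizerIn (hS : IsPGroup p S) (hF : F.IsSaturated p) {T : Subgroup Ω}
    (hT : F.StronglyClosed T) : F.StronglyClosed (T ⊔ centralizerIn S T) := by
  haveI := finite_sub hT.1
  refine ⟨sup_le hT.1 (centralizerIn_le T), fun R hR φ hφ x => ?_⟩
  obtain ⟨ψ, hψ, hc⟩ := hasLift hS hF hT hφ
  have hnorm : ∀ u ∈ centralizerIn S T, ∀ t ∈ T, u * t * u⁻¹ ∈ T := fun u hu t ht => by
    rw [(mem_centralizerIn'.mp hu).2 t ht]; exact ht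
  have hx : (x : Ω) ∈ centralizerIn S T ⊔ T := sup_comm T (centralizerIn S T) ▸ hR x.2
  obtain ⟨c, hcc, t, ht, hxct⟩ := exists_mul_of_mem_sup hnorm hx
  have hcS : c ∈ R ⊔ T := by
    have : c = (x : Ω) * t⁻¹ := by rw [hxct]; group
    rw [this]
    exact mul_mem (Subgroup.mem_sup_left x.2) (Subgroup.mem_sup_right (inv_mem ht))
  have h1 : ψ ⟨c, hcS⟩ ∈ centralizerIn S T := by
    refine mem_centralizerIn'.mpr ⟨apply_mem hψ _, fun y hy => ?_⟩
    obtain ⟨z, hz, rfl⟩ := (map_subgroupOf_eq hT hψ le_sup_right).ge hy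
    rw [← map_inv, ← map_mul, ← map_mul]
    exact congrArg ψ (Subtype.ext ((mem_centralizerIn'.mp hcc).2 z hz))
  have h2 : ψ (Subgroup.inclusion le_sup_left x) ∈ T ⊔ centralizerIn S T := by
    have : Subgroup.inclusion le_sup_left x =
        (⟨c, hcS⟩ : ↥(R ⊔ T)) * Subgroup.inclusion le_sup_right ⟨t, ht⟩ := Subtype.ext hxct
    rw [this, map_mul]
    exact mul_mem (Subgroup.mem_sup_right h1)
      (Subgroup.mem_sup_left (apply_mem_of_stronglyClosed hT hψ _ ht))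
  have h3 := mul_mem h2 (Subgroup.mem_sup_left (T := centralizerIn S T) (inv_mem (hc x)))
  simpa [mul_assoc] using h3

end Cfsg.Agent.Lib.FusionP3.StronglyClosed
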