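import Cfsg.Agent.Lib.FusionP3.Transfer
import Cfsg.Agent.Lib.FusionP3.Induction
import Cfsg.Agent.Lib.Transfer.PResidual
import Cfsg.Agent.Lib.PGroups.Frattini

/-!
Focal and hyperfocal subgroups of saturated fusion systems and Tate's theorem.
-/

set_option autoImplicit false
set_option linter.style.haveILetI false
set_option linter.unusedSectionVars false

namespace Cfsg.Agent.Lib.FusionP3.Tate

open Cfsg Cfsg.FusionSystem Cfsg.Agent.Lib.FS Cfsg.Agent.Lib.FusionP3.Induction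
open scoped commutatorElement

universe u

variable {Ω : Type u} [Group Ω] {S : Subgroup Ω}

/-- `[S, S]` as a subgroup of the ambient group. -/
def derivedOf (S : Subgroup Ω) : Subgroup Ω := (commutator S).map S.subtype

theorem focal_gen_mem {F : FusionSystem S} {P : Subgroup Ω} {φ : P →* Ω} (hφ : φ ∈ F.Hom P) (x : P) :
    (x : Ω)⁻¹ * φ x ∈ F.focalSubgroup :=
  Subgroup.subset_closure ⟨P, φ, x, hφ, rfl⟩

theorem focal_le (F : FusionSystem S) : F.focalSubgroup ≤ S :=
  (Subgroup.closure_le _).mpr fun _ ⟨_, _, x, hφ, hy⟩ =>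
    hy ▸ mul_mem (inv_mem (src_le hφ x.2)) (apply_mem hφ x)

theorem focal_mono {F H : FusionSystem S} (h : H.IsSubsystemOf F) : H.focalSubgroup ≤ F.focalSubgroup :=
  (Subgroup.closure_le _).mpr fun _ ⟨P, _, x, hφ, hy⟩ => hy ▸ focal_gen_mem (h P hφ) x

theorem derived_le_focal (F : FusionSystem S) : derivedOf S ≤ F.focalSubgroup := by
  rintro _ ⟨c, hc, rfl⟩
  rw [commutator_eq_closure] at hc
  refine Subgroup.closure_induction (p := fun (c : S) _ => (c : Ω) ∈ F.focalSubgroup) ?_ (one_mem _)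
    (fun a b _ _ ha hb => mul_mem ha hb) (fun a _ ha => inv_mem ha) hc
  rintro _ ⟨a, b, rfl⟩
  have h := focal_gen_mem (F.conj_mem le_rfl b.2) (⟨(a : Ω)⁻¹, inv_mem a.2⟩ : S)
  simpa [commutatorElement_def, mul_assoc] using h

theorem normal_of_derived_le {C : Subgroup Ω} (h : derivedOf S ≤ C) : (C.subgroupOf S).Normal := by
  refine ⟨fun c hc g => Subgroup.mem_subgroupOf.mpr ?_⟩
  have h1 : ((⁅g, c⁆ : S) : Ω) ∈ C :=
    h ⟨_, Subgroup.commutator_mem_commutator (Subgroup.mem_top g) (Subgroup.mem_top c), rfl⟩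
  have := mul_mem h1 (Subgroup.mem_subgroupOf.mp hc)
  simpa [commutatorElement_def] using this

theorem hyperfocal_gen_mem {F : FusionSystem S} {p : ℕ} {P : Subgroup Ω} (hP : P ≤ S)
    {α : F.autGroup P} (hα : α ∈ pResidual p (F.autGroup P)) (x : P) :
    (x : Ω)⁻¹ * (α.1 x : P) ∈ F.hyperfocalSubgroup p :=
  Subgroup.subset_closure ⟨P, α, x, hP, hα, rfl⟩

theorem hyperfocal_le_focal (F : FusionSystem S) (p : ℕ) : F.hyperfocalSubgroup p ≤ F.focalSubgroup :=
  (Subgroup.closure_le _).mpr fun _ ⟨P, α, x, hP, _, hy⟩ =>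
    hy ▸ focal_gen_mem ((mem_autGroup hP).mp α.2) x

theorem hyperfocal_le (F : FusionSystem S) (p : ℕ) : F.hyperfocalSubgroup p ≤ S :=
  (hyperfocal_le_focal F p).trans (focal_le F)

theorem hyperfocal_mono {F H : FusionSystem S} {p : ℕ} (h : H.IsSubsystemOf F) :
    H.hyperfocalSubgroup p ≤ F.hyperfocalSubgroup p := by
  refine (Subgroup.closure_le _).mpr ?_
  rintro _ ⟨P, α, x, hP, hα, rfl⟩
  have hle : H.autGroup P ≤ F.autGroup P := fun a ha =>
    (mem_autGroup hP).mpr (h P ((mem_autGroup hP).mp ha))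
  exact hyperfocal_gen_mem hP (Cfsg.Agent.Lib.Transfer.PResidual.map_pResidual_le (Subgroup.inclusion hle) ⟨α, hα, rfl⟩) x

theorem hyperfocal_conj_mem {F : FusionSystem S} {p : ℕ} {g y : Ω} (hg : g ∈ S)
    (hy : y ∈ F.hyperfocalSubgroup p) : g * y * g⁻¹ ∈ F.hyperfocalSubgroup p := by
  refine Subgroup.closure_induction (p := fun y _ => g * y * g⁻¹ ∈ F.hyperfocalSubgroup p) ?_ ?_ ?_ ?_ hy
  · rintro _ ⟨P, α, x, hP, hα, rfl⟩
    have hφ := F.conj_mem hP hg
    let e := homEquiv hφ (rfl : (conjHom P g).range = (conjHom P g).range)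
    let f : F.autGroup P →* F.autGroup (conjHom P g).range :=
      ((MulAut.congr e).toMonoidHom.comp (F.autGroup P).subtype).codRestrict _
        fun a => congr_mem_autGroup hφ rfl a.2
    have h := hyperfocal_gen_mem (range_le_base hφ) (Cfsg.Agent.Lib.Transfer.PResidual.map_pResidual_le f ⟨α, hα, rfl⟩) (e x)
    have he : ((f α).1 (e x) : Ω) = g * (α.1 x : P) * g⁻¹ := by
      show ((e (α.1 (e.symm (e x))) : (conjHom P g).range) : Ω) = _
      rw [MulEquiv.symm_apply_apply]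
      rfl
    rw [he, show ((e x : (conjHom P g).range) : Ω) = g * x * g⁻¹ from rfl] at h
    convert h using 1
    group
  · simp
  · intro a b _ _ ha hb
    convert mul_mem ha hb using 1
    group
  · intro a _ ha
    convert inv_mem ha using 1
    group

variable [Finite S] {p : ℕ} [Fact p.Prime] {F : FusionSystem S}

/-- Every map is conjugation by an element of `S` modulo the hyperfocal subgroup. -/
theorem exists_conj_mod_hyperfocal (hS : IsPGroup p S) (hF : F.IsSaturated p) :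
    ∀ (P : Subgroup Ω) (φ : P →* Ω), φ ∈ F.Hom P →
      ∃ g ∈ S, ∀ x : P, (g * x * g⁻¹)⁻¹ * φ x ∈ F.hyperfocalSubgroup p := by
  refine hom_induction (M := fun P φ => ∃ g ∈ S, ∀ x : P, (g * x * g⁻¹)⁻¹ * φ x ∈ F.hyperfocalSubgroup p)
    hS hF ?_ ?_ ?_
  · rintro P Q φ ψ χ - hψ h he ⟨g, hg, hφg⟩ ⟨k, hk, hψk⟩
    refine ⟨k * g, mul_mem hk hg, fun x => ?_⟩
    have h1 := hyperfocal_conj_mem hk (hφg x)
    have h2 := hψk ⟨φ x, h x⟩
    rw [he]
    convert mul_mem h1 h2 using 1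
    group
  · rintro P Q φ ψ h - he ⟨g, hg, hψg⟩
    exact ⟨g, hg, fun x => by rw [he]; exact hψg ⟨x, h x.2⟩⟩
  · intro P hP _ _ α hα _
    haveI := finite_sub hP.1
    obtain ⟨R, hR⟩ := (fullyAutomized_of_fullyNormalized hS hF hP).2
    obtain ⟨n, hn, r, hr, hnr⟩ := Cfsg.Agent.Lib.Transfer.PResidual.exists_mul_sylow R (⟨α, hα⟩ : F.autGroup P)
    rw [← SetLike.mem_coe, ← Sylow.coe_coe, hR, SetLike.mem_coe, Subgroup.mem_subgroupOf,
      mem_autInducedBy] at hr
    obtain ⟨g, hg, hgr⟩ := hr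
    refine ⟨g, hg, fun x => ?_⟩
    have h := hyperfocal_gen_mem hP.1 hn (r.1 x)
    have he : α x = n.1 (r.1 x) := by
      rw [show α = (n * r).1 from (congrArg Subtype.val hnr).symm]; rfl
    rw [hgr] at h
    simpa [he] using h

theorem hyperfocal_stronglyClosed (hS : IsPGroup p S) (hF : F.IsSaturated p) :
    F.StronglyClosed (F.hyperfocalSubgroup p) := by
  refine ⟨hyperfocal_le F p, fun R hR φ hφ x => ?_⟩
  obtain ⟨g, hg, h⟩ := exists_conj_mod_hyperfocal hS hF R φ hφ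
  have := mul_mem (hyperfocal_conj_mem hg (hR x.2)) (h x)
  rwa [mul_inv_cancel_left] at this

/-- The focal subgroup is the product of the hyperfocal subgroup and the derived subgroup. -/
theorem focal_eq_sup (hS : IsPGroup p S) (hF : F.IsSaturated p) :
    F.focalSubgroup = F.hyperfocalSubgroup p ⊔ derivedOf S := by
  refine le_antisymm ((Subgroup.closure_le _).mpr ?_)
    (sup_le (hyperfocal_le_focal F p) (derived_le_focal F))
  rintro _ ⟨P, φ, x, hφ, rfl⟩
  obtain ⟨g, hg, h⟩ := exists_conj_mod_hyperfocal hS hF P φ hφ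
  have hc : (x : Ω)⁻¹ * g * x * g⁻¹ ∈ derivedOf S := by
    refine ⟨⁅(⟨x, src_le hφ x.2⟩ : S)⁻¹, ⟨g, hg⟩⁆,
      Subgroup.commutator_mem_commutator (Subgroup.mem_top _) (Subgroup.mem_top _), ?_⟩
    simp [commutatorElement_def, mul_assoc]
  have := mul_mem (Subgroup.mem_sup_right (S := F.hyperfocalSubgroup p) hc)
    (Subgroup.mem_sup_left (T := derivedOf S) (h x))
  simpa [mul_assoc] using this

theorem eq_one_of_pow_eq_one {G : Type*} [Group G] {d : G} (hG : IsPGroup p G) {m : ℕ} (hm : ¬ p ∣ m)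
    (h : d ^ m = 1) : d = 1 := by
  obtain ⟨k, hk⟩ := hG d
  have h1 := Nat.dvd_gcd (orderOf_dvd_of_pow_eq_one hk) (orderOf_dvd_of_pow_eq_one h)
  rw [((Fact.out : p.Prime).coprime_iff_not_dvd.mpr hm).pow_left k, Nat.dvd_one,
    orderOf_eq_one_iff] at h1
  exact h1

/-- Tate's theorem, focal form. -/
theorem focal_le_of_le_sup_frattini (hS : IsPGroup p S) (hF : F.IsSaturated p) {C : Subgroup Ω}
    (hDC : derivedOf S ≤ C) (hCF : C ≤ F.focalSubgroup)
    (h : F.focalSubgroup ≤ (frattini S).map S.subtype ⊔ C) : F.focalSubgroup ≤ C := by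
  haveI hn := normal_of_derived_le hDC
  let A := S ⧸ C.subgroupOf S
  let _ : CommGroup A :=
    { (inferInstance : Group A) with
      mul_comm := fun a b => by
        obtain ⟨a, rfl⟩ := QuotientGroup.mk_surjective a
        obtain ⟨b, rfl⟩ := QuotientGroup.mk_surjective b
        rw [← QuotientGroup.mk_mul, ← QuotientGroup.mk_mul, QuotientGroup.eq, Subgroup.mem_subgroupOf]
        exact hDC ⟨_, Subgroup.commutator_mem_commutator (Subgroup.mem_top b⁻¹) (Subgroup.mem_top a⁻¹),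
          by simp [commutatorElement_def, mul_assoc]⟩ }
  let θ : S →* A := QuotientGroup.mk' _
  let B : Subgroup A := (F.focalSubgroup.subgroupOf S).map θ
  obtain ⟨m, hm, hτ⟩ := Transfer.exists_invariant_hom hS hF
  obtain ⟨τ, hinv, hcong⟩ := hτ θ B fun P φ hφ x => by
    rw [← map_div]
    refine Subgroup.mem_map_of_mem θ (Subgroup.mem_subgroupOf.mpr ?_)
    have h1 := (normal_of_derived_le (derived_le_focal F)).conj_mem
      ⟨(x : Ω)⁻¹ * φ x, mul_mem (inv_mem (src_le hφ x.2)) (apply_mem hφ x)⟩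
      (Subgroup.mem_subgroupOf.mpr (focal_gen_mem hφ x)) ⟨x, src_le hφ x.2⟩
    rw [Subgroup.mem_subgroupOf] at h1
    convert h1 using 1
    simp [div_eq_mul_inv, mul_assoc]
  -- the transfer kills the focal subgroup
  have hker : F.focalSubgroup.subgroupOf S ≤ τ.ker := by
    intro y hy
    suffices ∀ z ∈ F.focalSubgroup, ∀ hz : z ∈ S, τ ⟨z, hz⟩ = 1 from this y hy y.2
    intro z hz
    refine Subgroup.closure_induction (p := fun z _ => ∀ hz : z ∈ S, τ ⟨z, hz⟩ = 1) ?_ ?_ ?_ ?_ hz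
    · rintro _ ⟨P, φ, x, hφ, rfl⟩ hz
      have := hinv P φ hφ x
      rw [show (⟨(x : Ω)⁻¹ * φ x, hz⟩ : S) = (⟨x, src_le hφ x.2⟩ : S)⁻¹ * ⟨φ x, apply_mem hφ x⟩ from rfl,
        map_mul, map_inv, this, inv_mul_cancel]
    · intro hz; exact map_one τ
    · intro a b ha hb h1 h2 hz
      rw [show (⟨a * b, hz⟩ : S) = ⟨a, focal_le F ha⟩ * ⟨b, focal_le F hb⟩ from rfl, map_mul, h1, h2,
        one_mul]
    · intro a ha h1 hz
      rw [show (⟨a⁻¹, hz⟩ : S) = (⟨a, focal_le F ha⟩ : S)⁻¹ from rfl, map_inv, h1, inv_one]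
  let δ : S →* A := τ / θ ^ m
  have hδC : ∀ c ∈ C.subgroupOf S, δ c = 1 := fun c hc => by
    show τ c / θ c ^ m = 1
    rw [hker (Subgroup.mem_subgroupOf.mpr (hCF hc)), show θ c = 1 from (QuotientGroup.eq_one_iff c).mpr hc,
      one_pow, div_one]
  let δ' : A →* A := QuotientGroup.lift _ δ fun c hc => hδC c hc
  have hpow : frattini S ≤ ((powMonoidHom p : A →* A).range).comap θ := by
    refine PGroups.frattini_le_of_pow_commutator _ (fun x => ⟨θ x, (map_pow θ x p).symm⟩) ?_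
    intro c hc
    have h1 : θ c = 1 :=
      (QuotientGroup.eq_one_iff c).mpr (Subgroup.mem_subgroupOf.mpr (hDC ⟨c, hc, rfl⟩))
    rw [Subgroup.mem_comap, h1]
    exact one_mem _
  have hBp : B ≤ (powMonoidHom p : A →* A).range := by
    have h2 : F.focalSubgroup ≤ (((powMonoidHom p : A →* A).range).comap θ).map S.subtype := by
      refine h.trans (sup_le (Subgroup.map_mono hpow) fun c hc => ?_)
      refine ⟨⟨c, focal_le F (hCF hc)⟩, ?_, rfl⟩
      rw [SetLike.mem_coe, Subgroup.mem_comap,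
        show θ ⟨c, focal_le F (hCF hc)⟩ = 1 from
          (QuotientGroup.eq_one_iff _).mpr (Subgroup.mem_subgroupOf.mpr hc)]
      exact one_mem _
    rintro _ ⟨y, hy, rfl⟩
    obtain ⟨w, hw, hwy⟩ := h2 hy
    rwa [Subtype.ext hwy] at hw
  have hroot : ∀ b ∈ B, ∃ c ∈ B, c ^ p = b ^ m := by
    rintro _ ⟨y, hy, rfl⟩
    obtain ⟨a, ha⟩ := hBp ⟨y, hy, rfl⟩
    obtain ⟨a, rfl⟩ := QuotientGroup.mk'_surjective (C.subgroupOf S) a
    refine ⟨(δ a)⁻¹, inv_mem (hcong a), ?_⟩
    have h1 : δ y = δ (a ^ p) := by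
      show δ' (θ y) = δ' (θ (a ^ p))
      rw [map_pow θ, ← ha]
      rfl
    have h2 : δ y = (θ y ^ m)⁻¹ := by
      show τ y / θ y ^ m = _
      rw [hker hy, one_div]
    rw [inv_pow, ← map_pow, ← h1, h2, inv_inv]
  have hA : IsPGroup p A := hS.to_quotient _
  have hB1 : B = ⊥ := by
    by_contra hne
    haveI : Nontrivial B := (Subgroup.nontrivial_iff_ne_bot B).mpr hne
    have hBG : IsPGroup p B := hA.to_subgroup B
    -- multiplication by `p` is onto
    have hsurj : Function.Surjective (powMonoidHom p : B →* B) := by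
      intro b
      obtain ⟨v, hv⟩ := (powCoprime (G := B) (n := m) ((hBG.exists_card_eq).elim fun k hk => hk ▸
        ((Fact.out : p.Prime).coprime_iff_not_dvd.mpr hm).pow_left k)).surjective b
      obtain ⟨c, hc, hcv⟩ := hroot v v.2
      exact ⟨⟨c, hc⟩, by rw [← hv]; exact Subtype.ext hcv⟩
    have hinj := Finite.injective_iff_surjective.mpr hsurj
    obtain ⟨b, hb⟩ := exists_prime_orderOf_dvd_card' p (G := B) (by
      obtain ⟨k, hk0, hk⟩ := hBG.nontrivial_iff_card.mp inferInstance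
      rw [hk]; exact dvd_pow_self p (by omega))
    have : b = 1 := hinj (by
      show b ^ p = (1 : B) ^ p
      rw [one_pow, ← hb, pow_orderOf_eq_one])
    rw [this, orderOf_one] at hb
    exact (Fact.out : p.Prime).one_lt.ne hb
  intro y hy
  have := (Subgroup.map_eq_bot_iff _).mp hB1 (show (⟨y, focal_le F hy⟩ : S) ∈ _ from hy)
  exact Subgroup.mem_subgroupOf.mp ((QuotientGroup.eq_one_iff (⟨y, focal_le F hy⟩ : S)).mp this)

/-- Coprime action: a homomorphism fixed on the commutators by an automorphism of order prime to `p` kills them. -/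
theorem eq_one_of_coprime {P E : Type*} [Group P] [Group E] (f : P →* E) (α : MulAut P)
    (hα : (orderOf α).Coprime p) (hfin : 0 < orderOf α)
    (hE : ∀ x, ∃ k, f (x⁻¹ * α x) ^ p ^ k = 1)
    (h : ∀ x, f (α (x⁻¹ * α x)) = f (x⁻¹ * α x)) (x : P) : f (x⁻¹ * α x) = 1 := by
  have key : ∀ k : ℕ, f (x⁻¹ * (α ^ k) x) = f (x⁻¹ * α x) ^ k ∧
      f (α (x⁻¹ * (α ^ k) x)) = f (x⁻¹ * (α ^ k) x) := by
    intro k
    induction k with
    | zero => simp
    | succ k ih =>
      have e : x⁻¹ * (α ^ (k + 1)) x = x⁻¹ * α x * α (x⁻¹ * (α ^ k) x) := by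
        rw [pow_succ', MulAut.mul_apply, map_mul, map_inv]; group
      have h1 : f (x⁻¹ * (α ^ (k + 1)) x) = f (x⁻¹ * α x) ^ (k + 1) := by
        rw [e, map_mul, ih.2, ih.1, pow_succ']
      refine ⟨h1, ?_⟩
      set z := x⁻¹ * (α ^ k) x with hz
      set w := (α ^ k) x with hw
      have e3 : x⁻¹ * (α ^ (k + 1)) x = z * (w⁻¹ * α w) := by
        rw [hz, hw, pow_succ', MulAut.mul_apply]; group
      rw [e3, map_mul α, map_mul, map_mul f, ih.2, h w]
  have h1 := (key (orderOf α)).1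
  rw [pow_orderOf_eq_one, MulAut.one_apply, inv_mul_cancel, map_one] at h1
  obtain ⟨j, hj⟩ := hE x
  have h2 := Nat.dvd_gcd (orderOf_dvd_of_pow_eq_one hj) (orderOf_dvd_of_pow_eq_one h1.symm)
  rw [((hα.symm).pow_left j), Nat.dvd_one, orderOf_eq_one_iff] at h2
  exact h2

/-- Tate's theorem, hyperfocal form. -/
theorem hyperfocal_le_of_focal_le (hS : IsPGroup p S) (hF : F.IsSaturated p) {H : FusionSystem S}
    (hHF : H.IsSubsystemOf F) (hUc : H.StronglyClosed (H.hyperfocalSubgroup p))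
    (h : F.hyperfocalSubgroup p ≤ H.hyperfocalSubgroup p ⊔ derivedOf S) :
    F.hyperfocalSubgroup p ≤ H.hyperfocalSubgroup p := by
  set T := F.hyperfocalSubgroup p with hT
  set U := H.hyperfocalSubgroup p with hU
  have hTS : T ≤ S := hyperfocal_le F p
  haveI hTn : (T.subgroupOf S).Normal :=
    ⟨fun y hy g => Subgroup.mem_subgroupOf.mpr (hyperfocal_conj_mem g.2 (Subgroup.mem_subgroupOf.mp hy))⟩
  haveI hUn : (U.subgroupOf S).Normal :=
    ⟨fun y hy g => Subgroup.mem_subgroupOf.mpr (hyperfocal_conj_mem g.2 (Subgroup.mem_subgroupOf.mp hy))⟩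
  set Ts := T.subgroupOf S
  set Us := U.subgroupOf S
  have h' : Ts ≤ Us ⊔ commutator S := by
    have h1 : T ≤ (Us ⊔ commutator S).map S.subtype := by
      rw [Subgroup.map_sup, Subgroup.map_subgroupOf_eq_of_le (hyperfocal_le H p)]; exact h
    intro y hy
    obtain ⟨w, hw, hwy⟩ := h1 hy
    rwa [← Subtype.ext hwy]
  -- the key step
  suffices key : Ts ≤ Us ⊔ ⁅Ts, (⊤ : Subgroup S)⁆ by
    have hlcs : ∀ i, Ts ≤ Us ⊔ Subgroup.lowerCentralSeries (⊤ : Subgroup S) i := by
      intro i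
      induction i with
      | zero => simp
      | succ i ih =>
        refine key.trans (sup_le le_sup_left (Subgroup.commutator_le.mpr fun t ht s _ => ?_))
        obtain ⟨w, hw, c, hc, rfl⟩ := Subgroup.mem_sup_of_normal_left.mp (ih ht)
        have e : ⁅w * c, s⁆ = (w * ⁅c, s⁆ * w⁻¹) * ⁅w, s⁆ := by
          simp only [commutatorElement_def]; group
        rw [e]
        refine mul_mem (Subgroup.mem_sup_right ?_) (Subgroup.mem_sup_left ?_)
        · exact (inferInstance : (Subgroup.lowerCentralSeries (⊤ : Subgroup S) (i + 1)).Normal).conj_mem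
            _ (Subgroup.commutator_mem_commutator hc (Subgroup.mem_top s)) w
        · rw [commutatorElement_def]
          simpa [mul_assoc] using mul_mem hw (hUn.conj_mem _ (inv_mem hw) s)
    haveI := hS.isNilpotent
    obtain ⟨n, hn⟩ := Subgroup.nilpotent_iff_lowerCentralSeries.mp (inferInstance : Group.IsNilpotent S)
    have hh := hlcs n
    rw [hn, sup_bot_eq] at hh
    intro y hy
    exact hh (show (⟨y, hTS hy⟩ : S) ∈ Ts from hy)
  set Ws := Us ⊔ ⁅Ts, (⊤ : Subgroup S)⁆ with hWs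
  let E := S ⧸ Ws
  let ρ : S →* E := QuotientGroup.mk' Ws
  let D : Subgroup E := Ts.map ρ
  have hD : D ≤ Subgroup.center E := by
    rintro _ ⟨t, ht, rfl⟩
    rw [Subgroup.mem_center_iff]
    intro e
    obtain ⟨s, rfl⟩ := QuotientGroup.mk'_surjective Ws e
    rw [← commutatorElement_eq_one_iff_mul_comm, ← map_commutatorElement, QuotientGroup.mk'_apply,
      QuotientGroup.eq_one_iff]
    exact Subgroup.mem_sup_right (by
      rw [Subgroup.commutator_comm]
      exact Subgroup.commutator_mem_commutator (Subgroup.mem_top s) ht)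
  haveI : D.Normal := Subgroup.Normal.map hTn ρ (QuotientGroup.mk'_surjective _)
  obtain ⟨m, τ, hm, hτD, hτ⟩ := Transfer.exists_central_hom (F := F) ρ D hS hF (QuotientGroup.mk'_surjective _) hD
    fun P φ hφ => by
      obtain ⟨g, hg, hh⟩ := exists_conj_mod_hyperfocal hS hF P φ hφ
      refine ⟨((ρ ⟨g, hg⟩ : E) : E ⧸ D), fun x => ?_⟩
      rw [← QuotientGroup.mk_inv, ← QuotientGroup.mk_mul, ← QuotientGroup.mk_mul, ← map_inv, ← map_mul,
        ← map_mul, eq_comm, QuotientGroup.eq, ← map_inv, ← map_mul]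
      exact Subgroup.mem_map_of_mem ρ (Subgroup.mem_subgroupOf.mpr (by simpa using hh x))
  have hDp : ∀ d ∈ D, ∃ k, d ^ p ^ k = 1 := fun d _ => (hS.to_quotient Ws) d
  have hρD : ∀ (y : Ω) (hy : y ∈ T), ρ ⟨y, hTS hy⟩ ∈ D := fun y hy =>
    Subgroup.mem_map_of_mem ρ (Subgroup.mem_subgroupOf.mpr hy)
  have hρU : ∀ (y : Ω) (hy : y ∈ U), ρ ⟨y, hyperfocal_le H p hy⟩ = 1 := fun y hy =>
    (QuotientGroup.eq_one_iff _).mpr (Subgroup.mem_sup_left (Subgroup.mem_subgroupOf.mpr hy))
  -- generators of the hyperfocal subgroups are killed by a homomorphism fixed on commutators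
  have kill : ∀ (G : FusionSystem S) (σ : S →* E), (∀ y, σ y ∈ D ∨ ρ y ∉ D) →
      (∀ (P : Subgroup Ω) (φ : P →* Ω) (hφ : φ ∈ G.Hom P) (x : P),
        (x : Ω) ∈ G.hyperfocalSubgroup p → σ ⟨φ x, apply_mem hφ x⟩ = σ ⟨x, src_le hφ x.2⟩) →
      ∀ y (hy : y ∈ G.hyperfocalSubgroup p), σ ⟨y, hyperfocal_le G p hy⟩ = 1 := by
    intro G σ hσD hσ y hy
    refine Subgroup.closure_induction (p := fun y hy => σ ⟨y, hyperfocal_le G p hy⟩ = 1) ?_ ?_ ?_ ?_ hy
    · rintro _ ⟨P, α, x, hP, hα, rfl⟩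
      haveI := finite_sub hP
      let f : P →* E := σ.comp (Subgroup.inclusion hP)
      show f (x⁻¹ * α.1 x) = 1
      revert x
      refine Subgroup.closure_induction (p := fun α _ => ∀ x : P, f (x⁻¹ * α.1 x) = 1) ?_ ?_ ?_ ?_ hα
      · intro a ha
        have ha' : (orderOf (a : MulAut P)).Coprime p := by rwa [Subgroup.orderOf_coe]
        refine eq_one_of_coprime f a.1 ha' (orderOf_pos _) (fun x => (hS.to_quotient Ws) _) fun x => ?_
        have hz : ((x⁻¹ * a.1 x : P) : Ω) ∈ G.hyperfocalSubgroup p :=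
          hyperfocal_gen_mem hP (Cfsg.Agent.Lib.Transfer.PResidual.mem_pResidual ha) x
        exact hσ P _ ((mem_autGroup hP).mp a.2) (x⁻¹ * a.1 x) hz
      · intro x; simp
      · intro a b _ _ h1 h2 x
        have : x⁻¹ * (a * b).1 x = (x⁻¹ * b.1 x) * ((b.1 x)⁻¹ * a.1 (b.1 x)) := by
          rw [Subgroup.coe_mul, MulAut.mul_apply]; group
        rw [this, map_mul, h1, h2, one_mul]
      · intro a _ h1 x
        have h3 := h1 ((a⁻¹).1 x)
        rw [Subgroup.coe_inv, MulAut.apply_inv_self] at h3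
        have h4 : (a.1⁻¹ x)⁻¹ * x = (x⁻¹ * (a⁻¹).1 x)⁻¹ := by rw [Subgroup.coe_inv]; group
        rw [h4, map_inv, inv_eq_one] at h3
        exact h3
    · exact map_one σ
    · intro a b ha hb h1 h2
      rw [show (⟨a * b, _⟩ : S) = ⟨a, hyperfocal_le G p ha⟩ * ⟨b, hyperfocal_le G p hb⟩ from rfl,
        map_mul, h1, h2, one_mul]
    · intro a ha h1
      rw [show (⟨a⁻¹, _⟩ : S) = (⟨a, hyperfocal_le G p ha⟩ : S)⁻¹ from rfl, map_inv, h1, inv_one]
  have hUT : U ≤ T := hyperfocal_mono hHF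
  have hτU : ∀ y (hy : y ∈ U), τ ⟨y, hyperfocal_le H p hy⟩ = 1 := by
    refine kill H τ (fun y => Or.inl (hτD y)) fun P φ hφ x hx => ?_
    have hφx : φ x ∈ U := by
      obtain ⟨ψ, hψ, e⟩ := exists_restrict hφ (inf_le_left : P ⊓ U ≤ P)
      have := hUc.2 _ inf_le_right ψ hψ ⟨x, x.2, hx⟩
      rwa [e] at this
    have h1 := hτ P φ (hHF P hφ) x (hρD _ (hUT hx))
    rw [show ρ ⟨φ x, apply_mem (hHF P hφ) x⟩ = 1 from hρU _ hφx,
      show ρ ⟨(x : Ω), src_le (hHF P hφ) x.2⟩ = 1 from hρU _ hx, inv_one, mul_one, one_pow,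
      mul_inv_eq_one] at h1
    exact h1
  have hτT : ∀ y (hy : y ∈ T), τ ⟨y, hTS hy⟩ = 1 := by
    intro y hy
    obtain ⟨w, hw, c, hc, hwc⟩ := Subgroup.mem_sup_of_normal_left.mp
      (h' (show (⟨y, hTS hy⟩ : S) ∈ Ts from hy))
    rw [← hwc, map_mul, show τ w = 1 from hτU w.1 (Subgroup.mem_subgroupOf.mp hw), one_mul]
    have : commutator S ≤ τ.ker := by
      refine Subgroup.commutator_le.mpr fun a _ b _ => ?_
      rw [MonoidHom.mem_ker, map_commutatorElement, commutatorElement_eq_one_iff_mul_comm]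
      exact (Subgroup.mem_center_iff.mp (hD (hτD b)) (τ a))
    exact this hc
  have hθ : ∀ y (hy : y ∈ T), ρ ⟨y, hTS hy⟩ = 1 := by
    refine kill F ρ (fun y => (em (ρ y ∈ D)).imp id id) fun P φ hφ x hx => ?_
    have hφx : φ x ∈ T := by
      obtain ⟨g, hg, hh⟩ := exists_conj_mod_hyperfocal hS hF P φ hφ
      have := mul_mem (hyperfocal_conj_mem hg hx) (hh x)
      rwa [mul_inv_cancel_left] at this
    have h1 := hτ P φ hφ x (hρD _ hx)
    rw [hτT _ hφx, show τ ⟨(x : Ω), src_le hφ x.2⟩ = 1 from hτT _ hx, inv_one, mul_one] at h1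
    exact mul_inv_eq_one.mp (eq_one_of_pow_eq_one (hS.to_quotient Ws) hm h1.symm)
  intro y hy
  exact (QuotientGroup.eq_one_iff y).mp (hθ y.1 (Subgroup.mem_subgroupOf.mp hy))

/-- A saturated system with trivial hyperfocal subgroup is the inner system. -/
theorem eq_inner_of_hyperfocal_eq_bot (hS : IsPGroup p S) (hF : F.IsSaturated p)
    (h : F.hyperfocalSubgroup p = ⊥) : ∀ P : Subgroup Ω, F.Hom P = (innerFusionSystem S).Hom P := by
  intro P
  refine Set.Subset.antisymm (fun φ hφ => ?_) ?_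
  · obtain ⟨g, hg, hh⟩ := exists_conj_mod_hyperfocal hS hF P φ hφ
    refine ⟨src_le hφ, g, hg, fun x => ?_⟩
    have := hh x
    rw [h, Subgroup.mem_bot, inv_mul_eq_one] at this
    exact this.symm
  · rintro φ ⟨hP, g, hg, e⟩
    exact mem_of_conj F hP hg e

/-- Tate: if the focal subgroup lies in the Frattini subgroup, the system is inner. -/
theorem eq_inner_of_focal_le_frattini (hS : IsPGroup p S) (hF : F.IsSaturated p)
    (h : F.focalSubgroup ≤ (frattini S).map S.subtype) :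
    ∀ P : Subgroup Ω, F.Hom P = (innerFusionSystem S).Hom P := by
  refine eq_inner_of_hyperfocal_eq_bot hS hF ?_
  have h1 : F.focalSubgroup ≤ derivedOf S :=
    focal_le_of_le_sup_frattini hS hF le_rfl (derived_le_focal F) (h.trans le_sup_left)
  have hI : (innerFusionSystem S).IsSubsystemOf F := by
    rintro P φ ⟨hP, g, hg, e⟩
    exact mem_of_conj F hP hg e
  have hU : (innerFusionSystem S).hyperfocalSubgroup p ≤ ⊥ := by
    refine (Subgroup.closure_le _).mpr ?_
    rintro _ ⟨P, α, x, hP, hα, rfl⟩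
    haveI := finite_sub hP
    have hXp : IsPGroup p ((innerFusionSystem S).autGroup P) := by
      refine (isPGroup_autInducedBy hS P).to_le fun a ha => ?_
      obtain ⟨-, g, hg, e⟩ := (mem_autGroup hP).mp ha
      exact mem_autInducedBy.mpr ⟨g, hg, fun x => e x⟩
    rw [Cfsg.Agent.Lib.Transfer.PResidual.pResidual_eq_bot_iff.mpr hXp, Subgroup.mem_bot] at hα
    simp [hα]
  have hsc : (innerFusionSystem S).StronglyClosed ((innerFusionSystem S).hyperfocalSubgroup p) := by
    rw [le_bot_iff.mp hU]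
    refine ⟨bot_le, fun R hR φ _ x => ?_⟩
    rw [show x = 1 from Subtype.ext (Subgroup.mem_bot.mp (hR x.2)), map_one]
    exact one_mem _
  exact le_bot_iff.mp ((hyperfocal_le_of_focal_le hS hF hI hsc
    (((hyperfocal_le_focal F p).trans h1).trans le_sup_right)).trans hU)

end Cfsg.Agent.Lib.FusionP3.Tate
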