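import Cfsg.Agent.Lib.FusionP3.Biset
import Mathlib.GroupTheory.Transfer

/-!
Transfer maps of a saturated fusion system built from a characteristic biset.
-/

set_option autoImplicit false
set_option linter.style.haveILetI false

namespace Cfsg.Agent.Lib.FusionP3.Transfer

open Cfsg Cfsg.FusionSystem Cfsg.Agent.Lib.FS Cfsg.Agent.Lib.FusionP3.Biset MulAction

universe u

variable {Ω : Type u} [Group Ω] {S : Subgroup Ω} {F : FusionSystem S}
variable {X : Type u} [MulAction (S × S) X]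

/-- The permutations of `X` commuting with the right action. -/
def equivGroup (S : Subgroup Ω) (X : Type u) [MulAction (S × S) X] : Subgroup (Equiv.Perm X) where
  carrier := {γ | ∀ (b : S) (z : X), γ (((1 : S), b) • z) = ((1 : S), b) • γ z}
  one_mem' := fun b z => rfl
  mul_mem' := fun {γ δ} hγ hδ b z => by simp [hδ b z, hγ b (δ z)]
  inv_mem' := fun {γ} hγ b z => by
    apply γ.injective
    rw [hγ b]
    show γ (γ.symm _) = _ • γ (γ.symm _)
    rw [Equiv.apply_symm_apply, Equiv.apply_symm_apply]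

theorem equiv_apply (γ : equivGroup S X) (b : S) (z : X) :
    γ.1 (((1 : S), b) • z) = ((1 : S), b) • γ.1 z := γ.2 b z

/-- The left action as a homomorphism. -/
def lft (S : Subgroup Ω) (X : Type u) [MulAction (S × S) X] : S →* equivGroup S X where
  toFun a := ⟨MulAction.toPerm ((a, 1) : S × S), fun b z => by
    show ((a, 1) : S × S) • ((1 : S), b) • z = ((1 : S), b) • ((a, 1) : S × S) • z
    simp only [smul_smul, Prod.mk_mul_mk, one_mul, mul_one]⟩
  map_one' := Subtype.ext (Equiv.ext fun z => one_smul (S × S) z)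
  map_mul' a b := Subtype.ext (Equiv.ext fun z => by
    show ((a * b, 1) : S × S) • z = ((a, 1) : S × S) • ((b, 1) : S × S) • z
    simp only [smul_smul, Prod.mk_mul_mk, one_mul])

@[simp] theorem lft_apply (a : S) (z : X) : (lft S X a).1 z = ((a, 1) : S × S) • z := rfl

variable (hg : ∀ z : X, IsGraph F (stabilizer (S × S) z))

include hg in
theorem free {b : S} {z : X} (h : ((1 : S), b) • z = z) : b = 1 :=
  eq_one_of_isGraph (hg z) h

include hg in
theorem free_eq {b c : S} {z : X} (h : ((1 : S), b) • z = ((1 : S), c) • z) : b = c := by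
  have h' : ((1 : S), c⁻¹ * b) • z = z := by
    have := congrArg (fun w => ((1 : S), c⁻¹) • w) h
    simpa [smul_smul, Prod.mk_mul_mk, Prod.mk_one_one] using this
  exact (inv_mul_eq_one.mp (free hg h')).symm

include hg in
/-- An equivariant bijection exchanging the right orbits of `z` and `w`. -/
theorem exists_swap {z w : X} (hne : ∀ b : S, ((1 : S), b) • z ≠ w) :
    ∃ γ : equivGroup S X, γ.1 z = w ∧ ∀ v, γ.1 v = v ∨
      (∃ b : S, v = ((1 : S), b) • z ∧ γ.1 v = ((1 : S), b) • w) ∨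
      (∃ b : S, v = ((1 : S), b) • w ∧ γ.1 v = ((1 : S), b) • z) := by
  classical
  let f : X → X := fun v =>
    if h : ∃ b : S, v = ((1 : S), b) • z then ((1 : S), h.choose) • w
    else if h : ∃ b : S, v = ((1 : S), b) • w then ((1 : S), h.choose) • z else v
  have hne' : ∀ b c : S, ((1 : S), b) • z ≠ ((1 : S), c) • w := fun b c h => hne (c⁻¹ * b) (by
    have := congrArg (fun t => ((1 : S), c⁻¹) • t) h
    simpa [smul_smul, Prod.mk_mul_mk, Prod.mk_one_one] using this)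
  have f1 : ∀ b : S, f (((1 : S), b) • z) = ((1 : S), b) • w := fun b => by
    have h : ∃ c : S, ((1 : S), b) • z = ((1 : S), c) • z := ⟨b, rfl⟩
    simp only [f, dif_pos h]
    rw [← free_eq hg h.choose_spec]
  have f2 : ∀ b : S, f (((1 : S), b) • w) = ((1 : S), b) • z := fun b => by
    have h0 : ¬ ∃ c : S, ((1 : S), b) • w = ((1 : S), c) • z := fun ⟨c, hc⟩ => hne' c b hc.symm
    have h : ∃ c : S, ((1 : S), b) • w = ((1 : S), c) • w := ⟨b, rfl⟩
    simp only [f, dif_neg h0, dif_pos h]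
    rw [← free_eq hg h.choose_spec]
  have f3 : ∀ v, (¬ ∃ b : S, v = ((1 : S), b) • z) → (¬ ∃ b : S, v = ((1 : S), b) • w) → f v = v :=
    fun v h1 h2 => by simp only [f, dif_neg h1, dif_neg h2]
  have hff : Function.Involutive f := by
    intro v
    by_cases h1 : ∃ b : S, v = ((1 : S), b) • z
    · obtain ⟨b, rfl⟩ := h1; rw [f1, f2]
    by_cases h2 : ∃ b : S, v = ((1 : S), b) • w
    · obtain ⟨b, rfl⟩ := h2; rw [f2, f1]
    rw [f3 v h1 h2, f3 v h1 h2]
  refine ⟨⟨hff.toPerm f, fun c v => ?_⟩, ?_, fun v => ?_⟩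
  · show f _ = _ • f v
    by_cases h1 : ∃ b : S, v = ((1 : S), b) • z
    · obtain ⟨b, rfl⟩ := h1
      simp only [smul_smul, Prod.mk_mul_mk, one_mul, f1]
    by_cases h2 : ∃ b : S, v = ((1 : S), b) • w
    · obtain ⟨b, rfl⟩ := h2
      simp only [smul_smul, Prod.mk_mul_mk, one_mul, f2]
    have hc : ∀ u : X, (∃ b : S, ((1 : S), c) • v = ((1 : S), b) • u) → ∃ b : S, v = ((1 : S), b) • u := by
      rintro u ⟨b, hb⟩
      refine ⟨c⁻¹ * b, ?_⟩
      have := congrArg (fun t => ((1 : S), c⁻¹) • t) hb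
      simpa [smul_smul, Prod.mk_mul_mk, Prod.mk_one_one] using this
    rw [f3 v h1 h2, f3 _ (fun h => h1 (hc z h)) (fun h => h2 (hc w h))]
  · have := f1 1
    simp only [Prod.mk_one_one, one_smul] at this
    exact this
  · show f v = v ∨ _
    by_cases h1 : ∃ b : S, v = ((1 : S), b) • z
    · obtain ⟨b, rfl⟩ := h1; exact Or.inr (Or.inl ⟨b, rfl, f1 b⟩)
    by_cases h2 : ∃ b : S, v = ((1 : S), b) • w
    · obtain ⟨b, rfl⟩ := h2; exact Or.inr (Or.inr ⟨b, rfl, f2 b⟩)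
    exact Or.inl (f3 v h1 h2)

section Point

variable {Γ : Type u} [Group Γ] (ψ : Γ →* equivGroup S X) (z₀ : X)

/-- The stabilizer of the right orbit of `z₀`. -/
def orbitStab : Subgroup Γ where
  carrier := {γ | ∃ s : S, (ψ γ).1 z₀ = ((1 : S), s⁻¹) • z₀}
  one_mem' := ⟨1, by rw [map_one, inv_one, Prod.mk_one_one, one_smul]; rfl⟩
  mul_mem' := by
    rintro γ δ ⟨s, hs⟩ ⟨t, ht⟩
    refine ⟨s * t, ?_⟩
    rw [map_mul, Subgroup.coe_mul, Equiv.Perm.mul_apply, ht, equiv_apply, hs, smul_smul,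
      Prod.mk_mul_mk, one_mul, mul_inv_rev]
  inv_mem' := by
    rintro γ ⟨s, hs⟩
    refine ⟨s⁻¹, ?_⟩
    rw [map_inv]
    apply (ψ γ).1.injective
    rw [equiv_apply, hs]
    show (ψ γ).1 ((ψ γ).1.symm z₀) = _
    rw [Equiv.apply_symm_apply, smul_smul, Prod.mk_mul_mk, one_mul, inv_inv, mul_inv_cancel,
      Prod.mk_one_one, one_smul]

/-- The evaluation `orbitStab → S`. -/
noncomputable def ev : orbitStab ψ z₀ →* S where
  toFun γ := γ.2.choose
  map_one' := by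
    refine inv_eq_one.mp (free hg (z := z₀) (((1 : orbitStab ψ z₀).2.choose_spec).symm.trans ?_))
    simp
  map_mul' γ δ := by
    refine inv_injective (free_eq hg (z := z₀) (((γ * δ).2.choose_spec).symm.trans ?_))
    simp only [Subgroup.coe_mul, map_mul, Equiv.Perm.mul_apply]
    refine (congrArg (ψ (γ : Γ)).1 δ.2.choose_spec).trans ?_
    rw [equiv_apply]
    refine (congrArg (_ • ·) γ.2.choose_spec).trans ?_
    rw [smul_smul, Prod.mk_mul_mk, one_mul, ← mul_inv_rev]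

theorem ev_spec (γ : orbitStab ψ z₀) : (ψ γ).1 z₀ = ((1 : S), (ev hg ψ z₀ γ)⁻¹) • z₀ :=
  γ.2.choose_spec

/-- The chosen point in the right orbit named by a coset. -/
noncomputable def pt (q : Γ ⧸ orbitStab ψ z₀) : X := (ψ q.out).1 z₀

theorem pt_mk (γ : Γ) : ∃ b : S, pt ψ z₀ (γ : Γ ⧸ orbitStab ψ z₀) = ((1 : S), b) • (ψ γ).1 z₀ := by
  obtain ⟨h, hh⟩ := QuotientGroup.mk_out_eq_mul (orbitStab ψ z₀) γ
  obtain ⟨s, hs⟩ := h.2
  exact ⟨s⁻¹, by rw [pt, hh, map_mul, Subgroup.coe_mul, Equiv.Perm.mul_apply, hs, equiv_apply]⟩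

theorem pt_smul (γ : Γ) (q : Γ ⧸ orbitStab ψ z₀) :
    ∃ b : S, pt ψ z₀ (γ • q) = ((1 : S), b) • (ψ γ).1 (pt ψ z₀ q) := by
  obtain ⟨b, hb⟩ := pt_mk ψ z₀ (γ * q.out)
  refine ⟨b, ?_⟩
  rw [← smul_eq_mul, ← MulAction.Quotient.smul_mk, QuotientGroup.out_eq'] at hb
  rw [hb, smul_eq_mul, map_mul]
  rfl

theorem eq_of_pt {q q' : Γ ⧸ orbitStab ψ z₀} {b : S}
    (h : pt ψ z₀ q' = ((1 : S), b) • pt ψ z₀ q) : q = q' := by
  rw [← QuotientGroup.out_eq' q, ← QuotientGroup.out_eq' q', QuotientGroup.eq]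
  refine ⟨b⁻¹, ?_⟩
  rw [inv_inv, map_mul, map_inv, Subgroup.coe_mul, Equiv.Perm.mul_apply, Subgroup.coe_inv,
    Equiv.Perm.inv_eq_iff_eq, equiv_apply]
  exact h

variable (htrans : ∀ z : X, ∃ γ : Γ, ∃ b : S, z = ((1 : S), b) • (ψ γ).1 z₀)

include htrans in
theorem exists_pt (z : X) : ∃ q, ∃ b : S, z = ((1 : S), b) • pt ψ z₀ q := by
  obtain ⟨γ, b, hz⟩ := htrans z
  obtain ⟨c, hc⟩ := pt_mk ψ z₀ γ
  refine ⟨(γ : Γ ⧸ orbitStab ψ z₀), b * c⁻¹, ?_⟩
  rw [hc, smul_smul, Prod.mk_mul_mk, one_mul, mul_assoc, inv_mul_cancel, mul_one, hz]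

include hg htrans in
theorem card_eq : Nat.card X = Nat.card S * (orbitStab ψ z₀).index := by
  rw [Subgroup.index_eq_card, ← Nat.card_prod]
  refine (Nat.card_congr (Equiv.ofBijective
    (fun w : S × (Γ ⧸ orbitStab ψ z₀) => ((1 : S), w.1) • pt ψ z₀ w.2) ⟨?_, ?_⟩)).symm
  · rintro ⟨b, q⟩ ⟨c, q'⟩ h
    have h' : pt ψ z₀ q' = ((1 : S), c⁻¹ * b) • pt ψ z₀ q := by
      have := congrArg (fun t => ((1 : S), c⁻¹) • t) h
      simpa [smul_smul, Prod.mk_mul_mk, Prod.mk_one_one] using this.symm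
    obtain rfl := eq_of_pt ψ z₀ h'
    exact Prod.ext (free_eq hg h) rfl
  · intro z
    obtain ⟨q, b, h⟩ := exists_pt ψ z₀ htrans z
    exact ⟨(b, q), h.symm⟩

/-- The data of a transfer factor: `(a ^ k, ev (g⁻¹ â^k g))` fixes the point of the coset of `g`. -/
theorem factor_fixed {a : S} {â : Γ} (ha : ψ â = lft S X a) (k : ℕ) (q : Γ ⧸ orbitStab ψ z₀)
    (hmem : q.out⁻¹ * â ^ k * q.out ∈ orbitStab ψ z₀) :
    ((a ^ k, ev hg ψ z₀ ⟨_, hmem⟩) : S × S) • pt ψ z₀ q = pt ψ z₀ q := by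
  have h := ev_spec hg ψ z₀ ⟨_, hmem⟩
  set s := ev hg ψ z₀ ⟨_, hmem⟩
  rw [map_mul, map_mul, map_inv, map_pow, ha, ← map_pow, Subgroup.coe_mul, Subgroup.coe_mul,
    Subgroup.coe_inv, Equiv.Perm.mul_apply, Equiv.Perm.mul_apply, Equiv.Perm.inv_eq_iff_eq,
    equiv_apply, lft_apply] at h
  have := congrArg (fun t => ((1 : S), s) • t) h
  simpa [pt, smul_smul, Prod.mk_mul_mk, Prod.mk_one_one] using this

end Point

section Twist

/-- The bijection realising the stability along `φ`, as an element of the group. -/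
theorem exists_twist (hst : ∀ (A : Subgroup Ω) (φ : A →* Ω) (hφ : φ ∈ F.Hom A), ∃ e : X ≃ X,
      ∀ (z : dom S A) (x : X), e ((z : S × S) • x) = twHom hφ z • e x)
    {A : Subgroup Ω} {φ : A →* Ω} (hφ : φ ∈ F.Hom A) :
    ∃ ε : equivGroup S X, ∀ (x : A) (b : S) (z : X),
      ε.1 (((⟨x, src_le hφ x.2⟩ : S), b) • z) = ((⟨φ x, apply_mem hφ x⟩ : S), b) • ε.1 z := by
  obtain ⟨e, he⟩ := hst A φ hφ
  have h : ∀ (x : A) (b : S) (z : X),
      e (((⟨x, src_le hφ x.2⟩ : S), b) • z) = ((⟨φ x, apply_mem hφ x⟩ : S), b) • e z := fun x b z =>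
    he ⟨((⟨x, src_le hφ x.2⟩ : S), b), mem_dom.mpr x.2⟩ z
  refine ⟨⟨e, fun b z => ?_⟩, h⟩
  have := h 1 b z
  simp only [map_one] at this
  exact this

end Twist

section Abelian

include hg in
theorem exists_of_mem_stab {a b : S} {z : X} (h : ((a, b) : S × S) • z = z) :
    ∃ P : Subgroup Ω, ∃ φ ∈ F.Hom P, ∃ x : P, (x : Ω) = a ∧ φ x = b := by
  obtain ⟨P, φ, hφ, -, key⟩ := exists_hom_of_isGraph (hg z)
  obtain ⟨h1, h2⟩ := (key (a, b)).mp (mem_stabilizer_iff.mpr h)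
  exact ⟨P, φ, hφ, ⟨a, h1⟩, rfl, h2⟩

variable [Finite S]

include hg in
theorem transitive_equivGroup (z₀ z : X) : ∃ γ : equivGroup S X, ∃ b : S, z = ((1 : S), b) • γ.1 z₀ := by
  by_cases h : ∃ b : S, ((1 : S), b) • z₀ = z
  · obtain ⟨b, hb⟩ := h
    exact ⟨1, b, hb.symm⟩
  · obtain ⟨γ, hγ, -⟩ := exists_swap hg (fun b hb => h ⟨b, hb⟩)
    exact ⟨γ, 1, by rw [hγ, Prod.mk_one_one, one_smul]⟩

/-- The transfer to an abelian group: a homomorphism invariant under the system, congruent to `θ ^ m`. -/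
theorem exists_invariant_hom {p : ℕ} [Fact p.Prime] (hS : IsPGroup p S) (hF : F.IsSaturated p) :
    ∃ m : ℕ, ¬ p ∣ m ∧ ∀ {A : Type u} [CommGroup A] (θ : S →* A) (B : Subgroup A),
      (∀ (P : Subgroup Ω) (φ : P →* Ω) (hφ : φ ∈ F.Hom P) (x : P),
        θ ⟨φ x, apply_mem hφ x⟩ / θ ⟨x, src_le hφ x.2⟩ ∈ B) →
      ∃ τ : S →* A, (∀ (P : Subgroup Ω) (φ : P →* Ω) (hφ : φ ∈ F.Hom P) (x : P),
        τ ⟨φ x, apply_mem hφ x⟩ = τ ⟨x, src_le hφ x.2⟩) ∧ ∀ a, τ a / θ a ^ m ∈ B := by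
  obtain ⟨X, iX, fX, hg, hst, m, hm, hpm⟩ := exists_biset hS hF
  refine ⟨m, hpm, fun {A} _ θ B hB => ?_⟩
  have hne : Nonempty X := by
    refine (Nat.card_pos_iff.mp ?_).1
    rw [hm]
    exact Nat.mul_pos Nat.card_pos (Nat.pos_of_ne_zero fun h => hpm (h ▸ dvd_zero p))
  obtain ⟨z₀⟩ := hne
  let ψ := MonoidHom.id (equivGroup S X)
  haveI : (orbitStab ψ z₀).FiniteIndex := Subgroup.finiteIndex_of_finite
  have hidx : (orbitStab ψ z₀).index = m := by
    have := card_eq hg ψ z₀ (transitive_equivGroup hg z₀)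
    rw [hm] at this
    exact (Nat.eq_of_mul_eq_mul_left Nat.card_pos this).symm
  let tr := MonoidHom.transfer (θ.comp (ev hg ψ z₀))
  refine ⟨tr.comp (lft S X), fun P φ hφ x => ?_, fun a => ?_⟩
  · obtain ⟨ε, hε⟩ := exists_twist hst hφ
    have : lft S X ⟨φ x, apply_mem hφ x⟩ * ε = ε * lft S X ⟨x, src_le hφ x.2⟩ :=
      Subtype.ext (Equiv.ext fun z => (hε x 1 z).symm)
    have h := congrArg tr this
    rw [map_mul, map_mul, mul_comm (tr ε)] at h
    exact mul_right_cancel h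
  · classical
    haveI := (orbitStab ψ z₀).fintypeQuotientOfFiniteIndex
    show tr (lft S X a) / _ ∈ B
    simp only [tr, MonoidHom.transfer_eq_prod_quotient_orbitRel_zpowers_quot]
    rw [← hidx, Subgroup.index_eq_sum_minimalPeriod (orbitStab ψ z₀) (lft S X a),
      ← Finset.prod_pow_eq_pow_sum, ← Finset.prod_div_distrib]
    refine Subgroup.prod_mem B fun q _ => ?_
    have hf := factor_fixed hg ψ z₀ (a := a) (â := lft S X a) rfl _ _
      (QuotientGroup.out_conj_pow_minimalPeriod_mem (orbitStab ψ z₀) (lft S X a) q.out)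
    obtain ⟨P, φ, hφ, x, hx, hxs⟩ := exists_of_mem_stab hg hf
    have h := hB P φ hφ x
    convert h using 2
    · exact congrArg θ (Subtype.ext hxs.symm)
    · rw [← map_pow]
      exact congrArg θ (Subtype.ext hx.symm)

end Abelian

section Central

variable [Finite S] {E : Type u} [Group E] (ρ : S →* E) (D : Subgroup E) [D.Normal]

/-- The pairs of an equivariant permutation and an element of `E` inducing the same shift on labels. -/
def labelGroup (L : X → E ⧸ D) : Subgroup (equivGroup S X × E) where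
  carrier := {w | ∀ z, L (w.1.1 z) = (w.2 : E ⧸ D) * L z}
  one_mem' := fun z => by simp
  mul_mem' := fun {v w} hv hw z => by
    simp only [Prod.fst_mul, Prod.snd_mul, Subgroup.coe_mul, Equiv.Perm.mul_apply, QuotientGroup.mk_mul]
    rw [hv, hw, mul_assoc]
  inv_mem' := fun {w} hw z => by
    have h := hw ((w.1.1).symm z)
    rw [Equiv.apply_symm_apply] at h
    show L ((w.1.1).symm z) = _
    rw [h]
    simp

include hg in
/-- A labelling compatible with the actions exists when each map is conjugation in `E ⧸ D`. -/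
theorem exists_label
    (hlab : ∀ (P : Subgroup Ω) (φ : P →* Ω) (hφ : φ ∈ F.Hom P), ∃ g : E ⧸ D, ∀ x : P,
      (ρ ⟨φ x, apply_mem hφ x⟩ : E ⧸ D) = g * (ρ ⟨x, src_le hφ x.2⟩ : E ⧸ D) * g⁻¹) :
    ∃ L : X → E ⧸ D, ∀ (a b : S) (z : X),
      L (((a, b) : S × S) • z) = (ρ a : E ⧸ D) * L z * (ρ b : E ⧸ D)⁻¹ := by
  classical
  let rep : X → X := fun z => (Quotient.mk (orbitRel (S × S) X) z).out
  have hrep : ∀ z, ∃ w : S × S, z = w • rep z := fun z => by
    have : (orbitRel (S × S) X) z (rep z) := Quotient.exact (Quotient.out_eq _).symm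
    obtain ⟨w, hw⟩ := this
    exact ⟨w, hw.symm⟩
  choose w hw using hrep
  have hstab : ∀ z : X, ∃ g : E ⧸ D, ∀ v : S × S, v • z = z →
      (ρ v.1 : E ⧸ D) * g = g * (ρ v.2 : E ⧸ D) := fun z => by
    obtain ⟨P, φ, hφ, -, key⟩ := exists_hom_of_isGraph (hg z)
    obtain ⟨g, hgφ⟩ := hlab P φ hφ
    refine ⟨g⁻¹, fun v hv => ?_⟩
    obtain ⟨h1, h2⟩ := (key v).mp (mem_stabilizer_iff.mpr hv)
    have h := hgφ ⟨v.1, h1⟩
    rw [show (⟨φ ⟨v.1, h1⟩, apply_mem hφ _⟩ : S) = v.2 from Subtype.ext h2,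
      show (⟨((⟨v.1, h1⟩ : P) : Ω), src_le hφ h1⟩ : S) = v.1 from rfl] at h
    rw [h]
    group
  choose g hgs using hstab
  refine ⟨fun z => (ρ (w z).1 : E ⧸ D) * g (rep z) * (ρ (w z).2 : E ⧸ D)⁻¹, fun a b z => ?_⟩
  set z' := ((a, b) : S × S) • z with hz'
  have hr : rep z' = rep z := by
    simp only [rep]
    exact congrArg Quotient.out (Quotient.sound ⟨(a, b), rfl⟩)
  have hfix : ((w z')⁻¹ * ((a, b) * w z)) • rep z = rep z := by
    rw [mul_smul, mul_smul, ← hw z, inv_smul_eq_iff]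
    conv_rhs => rw [← hr, ← hw z']
  have h := hgs (rep z) _ hfix
  simp only [Prod.fst_mul, Prod.snd_mul, Prod.fst_inv, Prod.snd_inv, map_mul, map_inv,
    QuotientGroup.mk_mul, QuotientGroup.mk_inv] at h
  show (ρ (w z').1 : E ⧸ D) * g (rep z') * _ =
    (ρ a : E ⧸ D) * ((ρ (w z).1 : E ⧸ D) * g (rep z) * (ρ (w z).2 : E ⧸ D)⁻¹) * _
  rw [hr]
  generalize (ρ (w z').1 : E ⧸ D) = A at h ⊢
  generalize (ρ (w z').2 : E ⧸ D) = B at h ⊢
  generalize (ρ (w z).1 : E ⧸ D) = A' at h ⊢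
  generalize (ρ (w z).2 : E ⧸ D) = B' at h ⊢
  generalize (ρ a : E ⧸ D) = a' at h ⊢
  generalize (ρ b : E ⧸ D) = b' at h ⊢
  generalize g (rep z) = c at h ⊢
  calc A * c * B⁻¹ = A * (c * (B⁻¹ * (b' * B'))) * B'⁻¹ * b'⁻¹ := by group
    _ = A * (A⁻¹ * (a' * A') * c) * B'⁻¹ * b'⁻¹ := by rw [h]
    _ = a' * (A' * c * B'⁻¹) * b'⁻¹ := by group

/-- If every map of the system is conjugation modulo the central subgroup `D`, and carries the preimage of `D`
into itself, there is a homomorphism to `D` measuring the failure of `ρ ^ m` to be invariant there; so `ρ` is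
invariant on the preimage of `D` when this homomorphism vanishes. -/
theorem exists_central_hom {p : ℕ} [Fact p.Prime] (hS : IsPGroup p S) (hF : F.IsSaturated p)
    (hρ : Function.Surjective ρ) (hD : D ≤ Subgroup.center E)
    (hlab : ∀ (P : Subgroup Ω) (φ : P →* Ω) (hφ : φ ∈ F.Hom P), ∃ g : E ⧸ D, ∀ x : P,
      (ρ ⟨φ x, apply_mem hφ x⟩ : E ⧸ D) = g * (ρ ⟨x, src_le hφ x.2⟩ : E ⧸ D) * g⁻¹) :
    ∃ (m : ℕ) (τ : S →* E), ¬ p ∣ m ∧ (∀ a, τ a ∈ D) ∧
      ∀ (P : Subgroup Ω) (φ : P →* Ω) (hφ : φ ∈ F.Hom P) (x : P), ρ ⟨x, src_le hφ x.2⟩ ∈ D →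
        τ ⟨φ x, apply_mem hφ x⟩ * (τ ⟨x, src_le hφ x.2⟩)⁻¹ =
          (ρ ⟨φ x, apply_mem hφ x⟩ * (ρ ⟨x, src_le hφ x.2⟩)⁻¹) ^ m := by
  classical
  obtain ⟨X, iX, fX, hg, hst, m, hm, hpm⟩ := exists_biset hS hF
  have hne : Nonempty X := by
    refine (Nat.card_pos_iff.mp ?_).1
    rw [hm]
    exact Nat.mul_pos Nat.card_pos (Nat.pos_of_ne_zero fun h => hpm (h ▸ dvd_zero p))
  obtain ⟨z₀⟩ := hne
  haveI : Finite E := Finite.of_surjective ρ hρ
  let _ : CommGroup D :=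
    { (inferInstance : Group D) with
      mul_comm := fun a b => Subtype.ext ((Subgroup.mem_center_iff.mp (hD b.2) a)) }
  obtain ⟨L, hL⟩ := exists_label hg ρ D hlab
  obtain ⟨ℓ, hℓ⟩ := QuotientGroup.mk_surjective (L z₀)
  let Γ := ↥(labelGroup (S := S) (X := X) D L)
  let ψ : Γ →* equivGroup S X := (MonoidHom.fst _ _).comp (labelGroup (S := S) (X := X) D L).subtype
  let ι : S →* Γ := ((lft S X).prod ρ).codRestrict _ fun a z => by
    show L (((a, 1) : S × S) • z) = (ρ a : E ⧸ D) * L z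
    rw [hL, map_one, QuotientGroup.mk_one, inv_one, mul_one]
  have hψι : ∀ a, ψ (ι a) = lft S X a := fun a => rfl
  have htrans : ∀ z : X, ∃ γ : Γ, ∃ b : S, z = ((1 : S), b) • (ψ γ).1 z₀ := by
    intro z
    by_cases h : ∃ b : S, ((1 : S), b) • z₀ = z
    · obtain ⟨b, hb⟩ := h
      exact ⟨1, b, by rw [map_one]; exact hb.symm⟩
    · obtain ⟨d, hd⟩ := hρ ((ℓ⁻¹ * (Quotient.out (L z))))
      have hd' : ((ρ d : E) : E ⧸ D) = (L z₀)⁻¹ * L z := by
        rw [hd, QuotientGroup.mk_mul, QuotientGroup.mk_inv, hℓ, QuotientGroup.out_eq']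
      set z' := ((1 : S), d) • z with hz'
      have hLz' : L z' = L z₀ := by
        rw [hz', hL, map_one, QuotientGroup.mk_one, one_mul, hd']
        group
      have hne : ∀ b : S, ((1 : S), b) • z₀ ≠ z' := fun b hb => h ⟨d⁻¹ * b, by
        have := congrArg (fun t => ((1 : S), d⁻¹) • t) hb
        simpa [hz', smul_smul, Prod.mk_mul_mk, Prod.mk_one_one] using this⟩
      obtain ⟨γ, hγ, hγv⟩ := exists_swap hg hne
      have hγL : ((γ, (1 : E)) : equivGroup S X × E) ∈ labelGroup (S := S) (X := X) D L := fun v => by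
        show L (γ.1 v) = ((1 : E) : E ⧸ D) * L v
        rw [QuotientGroup.mk_one, one_mul]
        rcases hγv v with e | ⟨b, e1, e2⟩ | ⟨b, e1, e2⟩
        · rw [e]
        · rw [e2, e1, hL 1 b z', hL 1 b z₀, hLz']
        · rw [e2, e1, hL 1 b z', hL 1 b z₀, hLz']
      refine ⟨⟨_, hγL⟩, d⁻¹, ?_⟩
      show z = _ • γ.1 z₀
      rw [hγ, hz', smul_smul, Prod.mk_mul_mk, one_mul, inv_mul_cancel, Prod.mk_one_one, one_smul]
  haveI : Finite Γ := Subtype.finite
  haveI : (orbitStab ψ z₀).FiniteIndex := Subgroup.finiteIndex_of_finite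
  have hidx : (orbitStab ψ z₀).index = m := by
    have := card_eq hg ψ z₀ htrans
    rw [hm] at this
    exact (Nat.eq_of_mul_eq_mul_left Nat.card_pos this).symm
  -- the twisting homomorphism into `D`
  have hmemD : ∀ γ : orbitStab ψ z₀,
      ℓ⁻¹ * (γ : Γ).1.2 * ℓ * (ρ (ev hg ψ z₀ γ))⁻¹ ∈ D := fun γ => by
    have h1 := (γ : Γ).2 z₀
    have h2 : (γ : Γ).1.1.1 z₀ = ((1 : S), (ev hg ψ z₀ γ)⁻¹) • z₀ := ev_spec hg ψ z₀ γ
    rw [h2, hL, map_one, QuotientGroup.mk_one, one_mul, map_inv, QuotientGroup.mk_inv, inv_inv,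
      ← hℓ] at h1
    rw [← QuotientGroup.eq_one_iff]
    simp only [QuotientGroup.mk_mul, QuotientGroup.mk_inv]
    rw [mul_assoc _ _ (ℓ : E ⧸ D), ← h1]
    group
  let h : orbitStab ψ z₀ →* D :=
    { toFun := fun γ => ⟨_, hmemD γ⟩
      map_one' := Subtype.ext (by simp)
      map_mul' := fun γ δ => Subtype.ext (by
        have hc := Subgroup.mem_center_iff.mp (hD (hmemD δ))
        simp only [Subgroup.coe_mul, Prod.snd_mul, map_mul]
        have hc' := hc (ρ (ev hg ψ z₀ γ))⁻¹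
        calc ℓ⁻¹ * ((γ : Γ).1.2 * (δ : Γ).1.2) * ℓ * (ρ (ev hg ψ z₀ γ) * ρ (ev hg ψ z₀ δ))⁻¹
            = (ℓ⁻¹ * (γ : Γ).1.2 * ℓ) *
                ((ℓ⁻¹ * (δ : Γ).1.2 * ℓ * (ρ (ev hg ψ z₀ δ))⁻¹) * (ρ (ev hg ψ z₀ γ))⁻¹) := by group
          _ = (ℓ⁻¹ * (γ : Γ).1.2 * ℓ) *
                ((ρ (ev hg ψ z₀ γ))⁻¹ * (ℓ⁻¹ * (δ : Γ).1.2 * ℓ * (ρ (ev hg ψ z₀ δ))⁻¹)) := by rw [hc']
          _ = _ := by group) }
  let tr := MonoidHom.transfer h
  refine ⟨m, D.subtype.comp (tr.comp ι), hpm, fun a => (tr (ι a)).2, ?_⟩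
  intro P φ hφ x hx
  set u : S := ⟨x, src_le hφ x.2⟩ with hu
  set v : S := ⟨φ x, apply_mem hφ x⟩ with hv
  have hvD : ρ v ∈ D := by
    obtain ⟨g, hg'⟩ := hlab P φ hφ
    rw [← QuotientGroup.eq_one_iff, hg' x, (QuotientGroup.eq_one_iff _).mpr hx]
    group
  obtain ⟨ε, hε⟩ := exists_twist hst hφ
  have hεu : ∀ (k : ℕ) (b : S) (z : X),
      ε.1 (((u ^ k, b) : S × S) • z) = ((v ^ k, b) : S × S) • ε.1 z := by
    intro k b z
    have := hε (x ^ k) b z
    have e1 : (⟨((x ^ k : P) : Ω), src_le hφ (x ^ k).2⟩ : S) = u ^ k := Subtype.ext (by simp [hu])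
    have e2 : (⟨φ (x ^ k), apply_mem hφ (x ^ k)⟩ : S) = v ^ k := Subtype.ext (by simp [hv])
    rwa [e1, e2] at this
  -- the bijection of cosets induced by `ε`
  let Q := Γ ⧸ orbitStab ψ z₀
  choose η b hηb using fun q : Q => exists_pt ψ z₀ htrans (ε.1 (pt ψ z₀ q))
  have hηinj : Function.Injective η := by
    intro q q' he
    have h1 := hηb q
    have h2 := hηb q'
    rw [← he] at h2
    refine eq_of_pt ψ z₀ (b := b q' * (b q)⁻¹) (ε.1.injective ?_)
    rw [equiv_apply, h1, h2, smul_smul, Prod.mk_mul_mk, one_mul, mul_assoc, inv_mul_cancel, mul_one]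
  let ηE : Q ≃ Q := Equiv.ofBijective η (Finite.injective_iff_bijective.mp hηinj)
  have hsemi : Function.Semiconj ηE (fun q => ι u • q) (fun q => ι v • q) := by
    intro q
    show η (ι u • q) = ι v • η q
    obtain ⟨c, hc⟩ := pt_smul ψ z₀ (ι u) q
    obtain ⟨c', hc'⟩ := pt_smul ψ z₀ (ι v) (η q)
    have h1 := hηb (ι u • q)
    rw [hc, hψι, lft_apply, smul_smul, Prod.mk_mul_mk, one_mul, mul_one] at h1
    have h1' : ε.1 ((u, c) • pt ψ z₀ q) = (v, c) • ε.1 (pt ψ z₀ q) := by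
      simpa using hεu 1 c (pt ψ z₀ q)
    rw [h1', hηb q, smul_smul, Prod.mk_mul_mk, mul_one] at h1
    rw [hψι, lft_apply, smul_smul, Prod.mk_mul_mk, one_mul, mul_one] at hc'
    refine eq_of_pt ψ z₀ (b := c' * (c * b q)⁻¹ * b (ι u • q)) ?_
    have h3 := congrArg (fun t => ((1 : S), c' * (c * b q)⁻¹) • t) h1
    simp only [smul_smul, Prod.mk_mul_mk, one_mul, inv_mul_cancel_right] at h3
    rw [hc']
    exact h3
  -- the value at a point fixed by a pair
  let Char : S → Q → E → Prop := fun a q d => ∃ (z : X) (c : S) (s : S),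
    z = ((1 : S), c) • pt ψ z₀ q ∧
    ((a ^ Function.minimalPeriod (fun r => ι a • r) q, s) : S × S) • z = z ∧ d = ρ s
  have hCharD : ∀ a q d, ρ a ∈ D → Char a q d → d ∈ D := by
    rintro a q d ha ⟨z, c, s, -, hfix, rfl⟩
    obtain ⟨P', φ', hφ', y, hy, hys⟩ := exists_of_mem_stab hg hfix
    obtain ⟨g, hg'⟩ := hlab P' φ' hφ'
    have h := hg' y
    rw [show (⟨φ' y, apply_mem hφ' y⟩ : S) = s from Subtype.ext hys,
      show (⟨(y : Ω), src_le hφ' y.2⟩ : S) = a ^ Function.minimalPeriod (fun r => ι a • r) q from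
        Subtype.ext hy, map_pow, QuotientGroup.mk_pow, (QuotientGroup.eq_one_iff _).mpr ha] at h
    rw [← QuotientGroup.eq_one_iff, h]
    group
  have hCharUniq : ∀ a q d d', ρ a ∈ D → Char a q d → Char a q d' → d = d' := by
    intro a q d d' ha h1 h2
    have hd := hCharD a q d ha h1
    obtain ⟨z, c, s, rfl, hfix, rfl⟩ := h1
    obtain ⟨z', c', s', rfl, hfix', rfl⟩ := h2
    have e : ((1 : S), s' * (c' * c⁻¹)) • (((1 : S), c) • pt ψ z₀ q) =
        ((1 : S), (c' * c⁻¹) * s) • (((1 : S), c) • pt ψ z₀ q) := by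
      have h3 := congrArg (fun t => ((a ^ Function.minimalPeriod (fun r => ι a • r) q)⁻¹, (1 : S)) • t)
        hfix'
      have h4 := congrArg (fun t => ((a ^ Function.minimalPeriod (fun r => ι a • r) q)⁻¹, c' * c⁻¹) • t)
        hfix
      simp only [smul_smul, Prod.mk_mul_mk, one_mul, mul_one, inv_mul_cancel, inv_mul_cancel_right, mul_assoc] at h3 h4 ⊢
      exact h3.trans h4.symm
    have hs : s' = (c' * c⁻¹) * s * (c' * c⁻¹)⁻¹ := eq_mul_inv_of_mul_eq (free_eq hg e)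
    rw [hs, map_mul, map_mul, map_inv, Subgroup.mem_center_iff.mp (hD hd), mul_inv_cancel_right]
  have hfac : ∀ a q, ρ a ∈ D → ∃ d, Char a q d ∧ ∀ hmem,
      ((h ⟨q.out⁻¹ * ι a ^ Function.minimalPeriod (fun r => ι a • r) q * q.out, hmem⟩ : D) : E) =
        ρ a ^ Function.minimalPeriod (fun r => ι a • r) q * d⁻¹ := by
    intro a q ha
    have hmem0 := QuotientGroup.out_conj_pow_minimalPeriod_mem (orbitStab ψ z₀) (ι a) q
    refine ⟨ρ (ev hg ψ z₀ ⟨_, hmem0⟩), ⟨_, 1, _, ?_, factor_fixed hg ψ z₀ (hψι a) _ q hmem0, rfl⟩,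
      fun hmem => ?_⟩
    · rw [Prod.mk_one_one, one_smul]
    · show ℓ⁻¹ * (q.out⁻¹ * ι a ^ _ * q.out).1.2 * ℓ * _ = _
      have hk : ρ a ^ Function.minimalPeriod (fun r => ι a • r) q ∈ Subgroup.center E :=
        hD (pow_mem ha _)
      have e : (q.out⁻¹ * ι a ^ Function.minimalPeriod (fun r => ι a • r) q * q.out).1.2 =
          ρ a ^ Function.minimalPeriod (fun r => ι a • r) q := by
        let π₂ : Γ →* E := (MonoidHom.snd (equivGroup S X) E).comp (labelGroup (S := S) (X := X) D L).subtype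
        show π₂ (q.out⁻¹ * ι a ^ Function.minimalPeriod (fun r => ι a • r) q * q.out) = _
        rw [map_mul, map_mul, map_inv, map_pow, show π₂ (ι a) = ρ a from rfl,
          Subgroup.mem_center_iff.mp hk, mul_assoc,
          inv_mul_cancel, mul_one]
      rw [e, Subgroup.mem_center_iff.mp hk, mul_assoc, mul_assoc, inv_mul_cancel_left]
  choose dd hdd using hfac
  have hper : ∀ q, Function.minimalPeriod (fun r => ι v • r) (ηE q) =
      Function.minimalPeriod (fun r => ι u • r) q := fun q => by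
    refine Function.minimalPeriod_eq_minimalPeriod_iff.mpr fun n => ?_
    have := (hsemi.iterate_right n) q
    simp only [Function.IsPeriodicPt, Function.IsFixedPt]
    rw [← this]
    exact ηE.injective.eq_iff
  have hshift : ∀ (a : S) (ha : ρ a ∈ D) (q q' : Q) (n : ℕ), q' = (fun r => ι a • r)^[n] q →
      dd a q' ha = dd a q ha := by
    intro a ha q q' n hn
    refine hCharUniq a q' _ _ ha (hdd a q' ha).1 ?_
    obtain ⟨z, c, s, hz, hfix, hd⟩ := (hdd a q ha).1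
    have hperiod : Function.minimalPeriod (fun r => ι a • r) q' =
        Function.minimalPeriod (fun r => ι a • r) q := by
      rw [hn]
      exact Function.minimalPeriod_apply_iterate
        (Function.mk_mem_periodicPts (orderOf_pos (ι a)) (by
          show (fun r => ι a • r)^[orderOf (ι a)] q = q
          rw [smul_iterate, pow_orderOf_eq_one]; exact one_smul Γ q)) n
    rw [smul_iterate] at hn
    obtain ⟨c', hc'⟩ := pt_smul ψ z₀ (ι a ^ n) q
    replace hn : q' = ι a ^ n • q := hn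
    rw [← hn, ← map_pow, hψι, lft_apply] at hc'
    refine ⟨((a ^ n, 1) : S × S) • z, c * c'⁻¹, s, ?_, ?_, hd⟩
    · rw [hc', hz]
      simp only [smul_smul, Prod.mk_mul_mk, one_mul, mul_one, inv_mul_cancel_right]
    · rw [hperiod, smul_smul]
      have hcomm : ((a ^ Function.minimalPeriod (fun r => ι a • r) q, s) : S × S) * (a ^ n, 1) =
          (a ^ n, 1) * (a ^ Function.minimalPeriod (fun r => ι a • r) q, s) := by
        simp only [Prod.mk_mul_mk, one_mul, mul_one, ← pow_add, add_comm]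
      rw [hcomm, mul_smul, hfix]
  haveI := (orbitStab ψ z₀).fintypeQuotientOfFiniteIndex
  have htr : ∀ (a : S) (ha : ρ a ∈ D),
      tr (ι a) = (⟨ρ a, ha⟩ : D) ^ m * (∏ o : Quotient (orbitRel (Subgroup.zpowers (ι a)) Q),
        (⟨dd a o.out ha, hCharD a _ _ ha (hdd a o.out ha).1⟩ : D))⁻¹ := by
    intro a ha
    simp only [tr, MonoidHom.transfer_eq_prod_quotient_orbitRel_zpowers_quot]
    rw [← hidx, Subgroup.index_eq_sum_minimalPeriod (orbitStab ψ z₀) (ι a),
      ← Finset.prod_pow_eq_pow_sum, ← Finset.prod_inv_distrib, ← Finset.prod_mul_distrib]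
    refine Finset.prod_congr rfl fun o _ => Subtype.ext ?_
    simp only [Subgroup.coe_mul, Subgroup.coe_pow, Subgroup.coe_inv]
    exact (hdd a o.out ha).2 _
  have hrel : ∀ q q' : Q, (orbitRel (Subgroup.zpowers (ι u)) Q) q q' ↔
      (orbitRel (Subgroup.zpowers (ι v)) Q) (ηE q) (ηE q') := by
    have key : ∀ (a : S) (q q' : Q), (orbitRel (Subgroup.zpowers (ι a)) Q) q q' ↔
        ∃ n : ℕ, (fun r => ι a • r)^[n] q' = q := by
      intro a q q'
      constructor
      · rintro ⟨⟨g, hg'⟩, rfl⟩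
        obtain ⟨n, rfl⟩ := (isOfFinOrder_of_finite (ι a)).mem_powers_iff_mem_zpowers.mpr hg'
        exact ⟨n, by rw [smul_iterate]; rfl⟩
      · rintro ⟨n, rfl⟩
        exact ⟨⟨ι a ^ n, Subgroup.npow_mem_zpowers _ n⟩, by rw [smul_iterate]; rfl⟩
    intro q q'
    rw [key, key]
    refine exists_congr fun n => ?_
    rw [← hsemi.iterate_right n q', ηE.injective.eq_iff]
  have hT : tr (ι v) * (tr (ι u))⁻¹ = ((⟨ρ v, hvD⟩ : D) * (⟨ρ u, hx⟩ : D)⁻¹) ^ m := by
    rw [htr v hvD, htr u hx, mul_pow, inv_pow]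
    have hprod : (∏ o : Quotient (orbitRel (Subgroup.zpowers (ι v)) Q),
        (⟨dd v o.out hvD, hCharD v _ _ hvD (hdd v o.out hvD).1⟩ : D)) =
        ∏ o : Quotient (orbitRel (Subgroup.zpowers (ι u)) Q),
          (⟨dd u o.out hx, hCharD u _ _ hx (hdd u o.out hx).1⟩ : D) := by
      refine (Fintype.prod_equiv (Quotient.congr ηE hrel) _ _ fun o => Subtype.ext ?_).symm
      show dd u o.out hx = dd v (Quotient.congr ηE hrel o).out hvD
      have ho : Quotient.congr ηE hrel o = Quotient.mk _ (ηE o.out) := by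
        conv_lhs => rw [← Quotient.out_eq o]
        rfl
      have h1 : dd v (ηE o.out) hvD = dd u o.out hx := by
        refine hCharUniq v _ _ _ hvD (hdd v _ hvD).1 ?_
        obtain ⟨z, c, s, hz, hfix, hd⟩ := (hdd u o.out hx).1
        refine ⟨ε.1 z, c * b o.out, s, ?_, ?_, hd⟩
        · rw [hz, equiv_apply, hηb, smul_smul, Prod.mk_mul_mk, one_mul]
          rfl
        · rw [hper, ← hεu, hfix]
      have h2 : (orbitRel (Subgroup.zpowers (ι v)) Q) (Quotient.congr ηE hrel o).out (ηE o.out) := by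
        refine Quotient.exact ?_
        rw [Quotient.out_eq, ho]
      obtain ⟨⟨g, hg'⟩, hgq⟩ := h2
      obtain ⟨n, rfl⟩ := (isOfFinOrder_of_finite (ι v)).mem_powers_iff_mem_zpowers.mpr hg'
      rw [← hgq, ← h1]
      exact (hshift v hvD (ηE o.out) _ n (by rw [smul_iterate]; rfl)).symm
    rw [hprod, mul_inv_rev, inv_inv]
    rw [mul_assoc, ← mul_assoc (∏ o, _)⁻¹, inv_mul_cancel, one_mul]
  exact congrArg Subtype.val hT

end Central

end Cfsg.Agent.Lib.FusionP3.Transfer
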