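import Mathlib.Data.Nat.Choose.Dvd
import Mathlib.Algebra.CharP.Lemmas
import Mathlib.GroupTheory.Nilpotent
import Mathlib.RingTheory.Nilpotent.Basic
import Mathlib.Tactic.NoncommRing
import Mathlib.Tactic.Group
import Mathlib.Tactic.Ring

/-!
Group theory for the fusion system statements on powers of central elements: an element acting on an abelian
group as an automorphism `t` with `t^p = 1` and `(t-1)^c = 0`, `c ≤ n(p-1)+1`, fixes the `p^n`-th powers;
the exponent of a nilpotent group is bounded by the exponent of its centre and its class.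
-/

set_option autoImplicit false

namespace Cfsg.Agent.Lib.FusionP3.GroupLemmas

open scoped commutatorElement

theorem natCast_pow_mul_eq_zero {R : Type*} [Ring R] {p : ℕ} (hp : p.Prime) {δ : R}
    (h1 : (1 + δ) ^ p = 1) {n c : ℕ} (hc : δ ^ c = 0) (hcn : c ≤ n * (p - 1) + 1) :
    (p : R) ^ n * δ = 0 := by
  have hexp := (Commute.one_right δ).add_pow_prime_eq hp
  rw [add_comm δ 1, h1, one_pow] at hexp
  set f : ℕ → R := fun k => δ ^ (k - 1) * 1 ^ (p - k - 1) * ((p.choose k / p : ℕ) : R) with hf
  have hsum : ∑ k ∈ Finset.Ioo 0 p, f k = 1 + ∑ k ∈ Finset.Ioo 1 p, f k := by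
    have h : Finset.Ioo 0 p = insert 1 (Finset.Ioo 1 p) := by
      ext k; simp only [Finset.mem_Ioo, Finset.mem_insert]; have := hp.two_le; omega
    rw [h, Finset.sum_insert (by simp)]
    congr 1
    simp [hf, Nat.div_self hp.pos]
  set r : R := ∑ k ∈ Finset.Ioo 1 p, δ ^ (k - 2) * ((p.choose k / p : ℕ) : R) with hr
  have hrest : ∑ k ∈ Finset.Ioo 1 p, f k = δ * r := by
    rw [hr, Finset.mul_sum]
    refine Finset.sum_congr rfl fun k hk => ?_
    have hk2 : k - 1 = (k - 2) + 1 := by have := (Finset.mem_Ioo.mp hk).1; omega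
    simp only [hf, one_pow, mul_one]
    rw [hk2, pow_succ', mul_assoc]
  have hcr : Commute δ r := by
    rw [hr]
    exact Commute.sum_right _ _ _ fun k _ => ((Commute.refl δ).pow_right _).mul_right
      (Nat.commute_cast δ _)
  have hnil : IsNilpotent (δ * r) := hcr.isNilpotent_mul_right ⟨c, hc⟩
  obtain ⟨u, hu⟩ := hnil.isUnit_one_add
  have h2 : (p : R) * δ * (u : R) = -(δ ^ p) := by
    have h3 : (0 : R) = δ ^ p + (p : R) * δ * 1 * ∑ k ∈ Finset.Ioo 0 p, f k := by
      have := congrArg (fun y => y - 1) hexp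
      simp only [sub_self] at this
      rw [this]
      simp only [hf]
      abel
    rw [hsum, hrest, ← hu, mul_one] at h3
    exact eq_neg_of_add_eq_zero_right h3.symm
  have h4 : (p : R) * δ = δ ^ p * (-((u⁻¹ : Rˣ) : R)) := by
    calc (p : R) * δ = (p : R) * δ * (u : R) * ((u⁻¹ : Rˣ) : R) := by
          rw [Units.mul_inv_cancel_right]
      _ = -(δ ^ p) * ((u⁻¹ : Rˣ) : R) := by rw [h2]
      _ = _ := by rw [neg_mul, mul_neg]
  -- commuting form
  set v : R := -((u⁻¹ : Rˣ) : R)
  have key : ∀ (m j : ℕ), 1 ≤ j → c ≤ m * (p - 1) + j → (p : R) ^ m * δ ^ j = 0 := by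
    intro m
    induction m with
    | zero =>
      intro j _ hj
      rw [pow_zero, one_mul]
      exact pow_eq_zero_of_le (by simpa using hj) hc
    | succ m ih =>
      intro j hj hle
      obtain ⟨i, rfl⟩ : ∃ i, j = i + 1 := ⟨j - 1, by omega⟩
      have hle' : c ≤ m * (p - 1) + (i + p) := by
        have : (m + 1) * (p - 1) = m * (p - 1) + (p - 1) := by ring
        have := hp.one_le
        omega
      calc (p : R) ^ (m + 1) * δ ^ (i + 1)
          = (p : R) ^ m * ((p : R) * δ ^ i * δ) := by rw [pow_succ, pow_succ]; noncomm_ring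
        _ = (p : R) ^ m * (δ ^ i * ((p : R) * δ)) := by
            rw [(Nat.cast_commute p (δ ^ i)).eq, mul_assoc]
        _ = (p : R) ^ m * δ ^ (i + p) * v := by rw [h4, pow_add]; noncomm_ring
        _ = 0 := by rw [ih (i + p) (by have := hp.one_le; omega) hle', zero_mul]
  simpa using key n 1 le_rfl (by omega)

variable {Ω : Type*} [Group Ω]

/-- If `x ∈ S` normalizes the abelian subgroup `V ≤ S`, `x ^ p` centralizes `V` and `S` has class at most `c`,
with `c ≤ n(p-1)+1`, then `x` centralizes the `p^n`-th powers of `V`. -/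
theorem conj_pow_eq {p : ℕ} (hp : p.Prime) {S V : Subgroup Ω} {x : Ω} (hx : x ∈ S) (hVS : V ≤ S)
    (hVc : ∀ a ∈ V, ∀ b ∈ V, a * b = b * a) (hxV : ∀ v ∈ V, x * v * x⁻¹ ∈ V)
    (hxp : ∀ v ∈ V, x ^ p * v = v * x ^ p) {n c : ℕ} (hcl : S.lowerCentralSeries c = ⊥)
    (hcn : c ≤ n * (p - 1) + 1) {v : Ω} (hv : v ∈ V) :
    x * v ^ (p ^ n) * x⁻¹ = v ^ (p ^ n) := by
  let _ : CommGroup V :=
    { (inferInstance : Group V) with mul_comm := fun a b => Subtype.ext (hVc a a.2 b b.2) }
  let t : AddMonoid.End (Additive V) :=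
    { toFun := fun w => Additive.ofMul ⟨x * (w.toMul : V).1 * x⁻¹, hxV _ (w.toMul : V).2⟩
      map_zero' := by apply Additive.toMul.injective; apply Subtype.ext; simp
      map_add' := fun a b => by apply Additive.toMul.injective; apply Subtype.ext; simp }
  have ht : ∀ (k : ℕ) (w : Additive V),
      (((t ^ k) w).toMul : V).1 = x ^ k * (w.toMul : V).1 * (x ^ k)⁻¹ := by
    intro k
    induction k with
    | zero => intro w; simp
    | succ k ih =>
      intro w
      have : (t ^ (k + 1)) w = t ((t ^ k) w) := by rw [pow_succ']; rfl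
      rw [this]
      show x * (((t ^ k) w).toMul : V).1 * x⁻¹ = _
      rw [ih, pow_succ']
      group
  set δ : AddMonoid.End (Additive V) := t - 1 with hδ
  have h1 : (1 + δ) ^ p = 1 := by
    rw [hδ, add_sub_cancel]
    refine AddMonoidHom.ext fun w => ?_
    apply Additive.toMul.injective
    apply Subtype.ext
    refine (ht p w).trans ?_
    rw [hxp _ (w.toMul : V).2, mul_inv_cancel_right]
    rfl
  have hser : ∀ (k : ℕ) (w : Additive V), (((δ ^ k) w).toMul : V).1 ∈ S.lowerCentralSeries k := by
    intro k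
    induction k with
    | zero => intro w; exact hVS (w.toMul : V).2
    | succ k ih =>
      intro w
      have : (δ ^ (k + 1)) w = t ((δ ^ k) w) - (δ ^ k) w := by rw [pow_succ']; rfl
      rw [this, toMul_sub]
      show x * (((δ ^ k) w).toMul : V).1 * x⁻¹ / (((δ ^ k) w).toMul : V).1 ∈ _
      rw [div_eq_mul_inv, Subgroup.lowerCentralSeries_succ]
      have h := Subgroup.commutator_mem_commutator (ih w) hx
      have h' := inv_mem h
      rwa [commutatorElement_inv, commutatorElement_def] at h'
  have hc : δ ^ c = 0 := by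
    refine AddMonoidHom.ext fun w => ?_
    apply Additive.toMul.injective
    apply Subtype.ext
    have := hser c w
    rw [hcl, Subgroup.mem_bot] at this
    refine this.trans ?_
    rfl
  have := natCast_pow_mul_eq_zero hp h1 hc hcn
  rw [← Nat.cast_pow, ← nsmul_eq_mul] at this
  have h2 : (p ^ n) • (δ (Additive.ofMul (⟨v, hv⟩ : V))) = 0 := by
    have h := DFunLike.congr_fun this (Additive.ofMul (⟨v, hv⟩ : V))
    exact h
  have h3 : (x * v * x⁻¹ * v⁻¹) ^ (p ^ n) = 1 := by
    have h := congrArg (fun w : Additive V => ((w.toMul : V) : Ω)) h2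
    rw [toMul_nsmul, SubgroupClass.coe_pow] at h
    rw [← div_eq_mul_inv]
    exact h
  have hcomm : Commute (x * v * x⁻¹) v⁻¹ := (Commute.inv_right (hVc _ (hxV v hv) _ hv))
  rw [hcomm.mul_pow, conj_pow, inv_pow, mul_inv_eq_one] at h3
  exact h3

/-- The exponent of a group of class at most `c` divides the `c`-th power of any bound on its centre. -/
theorem pow_eq_one_of_center {m c : ℕ} : ∀ {G : Type*} [Group G], Subgroup.upperCentralSeries G c = ⊤ →
    (∀ z ∈ Subgroup.center G, z ^ m = 1) → ∀ x : G, x ^ (m ^ c) = 1 := by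
  induction c with
  | zero =>
    intro G _ h _ x
    have : x ∈ Subgroup.upperCentralSeries G 0 := h ▸ Subgroup.mem_top x
    simpa using this
  | succ c ih =>
    intro G _ h hz x
    have h' : Subgroup.upperCentralSeries (G ⧸ Subgroup.center G) c = ⊤ := by
      refine Subgroup.comap_injective (QuotientGroup.mk'_surjective (Subgroup.center G)) ?_
      rw [Subgroup.comap_upperCentralSeries_quotient_center, h, Subgroup.comap_top]
    have hz' : ∀ z ∈ Subgroup.center (G ⧸ Subgroup.center G), z ^ m = 1 := by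
      intro z
      refine QuotientGroup.induction_on z fun a ha => ?_
      rw [← QuotientGroup.mk_pow, QuotientGroup.eq_one_iff, Subgroup.mem_center_iff]
      intro y
      have hc : ⁅a, y⁆ ∈ Subgroup.center G := by
        rw [← QuotientGroup.eq_one_iff, ← QuotientGroup.mk'_apply, map_commutatorElement,
          commutatorElement_eq_one_iff_mul_comm]
        exact (Subgroup.mem_center_iff.mp ha _).symm
      have h1 : y * a * y⁻¹ = ⁅a, y⁆⁻¹ * a := by simp [commutatorElement_def, mul_assoc]
      have h2 : Commute ⁅a, y⁆⁻¹ a := (Subgroup.mem_center_iff.mp (inv_mem hc) a).symm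
      have h3 := congrArg (fun t => t ^ m) h1
      simp only [conj_pow, h2.mul_pow, inv_pow, hz _ hc, inv_one, one_mul] at h3
      rwa [mul_inv_eq_iff_eq_mul] at h3
    have h4 := ih h' hz' (x : G ⧸ Subgroup.center G)
    rw [← QuotientGroup.mk_pow, QuotientGroup.eq_one_iff] at h4
    have h5 := hz _ h4
    rwa [← pow_mul, ← pow_succ] at h5

theorem upperCentralSeries_subtype_eq_top {S : Subgroup Ω} {c : ℕ} (h : S.lowerCentralSeries c = ⊥) :
    Subgroup.upperCentralSeries S c = ⊤ := by
  rw [← Subgroup.lowerCentralSeries_eq_bot_iff_upperCentralSeries_eq_top, ← Subgroup.map_subtype_inj,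
    Subgroup.map_bot, Subgroup.top_subtype_lowerCentralSeries, h]

end Cfsg.Agent.Lib.FusionP3.GroupLemmas
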