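import Cfsg.Prelude.Def_PLocal
import Cfsg.Agent.Lib.FusionP3.GroupLemmas
import Cfsg.Agent.Lib.FusionP3.StronglyClosed
import Cfsg.Agent.Lib.FusionSystem.Normal

/-!
In a saturated fusion system over a `p`-group of small class the `p ^ n`-th powers of the centre form a normal
subgroup.
-/

set_option autoImplicit false
set_option linter.style.haveILetI false

namespace Cfsg.Agent.Lib.FusionP3.Agemo

open Cfsg Cfsg.FusionSystem Cfsg.Agent.Lib.FS Cfsg.Agent.Lib.FusionP3.Induction
  Cfsg.Agent.Lib.FusionP3.StronglyClosed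

variable {Ω : Type*} [Group Ω]

/-- The elements of `X` fixing the set `A` pointwise. -/
def fixSet {P : Subgroup Ω} (X : Subgroup (MulAut P)) (A : Set P) : Subgroup X where
  carrier := {β | ∀ x ∈ A, β.1 x = x}
  one_mem' := fun x _ => rfl
  mul_mem' := fun {a b} ha hb x hx => by rw [Subgroup.coe_mul, MulAut.mul_apply, hb x hx, ha x hx]
  inv_mem' := fun {a} ha x hx => by
    have h := congrArg (fun y => (a.1⁻¹ : MulAut P) y) (ha x hx)
    rw [MulAut.inv_apply_self] at h
    rw [Subgroup.coe_inv]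
    exact h.symm

theorem fixSet_normal {P : Subgroup Ω} (X : Subgroup (MulAut P)) {A : Set P}
    (hA : ∀ β ∈ X, ∀ x ∈ A, β x ∈ A) : (fixSet X A).Normal :=
  ⟨fun β hβ γ x hx => by
    rw [Subgroup.coe_mul, Subgroup.coe_mul, Subgroup.coe_inv, MulAut.mul_apply, MulAut.mul_apply,
      hβ _ (hA _ (X.inv_mem γ.2) x hx), MulAut.apply_inv_self]⟩

theorem apply_mem_center {G : Type*} [Group G] (β : MulAut G) {x : G} (hx : x ∈ Subgroup.center G) :
    β x ∈ Subgroup.center G := by
  refine Subgroup.mem_center_iff.mpr fun y => ?_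
  obtain ⟨z, rfl⟩ := β.surjective y
  rw [← map_mul, ← map_mul, Subgroup.mem_center_iff.mp hx z]

variable {S : Subgroup Ω} {F : FusionSystem S}

theorem powerClosure_center_le (p n : ℕ) :
    powerClosure p n (S ⊓ Subgroup.centralizer (S : Set Ω)) ≤ S ⊓ Subgroup.centralizer (S : Set Ω) :=
  (Subgroup.closure_le _).mpr fun _ ⟨_, hz, hy⟩ => hy ▸ pow_mem hz _

theorem center_le_of_isCentric {P : Subgroup Ω} (hc : F.IsCentric P) :
    S ⊓ Subgroup.centralizer (S : Set Ω) ≤ P := fun _ hz =>
  hc.2 P (isConj_refl F hc.1) ⟨hz.1, fun x hx => hz.2 x (hc.1 hx)⟩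

variable [Finite S] {p : ℕ} [Fact p.Prime]

theorem apply_mem_powerClosure (hS : IsPGroup p S) (hF : F.IsSaturated p) {n c : ℕ}
    (hcl : S.lowerCentralSeries c = ⊥) (hcn : c ≤ n * (p - 1) + 1) :
    ∀ (P : Subgroup Ω) (φ : P →* Ω), φ ∈ F.Hom P → ∀ x : P,
      (x : Ω) ∈ powerClosure p n (S ⊓ Subgroup.centralizer (S : Set Ω)) →
        φ x ∈ powerClosure p n (S ⊓ Subgroup.centralizer (S : Set Ω)) := by
  set Z := S ⊓ Subgroup.centralizer (S : Set Ω) with hZ
  refine hom_induction hS hF (M := fun P φ => ∀ x : P, (x : Ω) ∈ powerClosure p n Z → φ x ∈ powerClosure p n Z)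
    ?_ ?_ ?_
  · intro P Q φ ψ χ _ _ h he h1 h2 x hx
    rw [he]
    exact h2 _ (h1 x hx)
  · intro P Q φ ψ h _ he h1 x hx
    rw [he]
    exact h1 ⟨x, h x.2⟩ hx
  · intro P hPfn hPc _ α hα big
    haveI := finite_sub hPfn.1
    have hZP : Z ≤ P := center_le_of_isCentric hPc
    -- it is enough to treat the generators
    suffices key : ∀ (z : Ω) (hz : z ∈ Z), ((α ⟨z, hZP hz⟩ : P) : Ω) ^ (p ^ n) ∈ powerClosure p n Z by
      intro x hx
      suffices h : powerClosure p n Z ≤ ((powerClosure p n Z).comap (P.subtype.comp α.toMonoidHom)).map P.subtype by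
        obtain ⟨y, hy, hyx⟩ := h hx
        obtain rfl : y = x := Subtype.ext hyx
        exact hy
      refine (Subgroup.closure_le _).mpr ?_
      rintro _ ⟨z, hz, rfl⟩
      refine ⟨⟨z, hZP hz⟩ ^ (p ^ n), ?_, rfl⟩
      show ((α (⟨z, hZP hz⟩ ^ (p ^ n)) : P) : Ω) ∈ powerClosure p n Z
      rw [map_pow, Subgroup.coe_pow]
      exact key z hz
    rcases hPfn.1.lt_or_eq with hPS | hPS
    · intro z hz
      set X := F.autGroup P
      have hzc : (⟨z, hZP hz⟩ : P) ∈ Subgroup.center P :=
        Subgroup.mem_center_iff.mpr fun y => Subtype.ext (hz.2 y (hPfn.1 y.2))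
      let A : Set P := (fun v => v ^ (p ^ n)) '' (Subgroup.center P : Set P)
      let K := fixSet X A
      let C := fixSet X (Subgroup.center P : Set P)
      haveI : K.Normal := fixSet_normal X fun β _ x hx => by
        obtain ⟨v, hv, rfl⟩ := hx
        exact ⟨β v, apply_mem_center β hv, (map_pow β v _).symm⟩
      obtain ⟨-, R, hR⟩ := fullyAutomized_of_fullyNormalized hS hF hPfn
      have hRmem : ∀ r ∈ (R : Subgroup X), ∃ g ∈ normalizerIn S P, ∀ x : P, ((r.1 x : P) : Ω) = g * x * g⁻¹ := by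
        intro r hr
        rw [hR, Subgroup.mem_subgroupOf, mem_autInducedBy] at hr
        obtain ⟨g, hg, e⟩ := hr
        exact ⟨g, ⟨hg, mem_normalizer_of_aut e⟩, e⟩
      -- elements of order `p` modulo the kernel fix the powers
      have hpK : ∀ r ∈ (R : Subgroup X), r ^ p ∈ C → r ∈ K := by
        rintro r hr hrp _ ⟨v, hv, rfl⟩
        obtain ⟨g, hg, e⟩ := hRmem r hr
        have epow : ∀ (k : ℕ) (w : P), ((((r ^ k : X) : MulAut P) w : P) : Ω) = g ^ k * w * (g ^ k)⁻¹ := by
          intro k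
          induction k with
          | zero => intro w; simp
          | succ k ih => intro w; rw [pow_succ', Subgroup.coe_mul, MulAut.mul_apply, e, ih, pow_succ']; group
        apply Subtype.ext
        rw [map_pow, Subgroup.coe_pow, Subgroup.coe_pow, e, conj_pow]
        refine GroupLemmas.conj_pow_eq (Fact.out : p.Prime) (V := (Subgroup.center P).map P.subtype) hg.1
          ((Subgroup.map_subtype_le _).trans hPfn.1) ?_ ?_ ?_ hcl hcn ⟨v, hv, rfl⟩
        · rintro _ ⟨a, -, rfl⟩ _ ⟨b, hb, rfl⟩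
          exact congrArg Subtype.val (Subgroup.mem_center_iff.mp hb a)
        · rintro _ ⟨w, hw, rfl⟩
          exact ⟨r.1 w, apply_mem_center r.1 hw, e w⟩
        · rintro _ ⟨w, hw, rfl⟩
          have h1 := epow p w
          rw [hrp w hw] at h1
          rw [eq_mul_inv_iff_mul_eq] at h1
          exact h1.symm
      let W : Subgroup (MulAut P) := ((R : Subgroup X) ⊓ K).map X.subtype
      have hWT : W ≤ autInducedBy S P := by
        rintro _ ⟨w, hw, rfl⟩
        have h1 := hw.1
        rw [hR] at h1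
        exact Subgroup.mem_subgroupOf.mp h1
      have hCK : C ≤ K := fun β hβ _ ⟨v, hv, hx⟩ => by rw [← hx, map_pow, hβ v hv]
      have hinn : ∀ (q : P) (hq : MulAut.conj q ∈ X), (⟨MulAut.conj q, hq⟩ : X) ∈ C := by
        intro q hq v hv
        show q * v * q⁻¹ = v
        rw [Subgroup.mem_center_iff.mp hv q, mul_inv_cancel_right]
      have hmem : ∀ r ∈ (R : Subgroup X), r ∈ K → ∀ g ∈ normalizerIn S P,
          (∀ x : P, ((r.1 x : P) : Ω) = g * x * g⁻¹) → g ∈ preimageAut S P W :=
        fun r hr hrK g hg e => ⟨hg, r.1, ⟨r, ⟨hr, hrK⟩, rfl⟩, e⟩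
      have hlt : P < preimageAut S P W := by
        have hle : P ≤ preimageAut S P W := by
          intro q hq
          have hqX : MulAut.conj (⟨q, hq⟩ : P) ∈ X := inn_le_autGroup F hPfn.1 ⟨_, rfl⟩
          refine hmem ⟨_, hqX⟩ ?_ (hCK (hinn _ hqX)) q (le_normalizerIn hPfn.1 hq) fun x => rfl
          rw [hR]
          exact Subgroup.mem_subgroupOf.mpr (inn_le_autInducedBy hPfn.1 ⟨_, rfl⟩)
        refine lt_of_le_of_ne hle fun heq => ?_
        -- otherwise the Sylow subgroup centralizes the centre of `P`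
        have hRC : ∀ r ∈ (R : Subgroup X), r ∈ K → r ∈ C := by
          intro r hr hrK v hv
          obtain ⟨g, hg, e⟩ := hRmem r hr
          have hgP : g ∈ P := heq ▸ hmem r hr hrK g hg e
          apply Subtype.ext
          rw [e]
          have h1 := congrArg Subtype.val (Subgroup.mem_center_iff.mp hv ⟨g, hgP⟩)
          simp only [Subgroup.coe_mul] at h1
          rw [h1, mul_inv_cancel_right]
        have hRle : ∀ (k : ℕ), ∀ r ∈ (R : Subgroup X), r ^ p ^ k ∈ C → r ∈ C := by
          intro k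
          induction k with
          | zero => intro r _ h; simpa using h
          | succ k ih =>
            intro r hr h
            rw [pow_succ', pow_mul] at h
            have h1 := ih (r ^ p) (pow_mem hr p) h
            exact hRC r hr (hpK r hr h1)
        refine (lt_normalizerIn hS hPS).not_ge fun g hg => ?_
        rw [heq]
        have hgX : P.normalizerMonoidHom ⟨g, hg.2⟩ ∈ autInducedBy S P :=
          mem_autInducedBy.mpr ⟨g, hg.1, fun _ => rfl⟩
        have hr : (⟨_, autInducedBy_le_autGroup F hPfn.1 hgX⟩ : X) ∈ (R : Subgroup X) := by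
          rw [hR]; exact Subgroup.mem_subgroupOf.mpr hgX
        obtain ⟨k, hk⟩ := R.2 ⟨_, hr⟩
        exact hmem _ hr (hCK (hRle k _ hr (by
          rw [show (⟨_, autInducedBy_le_autGroup F hPfn.1 hgX⟩ : X) ^ p ^ k = 1 from
            congrArg Subtype.val hk]
          exact one_mem C))) g hg fun _ => rfl
      obtain ⟨ν, hν, κ, hκ, hνκ⟩ := Subgroup.mem_sup_of_normal_right.mp
        ((normalizer_inf_sup_eq_top R K).ge (Subgroup.mem_top (⟨α, hα⟩ : X)))
      obtain ⟨ψ, hψ, e⟩ := exists_extend_preimage (receptive_of_fullyNormalized hS hF hPfn) hWT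
        (α := ν.1) ν.2 fun w hw => by
          obtain ⟨v, hv, rfl⟩ := hw
          exact ⟨ν * v * ν⁻¹, (Subgroup.mem_normalizer_iff.mp hν v).mp hv, rfl⟩
      haveI := finite_sub ((preimageAut_le P W).trans (normalizerIn_le P) : preimageAut S P W ≤ S)
      have hb := big _ (lt_of_not_ge fun h => hlt.ne (Subgroup.eq_of_le_of_card_ge hlt.le h)) ψ hψ
      have h1 := hb ⟨z ^ (p ^ n), hlt.le (pow_mem (hZP hz) _)⟩ (Subgroup.subset_closure ⟨z, hz, rfl⟩)
      rw [e _ (pow_mem (hZP hz) _)] at h1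
      have h2 : α (⟨z, hZP hz⟩ ^ (p ^ n)) = ν.1 (⟨z, hZP hz⟩ ^ (p ^ n)) := by
        have h3 : α = (ν * κ : X).1 := by rw [hνκ]
        rw [h3, Subgroup.coe_mul, MulAut.mul_apply, hκ _ ⟨_, hzc, rfl⟩]
      rw [← Subgroup.coe_pow, ← map_pow, h2]
      exact h1
    · subst hPS
      intro z hz
      refine Subgroup.subset_closure ⟨_, ⟨(α _).2, fun y hy => ?_⟩, rfl⟩
      have h1 := apply_mem_center α (x := (⟨z, hZP hz⟩ : P))
        (Subgroup.mem_center_iff.mpr fun w => Subtype.ext (hz.2 w w.2))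
      exact congrArg Subtype.val (Subgroup.mem_center_iff.mp h1 ⟨y, hy⟩)

theorem isNormal_powerClosure_center (hS : IsPGroup p S) (hF : F.IsSaturated p) {n c : ℕ}
    (hcl : S.lowerCentralSeries c = ⊥) (hcn : c ≤ n * (p - 1) + 1) :
    F.IsNormal (powerClosure p n (S ⊓ Subgroup.centralizer (S : Set Ω))) :=
  isNormal_of_centricRadical hS hF ((powerClosure_center_le p n).trans inf_le_left) fun _ _ hc _ =>
    ⟨(powerClosure_center_le p n).trans (center_le_of_isCentric hc), fun _ hα x hx =>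
      apply_mem_powerClosure hS hF hcl hcn _ _ ((mem_autGroup hc.1).mp hα) x hx⟩

/-- Exponent bound for a saturated system with trivial core. -/
theorem exponent_dvd (hS : IsPGroup p S) (hF : F.IsSaturated p) {n c : ℕ}
    (hcl : S.lowerCentralSeries c = ⊥) (hcn : c ≤ n * (p - 1) + 1) (hcore : F.core = ⊥) :
    Monoid.exponent S ∣ p ^ (n * c) := by
  refine Monoid.exponent_dvd_of_forall_pow_eq_one fun x => ?_
  rw [pow_mul p n c]
  refine GroupLemmas.pow_eq_one_of_center (GroupLemmas.upperCentralSeries_subtype_eq_top hcl) (fun z hz => ?_) x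
  have h1 : (z : Ω) ^ (p ^ n) ∈ F.core :=
    le_sSup (s := {Q : Subgroup Ω | F.IsNormal Q}) (isNormal_powerClosure_center hS hF hcl hcn)
      (Subgroup.subset_closure ⟨z, ⟨z.2, fun y hy =>
        congrArg Subtype.val (Subgroup.mem_center_iff.mp hz ⟨y, hy⟩)⟩, rfl⟩)
  rw [hcore, Subgroup.mem_bot] at h1
  exact Subtype.ext h1

end Cfsg.Agent.Lib.FusionP3.Agemo
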