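import Cfsg.Agent.Lib.FusionP3.MarksExtend
import Cfsg.Agent.Lib.FusionSystem.Saturation

/-!
Characteristic bisets of saturated fusion systems (Broto, Levi, Oliver): a finite `S × S`-set whose
stabilizers are graphs of maps of the system, which is stable under the system on the left and has
`|X| = |S| m` with `m` prime to `p`.
-/

set_option autoImplicit false
set_option linter.style.haveILetI false

namespace Cfsg.Agent.Lib.FusionP3.Biset

open Cfsg Cfsg.FusionSystem Cfsg.Agent.Lib.FS Cfsg.Agent.Lib.FusionP3.GSets MulAction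

universe u

variable {Ω : Type u} [Group Ω] {S : Subgroup Ω} {F : FusionSystem S}

/-- `K` is the graph of maps of the system: the set of pairs `(α x, β x)`. -/
def IsGraph (F : FusionSystem S) (K : Subgroup (S × S)) : Prop :=
  ∃ P : Subgroup Ω, ∃ α ∈ F.Hom P, ∃ β ∈ F.Hom P,
    ∀ z : S × S, z ∈ K ↔ ∃ x : P, α x = z.1 ∧ β x = z.2

/-- The pairs with first entry in `A`. -/
def dom (S A : Subgroup Ω) : Subgroup (S × S) := (A.subgroupOf S).prod ⊤

theorem mem_dom {A : Subgroup Ω} {z : S × S} : z ∈ dom S A ↔ (z.1 : Ω) ∈ A := by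
  simp [dom, Subgroup.mem_prod, Subgroup.mem_subgroupOf]

/-- `(a, b) ↦ (φ a, b)`. -/
def twHom {A : Subgroup Ω} {φ : A →* Ω} (hφ : φ ∈ F.Hom A) : dom S A →* S × S where
  toFun z := (⟨φ ⟨z.1.1, mem_dom.mp z.2⟩, apply_mem hφ _⟩, z.1.2)
  map_one' := by
    refine Prod.ext (Subtype.ext ?_) rfl
    exact map_one φ
  map_mul' a b := by
    refine Prod.ext (Subtype.ext ?_) rfl
    exact map_mul φ ⟨a.1.1, mem_dom.mp a.2⟩ ⟨b.1.1, mem_dom.mp b.2⟩

@[simp] theorem twHom_fst {A : Subgroup Ω} {φ : A →* Ω} (hφ : φ ∈ F.Hom A) (z : dom S A) :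
    ((twHom hφ z).1 : Ω) = φ ⟨z.1.1, mem_dom.mp z.2⟩ := rfl

@[simp] theorem twHom_snd {A : Subgroup Ω} {φ : A →* Ω} (hφ : φ ∈ F.Hom A) (z : dom S A) :
    (twHom hφ z).2 = z.1.2 := rfl

theorem twHom_injective {A : Subgroup Ω} {φ : A →* Ω} (hφ : φ ∈ F.Hom A) :
    Function.Injective (twHom hφ) := by
  intro a b h
  have h1 : φ ⟨a.1.1, mem_dom.mp a.2⟩ = φ ⟨b.1.1, mem_dom.mp b.2⟩ :=
    congrArg (fun w : S × S => (w.1 : Ω)) h
  have h2 : (twHom hφ a).2 = (twHom hφ b).2 := by rw [h]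
  have h3 : (a.1.1 : Ω) = b.1.1 := congrArg (fun w : A => (w : Ω)) (F.injective_of_mem hφ h1)
  exact Subtype.ext (Prod.ext (Subtype.ext h3) h2)

/-- The image of `K` under `(a, b) ↦ (φ a, b)`. -/
def tw {A : Subgroup Ω} {φ : A →* Ω} (hφ : φ ∈ F.Hom A) (K : Subgroup (S × S)) : Subgroup (S × S) :=
  (K.subgroupOf (dom S A)).map (twHom hφ)

theorem mem_tw {A : Subgroup Ω} {φ : A →* Ω} (hφ : φ ∈ F.Hom A) {K : Subgroup (S × S)} {w : S × S} :
    w ∈ tw hφ K ↔ ∃ z : S × S, ∃ h : (z.1 : Ω) ∈ A, z ∈ K ∧ φ ⟨z.1, h⟩ = w.1 ∧ z.2 = w.2 := by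
  constructor
  · rintro ⟨z, hz, rfl⟩
    exact ⟨z.1, mem_dom.mp z.2, hz, rfl, rfl⟩
  · rintro ⟨z, h, hz, h1, h2⟩
    exact ⟨⟨z, mem_dom.mpr h⟩, hz, Prod.ext (Subtype.ext h1) h2⟩

theorem card_tw {A : Subgroup Ω} {φ : A →* Ω} (hφ : φ ∈ F.Hom A) {K : Subgroup (S × S)}
    (hK : K ≤ dom S A) : Nat.card (tw hφ K) = Nat.card K := by
  rw [tw, Subgroup.card_map_of_injective (twHom_injective hφ)]
  exact Nat.card_congr (Subgroup.subgroupOfEquivOfLe hK).toEquiv

theorem map_snd_tw {A : Subgroup Ω} {φ : A →* Ω} (hφ : φ ∈ F.Hom A) {K : Subgroup (S × S)}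
    (hK : K ≤ dom S A) :
    (tw hφ K).map (MonoidHom.snd S S) = K.map (MonoidHom.snd S S) := by
  ext r
  constructor
  · rintro ⟨w, hw, rfl⟩
    obtain ⟨z, _, hz, -, h2⟩ := (mem_tw hφ).mp hw
    exact ⟨z, hz, h2⟩
  · rintro ⟨z, hz, rfl⟩
    exact ⟨(⟨φ ⟨z.1, mem_dom.mp (hK hz)⟩, apply_mem hφ _⟩, z.2),
      (mem_tw hφ).mpr ⟨z, mem_dom.mp (hK hz), hz, rfl, rfl⟩, rfl⟩

theorem isGraph_tw_iff {A : Subgroup Ω} {φ : A →* Ω} (hφ : φ ∈ F.Hom A) {K : Subgroup (S × S)}
    (hK : K ≤ dom S A) : IsGraph F (tw hφ K) ↔ IsGraph F K := by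
  constructor
  · rintro ⟨P, α, hα, β, hβ, h⟩
    obtain ⟨ψ, hψ, -, hl, -⟩ := exists_inv hφ rfl
    have hm : ∀ x : P, α x ∈ φ.range := fun x => by
      obtain ⟨z, hz, -, h1, -⟩ := (mem_tw hφ).mp
        ((h (⟨α x, apply_mem hα x⟩, ⟨β x, apply_mem hβ x⟩)).mpr ⟨x, rfl, rfl⟩)
      exact ⟨_, h1⟩
    obtain ⟨α', hα', e⟩ := exists_comp hα hψ hm
    refine ⟨P, α', hα', β, hβ, fun z => ⟨fun hz => ?_, fun ⟨x, h1, h2⟩ => ?_⟩⟩
    · have hzA := mem_dom.mp (hK hz)
      obtain ⟨x, h1, h2⟩ := (h (⟨φ ⟨z.1, hzA⟩, apply_mem hφ _⟩, z.2)).mp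
        ((mem_tw hφ).mpr ⟨z, hzA, hz, rfl, rfl⟩)
      refine ⟨x, ?_, h2⟩
      rw [e, ← hl ⟨z.1, hzA⟩ ⟨_, rfl⟩]
      exact congrArg ψ (Subtype.ext h1)
    · obtain ⟨w, hwA, hw, g1, g2⟩ := (mem_tw hφ).mp
        ((h (⟨α x, apply_mem hα x⟩, ⟨β x, apply_mem hβ x⟩)).mpr ⟨x, rfl, rfl⟩)
      have : w = z := by
        refine Prod.ext (Subtype.ext ?_) (g2.trans (Subtype.ext h2))
        rw [← h1, e, ← hl ⟨w.1, hwA⟩ ⟨_, rfl⟩]
        exact congrArg ψ (Subtype.ext g1)
      rwa [← this]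
  · rintro ⟨P, α, hα, β, hβ, h⟩
    have hm : ∀ x : P, α x ∈ A := fun x =>
      mem_dom.mp (hK ((h (⟨α x, apply_mem hα x⟩, ⟨β x, apply_mem hβ x⟩)).mpr ⟨x, rfl, rfl⟩))
    obtain ⟨α', hα', e⟩ := exists_comp hα hφ hm
    refine ⟨P, α', hα', β, hβ, fun w => ⟨fun hw => ?_, fun ⟨x, h1, h2⟩ => ?_⟩⟩
    · obtain ⟨z, hzA, hz, g1, g2⟩ := (mem_tw hφ).mp hw
      obtain ⟨x, h1, h2⟩ := (h z).mp hz
      refine ⟨x, ?_, by rw [h2, g2]⟩
      rw [e, ← g1]
      exact congrArg φ (Subtype.ext h1)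
    · exact (mem_tw hφ).mpr ⟨(⟨α x, apply_mem hα x⟩, ⟨β x, apply_mem hβ x⟩), hm x,
        (h _).mpr ⟨x, rfl, rfl⟩, by rw [← h1, e], Subtype.ext h2⟩

theorem isGraph_conj {K : Subgroup (S × S)} (hK : IsGraph F K) (g : S × S) :
    IsGraph F (K.map (MulAut.conj g).toMonoidHom) := by
  obtain ⟨P, α, hα, β, hβ, h⟩ := hK
  have hc : ∀ (γ : P →* Ω), γ ∈ F.Hom P → ∀ a : S,
      ((MulAut.conj (a : Ω)).toMonoidHom.comp γ) ∈ F.Hom P := fun γ hγ a =>
    mem_comp hγ (F.conj_mem (range_le_base hγ) a.2) (fun x => ⟨x, rfl⟩) fun x => rfl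
  refine ⟨P, _, hc α hα g.1, _, hc β hβ g.2, fun z => ?_⟩
  rw [Subgroup.mem_map]
  constructor
  · rintro ⟨w, hw, rfl⟩
    obtain ⟨x, h1, h2⟩ := (h w).mp hw
    exact ⟨x, by simp [h1], by simp [h2]⟩
  · rintro ⟨x, h1, h2⟩
    refine ⟨(⟨α x, apply_mem hα x⟩, ⟨β x, apply_mem hβ x⟩), (h _).mpr ⟨x, rfl, rfl⟩, ?_⟩
    exact Prod.ext (Subtype.ext (by simpa using h1)) (Subtype.ext (by simpa using h2))

theorem isGraph_mono {K K' : Subgroup (S × S)} (hK : IsGraph F K) (hle : K' ≤ K) : IsGraph F K' := by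
  obtain ⟨P, α, hα, β, hβ, h⟩ := hK
  let f : P →* S × S := (α.codRestrict S (apply_mem hα)).prod (β.codRestrict S (apply_mem hβ))
  have hle' : (K'.comap f).map P.subtype ≤ P := Subgroup.map_subtype_le _
  refine ⟨(K'.comap f).map P.subtype, _, restrict_mem hα hle', _, restrict_mem hβ hle', fun z => ?_⟩
  constructor
  · intro hz
    obtain ⟨x, h1, h2⟩ := (h z).mp (hle hz)
    have hx : f x = z := Prod.ext (Subtype.ext h1) (Subtype.ext h2)
    exact ⟨⟨x, x, (Subgroup.mem_comap.mpr (by rw [hx]; exact hz)), rfl⟩, h1, h2⟩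
  · rintro ⟨⟨_, x, hx, rfl⟩, h1, h2⟩
    have hfx : f x = z := Prod.ext (Subtype.ext h1) (Subtype.ext h2)
    exact hfx ▸ hx

/-- A graph in the standard form `{(x, φ x)}`. -/
theorem exists_hom_of_isGraph {K : Subgroup (S × S)} (hK : IsGraph F K) :
    ∃ P : Subgroup Ω, ∃ φ ∈ F.Hom P, Nat.card K = Nat.card P ∧
      ∀ z : S × S, z ∈ K ↔ ∃ h : (z.1 : Ω) ∈ P, φ ⟨z.1, h⟩ = z.2 := by
  obtain ⟨P, α, hα, β, hβ, h⟩ := hK
  obtain ⟨ψ, hψ, hψP, hl, hr⟩ := exists_inv hα rfl
  have hm : ∀ y : α.range, ψ y ∈ P := fun y => hψP.le ⟨y, rfl⟩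
  obtain ⟨φ, hφ, e⟩ := exists_comp hψ hβ hm
  have key : ∀ z : S × S, z ∈ K ↔ ∃ h : (z.1 : Ω) ∈ α.range, φ ⟨z.1, h⟩ = z.2 := by
    intro z
    rw [h z]
    constructor
    · rintro ⟨x, h1, h2⟩
      refine ⟨⟨x, h1⟩, ?_⟩
      rw [e, ← h2]
      refine congrArg β (Subtype.ext ?_)
      show ψ _ = _
      rw [← hl x ⟨x, rfl⟩]
      exact congrArg ψ (Subtype.ext h1.symm)
    · rintro ⟨hy, h2⟩
      exact ⟨⟨ψ ⟨z.1, hy⟩, hm _⟩, hr _ _, by rw [← h2, e]⟩
  refine ⟨α.range, φ, hφ, ?_, key⟩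
  refine (Nat.card_congr
    { toFun := fun y => ⟨(⟨y.1, range_le_base hα y.2⟩, ⟨φ y, apply_mem hφ y⟩),
        (key _).mpr ⟨y.2, rfl⟩⟩
      invFun := fun z => ⟨z.1.1, ((key z.1).mp z.2).1⟩
      left_inv := fun y => rfl
      right_inv := fun z => Subtype.ext (Prod.ext rfl (Subtype.ext ((key z.1).mp z.2).2)) }).symm

theorem card_le_of_isGraph [Finite S] {K : Subgroup (S × S)} (hK : IsGraph F K) :
    Nat.card K ≤ Nat.card S := by
  obtain ⟨P, φ, hφ, hc, -⟩ := exists_hom_of_isGraph hK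
  rw [hc]
  exact Subgroup.card_le_of_le (src_le hφ)

/-- A pair fixing a point determines its second entry from the first. -/
theorem eq_one_of_isGraph {K : Subgroup (S × S)} (hK : IsGraph F K) {b : S} (h : ((1 : S), b) ∈ K) :
    b = 1 := by
  obtain ⟨P, φ, hφ, -, key⟩ := exists_hom_of_isGraph hK
  obtain ⟨h1, h2⟩ := (key _).mp h
  exact Subtype.ext (h2.symm.trans (map_one φ))

/-- Stability of the marks under the system for subgroups of order at least `d`. -/
def Stable (F : FusionSystem S) (X : Type u) [MulAction (S × S) X] (d : ℕ) : Prop :=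
  ∀ (A : Subgroup Ω) (φ : A →* Ω) (hφ : φ ∈ F.Hom A) (K : Subgroup (S × S)),
    K ≤ dom S A → d ≤ Nat.card K → markCount X (tw hφ K) = markCount X K

theorem markCount_eq_zero_of_not_isGraph {X : Type u} [MulAction (S × S) X]
    (hX : ∀ x : X, IsGraph F (stabilizer (S × S) x)) {K : Subgroup (S × S)} (hK : ¬ IsGraph F K) :
    markCount X K = 0 :=
  markCount_eq_zero fun x hx => hK (isGraph_mono (hX x) hx)

section Saturated

variable [Finite S] {p : ℕ} [Fact p.Prime]

theorem exists_ref (hS : IsPGroup p S) (hF : F.IsSaturated p) (R : Subgroup S) :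
    ∃ Q : Subgroup Ω, ∃ ψ ∈ F.Hom (normalizerIn S (R.map S.subtype)), F.IsReceptive Q ∧
      (∀ x, ψ x ∈ normalizerIn S Q) ∧
      ((R.map S.subtype).subgroupOf (normalizerIn S (R.map S.subtype))).map ψ = Q := by
  obtain ⟨Q, hQ, h1, h2⟩ := hF (R.map S.subtype) (Subgroup.map_subtype_le R)
  obtain ⟨ψ, hψ, h3, h4⟩ := exists_normalizer_map_far hS h1 h2 hQ
  exact ⟨Q, ψ, hψ, h2, h3, h4⟩

/-- The reference graph with right projection `R`. -/
noncomputable def refGraph (hS : IsPGroup p S) (hF : F.IsSaturated p) (R : Subgroup S) :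
    Subgroup (S × S) :=
  tw (exists_ref hS hF R).choose_spec.choose_spec.1
    (R.map ((MonoidHom.id S).prod (MonoidHom.id S)))

theorem markCount_modEq_ref (hS : IsPGroup p S) (hF : F.IsSaturated p) {X : Type u}
    [MulAction (S × S) X] [Finite X] {d : ℕ} (hst : Stable F X (d + 1)) {K : Subgroup (S × S)}
    (hK : IsGraph F K) (hd : Nat.card K = d) (R : Subgroup S) (b : S)
    (hR : K.map (MonoidHom.snd S S) = R.map (MulAut.conj b).toMonoidHom) :
    markCount X K ≡ markCount X (refGraph hS hF R)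
      [MOD (K.subgroupOf (Subgroup.normalizer (K : Set (S × S)))).index] := by
  obtain ⟨hψ, hQrec, hψN, hψQ⟩ := (exists_ref hS hF R).choose_spec.choose_spec
  set ψ := (exists_ref hS hF R).choose_spec.choose with hψdef
  set Q := (exists_ref hS hF R).choose with hQdef
  set R' : Subgroup Ω := R.map S.subtype with hR'
  have hR'N : R' ≤ normalizerIn S R' := le_normalizerIn (Subgroup.map_subtype_le R)
  obtain ⟨P, φ, hφ, -, key⟩ := exists_hom_of_isGraph hK
  have hbφ : ∀ x : P, (b : Ω)⁻¹ * φ x * b ∈ R' := by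
    intro x
    have hz : ((⟨x, src_le hφ x.2⟩, ⟨φ x, apply_mem hφ x⟩) : S × S) ∈ K := (key _).mpr ⟨x.2, rfl⟩
    have := Subgroup.mem_map_of_mem (MonoidHom.snd S S) hz
    rw [hR] at this
    obtain ⟨r, hr, hr'⟩ := this
    refine ⟨r, hr, ?_⟩
    have h' := congrArg Subtype.val hr'
    simp only [MulEquiv.coe_toMonoidHom, MulAut.conj_apply, MonoidHom.coe_snd, Subgroup.coe_mul,
      Subgroup.coe_inv] at h'
    rw [← h']
    simp [mul_assoc]
  have hsurj : ∀ r ∈ R', ∃ x : P, (b : Ω)⁻¹ * φ x * b = r := by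
    rintro _ ⟨r, hr, rfl⟩
    have : b * r * b⁻¹ ∈ K.map (MonoidHom.snd S S) := hR ▸ ⟨r, hr, rfl⟩
    obtain ⟨z, hz, hz'⟩ := this
    obtain ⟨h, e⟩ := (key z).mp hz
    refine ⟨⟨z.1, h⟩, ?_⟩
    have h' := congrArg Subtype.val hz'
    simp only [MonoidHom.coe_snd, Subgroup.coe_mul, Subgroup.coe_inv] at h'
    rw [e, h']
    simp [mul_assoc]
  -- the composite `P → Q`
  obtain ⟨φ₁, hφ₁, e₁⟩ := exists_comp hφ (F.conj_mem (range_le_base hφ) (S.inv_mem b.2))
    fun x => ⟨x, rfl⟩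
  simp only [conjHom_apply, inv_inv] at e₁
  obtain ⟨φ₀, hφ₀, e₀⟩ := exists_comp hφ₁ hψ fun x => hR'N (by rw [e₁ x]; exact hbφ x)
  have hrange : φ₀.range = Q := by
    rw [← hψQ]
    ext y
    constructor
    · rintro ⟨x, rfl⟩
      have hm : φ₁ x ∈ R' := by rw [e₁ x]; exact hbφ x
      exact ⟨⟨φ₁ x, hR'N hm⟩, Subgroup.mem_subgroupOf.mpr hm, (e₀ x).symm⟩
    · rintro ⟨⟨r, hrN⟩, hr, rfl⟩
      obtain ⟨x, hx⟩ := hsurj r (Subgroup.mem_subgroupOf.mp hr)
      refine ⟨x, (e₀ x).trans ?_⟩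
      congr 1
      exact Subtype.ext ((e₁ x).trans hx)
  obtain ⟨χ, hχ, hext⟩ := hQrec.2 P φ₀ hφ₀ hrange
  set N := Subgroup.normalizer (K : Set (S × S))
  have hN : ∀ z ∈ N, ∀ x : P, ∃ h : (z.1 : Ω) * x * (z.1 : Ω)⁻¹ ∈ P,
      φ ⟨_, h⟩ = (z.2 : Ω) * φ x * (z.2 : Ω)⁻¹ := by
    intro z hz x
    have hzx : ((⟨x, src_le hφ x.2⟩, ⟨φ x, apply_mem hφ x⟩) : S × S) ∈ K := (key _).mpr ⟨x.2, rfl⟩
    obtain ⟨h, e⟩ := (key _).mp ((Subgroup.mem_normalizer_iff.mp hz _).mp hzx)
    exact ⟨h, e⟩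
  have hNdom : N ≤ dom S (extender S P φ₀) := by
    intro z hz
    have : Finite P := finite_sub (src_le hφ)
    rw [mem_dom]
    have hzN : (b : Ω)⁻¹ * z.2 * b ∈ normalizerIn S R' := by
      have : Finite R' := finite_sub (Subgroup.map_subtype_le R)
      refine ⟨S.mul_mem (S.mul_mem (S.inv_mem b.2) z.2.2) b.2, mem_normalizer_of_conj_mem fun r hr => ?_⟩
      obtain ⟨x, rfl⟩ := hsurj r hr
      obtain ⟨h, e⟩ := hN z hz x
      have := hbφ ⟨_, h⟩
      rw [e] at this
      simpa [mul_assoc] using this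
    refine mem_extender_of ⟨z.1.2, mem_normalizer_of_conj_mem fun x hx => (hN z hz ⟨x, hx⟩).1⟩
      (apply_mem hψ ⟨_, hzN⟩) fun x hx => ?_
    obtain ⟨h, e⟩ := hN z hz x
    rw [e₀, e₀, ← map_inv, ← map_mul, ← map_mul]
    congr 1
    apply Subtype.ext
    simp only [Subgroup.coe_mul, Subgroup.coe_inv, e₁, e]
    group
  let f : N →* S × S :=
    (MulAut.conj ((1, b⁻¹) : S × S)).toMonoidHom.comp ((twHom hχ).comp (Subgroup.inclusion hNdom))
  have hmap : ∀ L : Subgroup N, L.map f =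
      (tw hχ (L.map N.subtype)).map (MulAut.conj ((1, b⁻¹) : S × S)).toMonoidHom := by
    intro L
    simp only [f, ← Subgroup.map_map]
    refine congrArg _ (le_antisymm ?_ ?_)
    · rintro _ ⟨_, ⟨z, hz, rfl⟩, rfl⟩
      exact ⟨_, Subgroup.mem_subgroupOf.mpr ⟨z, hz, rfl⟩, rfl⟩
    · rintro _ ⟨z, hz, rfl⟩
      obtain ⟨w, hw, hwz⟩ := Subgroup.mem_subgroupOf.mp hz
      exact ⟨_, ⟨w, hw, rfl⟩, congrArg (twHom hχ) (Subtype.ext hwz)⟩
  have hle : ∀ L : Subgroup N, L.map N.subtype ≤ dom S (extender S P φ₀) := fun L =>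
    (Subgroup.map_subtype_le L).trans hNdom
  have hfK : (K.subgroupOf N).map f = refGraph hS hF R := by
    rw [hmap, Subgroup.map_subgroupOf_eq_of_le Subgroup.le_normalizer]
    ext w
    rw [Subgroup.mem_map_equiv, MulAut.conj_symm_apply, refGraph, mem_tw, mem_tw]
    constructor
    · rintro ⟨z, hzA, hz, h1, h2⟩
      obtain ⟨h, e⟩ := (key z).mp hz
      have hr : (b : Ω)⁻¹ * φ ⟨z.1, h⟩ * b ∈ R' := hbφ _
      obtain ⟨r, hr', hrr⟩ := hr
      refine ⟨(r, r), hR'N ⟨r, hr', rfl⟩, ⟨r, hr', rfl⟩, ?_, ?_⟩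
      · have := hext z.1 h hzA
        rw [h1, e₀] at this
        simp only [Prod.fst_mul, Prod.fst_inv, inv_one, one_mul, mul_one] at this
        rw [this]
        congr 1
        exact Subtype.ext (hrr.trans (e₁ _).symm)
      · apply Subtype.ext
        simp only [Prod.snd_mul, Prod.snd_inv, inv_inv] at h2
        show (r : Ω) = _
        rw [show (r : Ω) = S.subtype r from rfl, hrr, e, h2]
        simp [mul_assoc]
    · rintro ⟨z, hzN, ⟨r, hr', rfl⟩, h1, h2⟩
      obtain ⟨x, hx⟩ := hsurj r ⟨r, hr', rfl⟩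
      have hxK : ((⟨x, src_le hφ x.2⟩, ⟨φ x, apply_mem hφ x⟩) : S × S) ∈ K := (key _).mpr ⟨x.2, rfl⟩
      refine ⟨_, mem_dom.mp (hNdom (Subgroup.le_normalizer hxK)), hxK, ?_, ?_⟩
      · simp only [Prod.fst_mul, Prod.fst_inv, inv_one, one_mul, mul_one]
        rw [← h1, hext x x.2 _, e₀]
        congr 1
        exact Subtype.ext ((e₁ x).trans hx)
      · apply Subtype.ext
        have h2' := congrArg Subtype.val h2
        simp only [MonoidHom.prod_apply, MonoidHom.id_apply] at h2'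
        simp only [Prod.snd_mul, Prod.snd_inv, inv_inv, Subgroup.coe_mul, Subgroup.coe_inv]
        rw [← h2', ← hx]
        simp [mul_assoc]
  have hinst : (K.subgroupOf N).Normal := Subgroup.normal_in_normalizer
  have hmod := @markCount_modEq N _ X (MulAction.compHom X N.subtype) X (MulAction.compHom X f) _ _ _
    (K.subgroupOf N) hinst fun L hL => by
      rw [markCount_comp, markCount_comp, hmap, markCount_conj]
      refine (hst _ χ hχ _ (hle L) ?_).symm
      have hcard : Nat.card (K.subgroupOf N) < Nat.card L :=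
        lt_of_not_ge fun h => hL.ne (Subgroup.eq_of_le_of_card_ge hL.le h)
      rw [Nat.card_congr (Subgroup.subgroupOfEquivOfLe Subgroup.le_normalizer).toEquiv, hd] at hcard
      rw [Subgroup.card_map_of_injective N.subtype_injective]
      exact hcard
  rw [markCount_comp, markCount_comp, hfK,
    Subgroup.map_subgroupOf_eq_of_le Subgroup.le_normalizer] at hmod
  exact hmod

theorem index_normalizer_of_card_eq {K : Subgroup (S × S)} (hK : IsGraph F K)
    (hc : Nat.card K = Nat.card S) :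
    (K.subgroupOf (Subgroup.normalizer (K : Set (S × S)))).index = Nat.card (Subgroup.center S) := by
  obtain ⟨P, φ, hφ, hcP, key⟩ := exists_hom_of_isGraph hK
  have hP : P = S := Subgroup.eq_of_le_of_card_ge (src_le hφ) (hc.symm.trans hcP).le
  subst hP
  let φ' : P →* P := φ.codRestrict P (apply_mem hφ)
  have hinj : Function.Injective φ' := fun a b h => F.injective_of_mem hφ (congrArg Subtype.val h)
  have hsurj : Function.Surjective φ' := Finite.injective_iff_surjective.mp hinj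
  have key' : ∀ z : P × P, z ∈ K ↔ φ' z.1 = z.2 := fun z => by
    rw [key z]
    exact ⟨fun ⟨_, h⟩ => Subtype.ext h, fun h => ⟨z.1.2, congrArg Subtype.val h⟩⟩
  set N := Subgroup.normalizer (K : Set (P × P))
  have hN : ∀ a c : P, (a, c) ∈ N ↔ (φ' a)⁻¹ * c ∈ Subgroup.center P := by
    intro a c
    rw [Subgroup.mem_center_iff, Subgroup.mem_normalizer_iff]
    constructor
    · intro h y
      obtain ⟨x, rfl⟩ := hsurj y
      have h1 := (key' _).mp ((h (x, φ' x)).mp ((key' _).mpr rfl))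
      simp only [Prod.fst_mul, Prod.snd_mul, Prod.fst_inv, Prod.snd_inv, map_mul, map_inv] at h1
      calc φ' x * ((φ' a)⁻¹ * c) = (φ' a)⁻¹ * (φ' a * φ' x * (φ' a)⁻¹) * c := by group
        _ = (φ' a)⁻¹ * c * φ' x := by rw [h1]; group
    · intro h z
      have h1 : φ' a * φ' z.1 * (φ' a)⁻¹ = c * φ' z.1 * c⁻¹ := by
        calc φ' a * φ' z.1 * (φ' a)⁻¹ = φ' a * (φ' z.1 * ((φ' a)⁻¹ * c)) * c⁻¹ := by group
          _ = c * φ' z.1 * c⁻¹ := by rw [h]; group
      rw [key', key']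
      simp only [Prod.fst_mul, Prod.snd_mul, Prod.fst_inv, Prod.snd_inv, map_mul, map_inv, h1]
      exact ⟨fun e => by rw [e], fun e => mul_left_cancel (mul_right_cancel e)⟩
  have hcard : Nat.card N = Nat.card P * Nat.card (Subgroup.center P) := by
    rw [← Nat.card_prod]
    exact Nat.card_congr
      { toFun := fun z => (z.1.1, ⟨(φ' z.1.1)⁻¹ * z.1.2, (hN _ _).mp z.2⟩)
        invFun := fun w => ⟨(w.1, φ' w.1 * w.2), (hN _ _).mpr (by simp)⟩
        left_inv := fun z => Subtype.ext (Prod.ext rfl (by simp))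
        right_inv := fun w => Prod.ext rfl (Subtype.ext (by simp)) }
  have h1 := (K.subgroupOf N).card_mul_index
  rw [Nat.card_congr (Subgroup.subgroupOfEquivOfLe Subgroup.le_normalizer).toEquiv, hc, hcard] at h1
  exact Nat.eq_of_mul_eq_mul_left Nat.card_pos h1

/-- The top layer of the characteristic biset. -/
theorem exists_top (hS : IsPGroup p S) (hF : F.IsSaturated p) :
    ∃ (X : Type u) (_ : MulAction (S × S) X) (_ : Finite X),
      (∀ x : X, IsGraph F (stabilizer (S × S) x)) ∧ Stable F X (Nat.card S) ∧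
      ∃ m, Nat.card X = Nat.card S * m ∧ ¬ p ∣ m := by
  classical
  let instA : MulAction (S × S) PEmpty.{u + 1} :=
    { smul := fun _ x => x.elim, one_smul := fun x => x.elim, mul_smul := fun _ _ x => x.elim }
  have hzero : ∀ K : Subgroup (S × S), markCount PEmpty.{u + 1} K = 0 := fun K =>
    markCount_eq_zero fun x => x.elim
  obtain ⟨X, iX, fX, hXg, -, hXm, -, hXs⟩ :=
    exists_extend_marks (IsGraph F) (fun g K h => isGraph_conj h g) (Nat.card S)
      (fun _ => Nat.card (Subgroup.center S)) (fun _ _ _ _ => rfl) PEmpty.{u + 1} (fun x => x.elim)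
      (fun K _ _ => by rw [hzero]; exact Nat.zero_le _)
      (fun K hK hc => by rw [hzero, Nat.sub_zero, index_normalizer_of_card_eq hK hc])
  have hXd := hXs fun x => x.elim
  refine ⟨X, iX, fX, hXg, ?_, ?_⟩
  · intro A φ hφ K hK hd
    by_cases hg : IsGraph F K
    · have hc : Nat.card K = Nat.card S := le_antisymm (card_le_of_isGraph hg) hd
      rw [hXm _ ((isGraph_tw_iff hφ hK).mpr hg) (by rw [card_tw hφ hK, hc]), hXm _ hg hc]
    · rw [markCount_eq_zero_of_not_isGraph hXg hg,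
        markCount_eq_zero_of_not_isGraph hXg fun h => hg ((isGraph_tw_iff hφ hK).mp h)]
  · let T := {K : Subgroup (S × S) // IsGraph F K ∧ Nat.card K = Nat.card S}
    have hexact : ∀ K : T, Nat.card {x : X // stabilizer (S × S) x = K.1} =
        Nat.card (Subgroup.center S) := by
      intro K
      refine Eq.trans (Nat.card_congr (Equiv.subtypeEquivRight fun x => ?_)) (hXm K.1 K.2.1 K.2.2)
      refine ⟨fun h => h.ge, fun h => (Subgroup.eq_of_le_of_card_ge h ?_).symm⟩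
      rw [hXd x, K.2.2]
    have : Fintype T := Fintype.ofFinite _
    have hX : Nat.card X = Nat.card T * Nat.card (Subgroup.center S) := by
      rw [Nat.card_congr (Equiv.sigmaFiberEquiv
          (fun x : X => (⟨stabilizer (S × S) x, hXg x, hXd x⟩ : T))).symm, Nat.card_sigma,
        Finset.sum_congr rfl fun K _ => ?_, Finset.sum_const, Finset.card_univ, smul_eq_mul,
        ← Nat.card_eq_fintype_card]
      exact (Nat.card_congr (Equiv.subtypeEquivRight fun x => Subtype.ext_iff)).trans (hexact K)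
    let gr : MulAut S → Subgroup (S × S) := fun α =>
      (MonoidHom.id S).prod α.toMonoidHom |>.range
    have hgr : ∀ α (z : S × S), z ∈ gr α ↔ α z.1 = z.2 := fun α z =>
      ⟨by rintro ⟨x, rfl⟩; rfl, fun h => ⟨z.1, Prod.ext rfl h⟩⟩
    have hT : Nat.card T = Nat.card (F.autGroup S) := by
      refine (Nat.card_congr (Equiv.ofBijective (fun α : F.autGroup S => (⟨gr α, ?_, ?_⟩ : T)) ⟨?_, ?_⟩)).symm
      · exact ⟨S, S.subtype, subtype_mem F le_rfl, _, (mem_autGroup le_rfl).mp α.2, fun z => by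
          rw [hgr]
          exact ⟨fun h => ⟨z.1, rfl, congrArg Subtype.val h⟩, fun ⟨x, h1, h2⟩ => by
            obtain rfl : x = z.1 := Subtype.ext h1
            exact Subtype.ext h2⟩⟩
      · exact Nat.card_congr (MonoidHom.ofInjective fun a b h => congrArg Prod.fst h).toEquiv.symm
      · intro a b h
        refine Subtype.ext (MulEquiv.ext fun x => ?_)
        have h' : gr a = gr b := congrArg Subtype.val h
        exact (((hgr b _).mp (h' ▸ (hgr a (x, a.1 x)).mpr rfl)).symm : a.1 x = b.1 x)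
      · rintro ⟨K, hK, hc⟩
        obtain ⟨P, φ, hφ, hcP, key⟩ := exists_hom_of_isGraph hK
        have hP : P = S := Subgroup.eq_of_le_of_card_ge (src_le hφ) (hc.symm.trans hcP).le
        subst hP
        have hr : φ.range = P := range_eq_of_mem hφ (apply_mem hφ) le_rfl
        refine ⟨⟨homEquiv hφ hr, homEquiv_mem_autGroup hφ hr⟩, Subtype.ext ?_⟩
        ext z
        simp only [hgr, key z]
        exact ⟨fun h => ⟨z.1.2, congrArg Subtype.val h⟩, fun ⟨_, h⟩ => Subtype.ext h⟩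
    obtain ⟨R, hR⟩ := (isFullyAutomized_base hS hF).2
    refine ⟨(R : Subgroup (F.autGroup S)).index, ?_, R.not_dvd_index⟩
    have hC : Nat.card (centralizerIn S S) = Nat.card (Subgroup.center S) := by
      refine Nat.card_congr
        { toFun := fun c => ⟨⟨c.1, c.2.1⟩, Subgroup.mem_center_iff.mpr fun y => Subtype.ext (c.2.2 y y.2)⟩
          invFun := fun c => ⟨c.1.1, c.1.2, fun y hy =>
            congrArg Subtype.val (Subgroup.mem_center_iff.mp c.2 ⟨y, hy⟩)⟩
          left_inv := fun _ => rfl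
          right_inv := fun _ => rfl }
    have hN : normalizerIn S S = S := le_antisymm (normalizerIn_le S) (le_normalizerIn le_rfl)
    have hcard := card_normalizerIn S S
    rw [hN, hC] at hcard
    rw [hX, hT, hcard, ← (R : Subgroup (F.autGroup S)).card_mul_index, hR,
      Nat.card_congr (Subgroup.subgroupOfEquivOfLe (autInducedBy_le_autGroup F le_rfl)).toEquiv]
    ring

/-- Conjugacy of subgroups of `S`. -/
def conjSetoid (S : Subgroup Ω) : Setoid (Subgroup S) where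
  r R R' := ∃ b : S, R' = R.map (MulAut.conj b).toMonoidHom
  iseqv :=
    { refl := fun R => ⟨1, (by
        have : (MulAut.conj (1 : S)).toMonoidHom = MonoidHom.id S := by ext x; simp
        rw [this, Subgroup.map_id])⟩
      symm := fun {R R'} ⟨b, h⟩ => ⟨b⁻¹, by
        rw [h, Subgroup.map_map, ← MonoidHom.id_comp (MulAut.conj b).toMonoidHom]
        convert (Subgroup.map_id R).symm using 2
        ext x; simp [mul_assoc]⟩
      trans := fun {R R' R''} ⟨b, h⟩ ⟨c, h'⟩ => ⟨c * b, by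
        rw [h', h, Subgroup.map_map]
        congr 1
        ext x; simp [mul_assoc]⟩ }

theorem exists_stable_step (hS : IsPGroup p S) (hF : F.IsSaturated p) {d : ℕ} (hd : d < Nat.card S)
    (X : Type u) [MulAction (S × S) X] [Finite X] (hX : ∀ x : X, IsGraph F (stabilizer (S × S) x))
    (hst : Stable F X (d + 1)) {m : ℕ} (hm : Nat.card X = Nat.card S * m) (hpm : ¬ p ∣ m) :
    ∃ (Z : Type u) (_ : MulAction (S × S) Z) (_ : Finite Z),
      (∀ x : Z, IsGraph F (stabilizer (S × S) x)) ∧ Stable F Z d ∧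
      ∃ m', Nat.card Z = Nat.card S * m' ∧ ¬ p ∣ m' := by
  classical
  let cls : Subgroup (S × S) → Quotient (conjSetoid S) := fun K =>
    Quotient.mk _ (K.map (MonoidHom.snd S S))
  let B := Nat.card (S × S) * Nat.card X
  let L : Subgroup (S × S) → ℕ := fun K => markCount X (refGraph hS hF (cls K).out) + B
  have hLconj : ∀ (g : S × S) (K : Subgroup (S × S)),
      L (K.map (MulAut.conj g).toMonoidHom) = L K := by
    intro g K
    have : cls (K.map (MulAut.conj g).toMonoidHom) = cls K := by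
      refine Quotient.sound ⟨g.2⁻¹, ?_⟩
      rw [Subgroup.map_map, Subgroup.map_map]
      congr 1
      ext z; simp [mul_assoc]
    simp only [L, this]
  have hB : markCount X (⊥ : Subgroup (S × S)) ≤ B := by
    rw [markCount_bot]; exact Nat.le_mul_of_pos_left _ Nat.card_pos
  have hle : ∀ K, markCount X K ≤ L K := fun K =>
    le_trans (le_trans (markCount_le_card K) ((markCount_bot (G := S × S)).symm.le.trans hB))
      (Nat.le_add_left _ _)
  obtain ⟨Z, iZ, fZ, hZg, hZ1, hZ2, hZ3, -⟩ :=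
    exists_extend_marks (IsGraph F) (fun g K h => isGraph_conj h g) d L
      (fun g K _ _ => hLconj g K) X hX (fun K _ _ => hle K)
      (fun K hK hc => by
        obtain ⟨b, hb⟩ : ∃ b : S, K.map (MonoidHom.snd S S) =
            (cls K).out.map (MulAut.conj b).toMonoidHom :=
          Quotient.exact (Quotient.out_eq (cls K))
        refine (Nat.modEq_iff_dvd' (hle K)).mp ?_
        refine (markCount_modEq_ref hS hF hst hK hc _ b hb).trans ?_
        have : (K.subgroupOf (Subgroup.normalizer (K : Set (S × S)))).index ∣ B :=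
          ((Subgroup.index_dvd_card _).trans (Subgroup.card_subgroup_dvd_card _)).trans (dvd_mul_right _ _)
        have h := (Nat.ModEq.add_left (markCount X (refGraph hS hF (cls K).out))
          (Nat.modEq_zero_iff_dvd.mpr this)).symm
        rw [Nat.add_zero] at h
        exact h)
  refine ⟨Z, iZ, fZ, hZg, ?_, ?_⟩
  · intro A φ hφ K hK hc
    rcases hc.lt_or_eq with hlt | heq
    · rw [hZ1 _ (by rwa [card_tw hφ hK]), hZ1 _ hlt]
      exact hst A φ hφ K hK hlt
    · by_cases hg : IsGraph F K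
      · rw [hZ2 _ ((isGraph_tw_iff hφ hK).mpr hg) (by rw [card_tw hφ hK, heq]), hZ2 _ hg heq.symm]
        simp only [L, cls, map_snd_tw hφ hK]
      · rw [markCount_eq_zero_of_not_isGraph hZg hg,
          markCount_eq_zero_of_not_isGraph hZg fun h => hg ((isGraph_tw_iff hφ hK).mp h)]
  · obtain ⟨a, ha⟩ := hS.exists_card_eq
    have hmod : Nat.card Z ≡ Nat.card X [MOD Nat.card S * p] := by
      refine hZ3 _ fun K hK hc => ?_
      have h1 := K.card_mul_index
      rw [hc, Nat.card_prod, ha] at h1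
      obtain ⟨j, hj, hdj⟩ := (Nat.dvd_prime_pow Fact.out).mp
        (show d ∣ p ^ (a + a) from ⟨K.index, by rw [pow_add]; exact h1.symm⟩)
      have hja : j < a := by
        have h2 : p ^ j < p ^ a := by rw [← hdj, ← ha]; exact hd
        exact (Nat.pow_lt_pow_iff_right (Nat.Prime.one_lt Fact.out)).mp h2
      have h3 : K.index = p ^ (a + a - j) := by
        have h4 : p ^ j * p ^ (a + a - j) = p ^ j * K.index := by
          rw [← pow_add, ← hdj, h1, ← pow_add, Nat.add_sub_cancel' (by omega)]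
        exact (Nat.eq_of_mul_eq_mul_left (pow_pos (Nat.Prime.pos Fact.out) _) h4).symm
      rw [h3, ha, ← pow_succ]
      exact Nat.pow_dvd_pow _ (by omega)
    have hdvd : Nat.card S ∣ Nat.card Z :=
      ((Nat.ModEq.dvd_iff (hmod.of_mul_right p) dvd_rfl)).mpr ⟨m, hm⟩
    obtain ⟨m', hm'⟩ := hdvd
    refine ⟨m', hm', fun hp => hpm ?_⟩
    rw [hm', hm] at hmod
    have := Nat.ModEq.mul_left_cancel' Nat.card_pos.ne' hmod
    exact Nat.modEq_zero_iff_dvd.mp (this.symm.trans (Nat.modEq_zero_iff_dvd.mpr hp))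

/-- The characteristic biset. -/
theorem exists_biset (hS : IsPGroup p S) (hF : F.IsSaturated p) :
    ∃ (X : Type u) (_ : MulAction (S × S) X) (_ : Finite X),
      (∀ x : X, IsGraph F (stabilizer (S × S) x)) ∧
      (∀ (A : Subgroup Ω) (φ : A →* Ω) (hφ : φ ∈ F.Hom A), ∃ e : X ≃ X,
        ∀ (z : dom S A) (x : X), e ((z : S × S) • x) = twHom hφ z • e x) ∧
      ∃ m, Nat.card X = Nat.card S * m ∧ ¬ p ∣ m := by
  suffices h : ∀ k, ∃ (X : Type u) (_ : MulAction (S × S) X) (_ : Finite X),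
      (∀ x : X, IsGraph F (stabilizer (S × S) x)) ∧ Stable F X (Nat.card S - k) ∧
      ∃ m, Nat.card X = Nat.card S * m ∧ ¬ p ∣ m by
    obtain ⟨X, iX, fX, hg, hst, hm⟩ := h (Nat.card S)
    refine ⟨X, iX, fX, hg, fun A φ hφ => ?_, hm⟩
    exact @exists_equiv_of_markCount_eq (dom S A) _ _ (Nat.card X) X
      (MulAction.compHom X (dom S A).subtype) _ X (MulAction.compHom X (twHom hφ)) _ rfl fun L => by
        rw [markCount_comp, markCount_comp]
        refine (hst A φ hφ _ (Subgroup.map_subtype_le L) (by omega)).symm.trans ?_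
        rw [tw, Subgroup.subgroupOf, Subgroup.comap_map_eq_self_of_injective (dom S A).subtype_injective]
  intro k
  induction k with
  | zero => simpa using exists_top hS hF
  | succ k ih =>
    obtain ⟨X, iX, fX, hg, hst, m, hm, hpm⟩ := ih
    by_cases hk : k < Nat.card S
    · have heq : Nat.card S - k = Nat.card S - (k + 1) + 1 := by omega
      rw [heq] at hst
      exact exists_stable_step hS hF (by omega) X hg hst hm hpm
    · exact ⟨X, iX, fX, hg, by rwa [show Nat.card S - (k + 1) = Nat.card S - k by omega], m, hm, hpm⟩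

end Saturated

end Cfsg.Agent.Lib.FusionP3.Biset
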