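import Cfsg.Agent.Lib.FusionSystem.Factor
import Cfsg.Agent.Lib.Transfer.PResidual

/-!
The hyperfocal subgroup of a factor system.
-/

set_option autoImplicit false
set_option linter.style.haveILetI false

namespace Cfsg.Agent.Lib.FusionP3.FactorHyp

open Cfsg Cfsg.FusionSystem Cfsg.Agent.Lib.FS Cfsg.Agent.Lib.Transfer

variable {Ω : Type*} [Group Ω] {S : Subgroup Ω} {F : FusionSystem S}
variable {Ω' : Type*} [Group Ω'] {S' : Subgroup Ω'} {θ : S →* Ω'} {E : FusionSystem S'}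
variable [Finite S] {p : ℕ} [Fact p.Prime]

theorem exists_autHom (hS : IsPGroup p S) (hF : F.IsSaturated p) {T : Subgroup Ω} (hT : F.StronglyClosed T)
    (hE : F.IsFactorSystem T θ E) {P : Subgroup Ω} (hP : P ≤ S) {P' : Subgroup Ω'} (hPP : imageAlong θ P = P') :
    ∃ ρ : F.autGroup P →* E.autGroup P', ∀ (α : F.autGroup P) (x : P) (h : θ ⟨x, hP x.2⟩ ∈ P'),
      ((((ρ α : E.autGroup P') : MulAut P') ⟨θ ⟨x, hP x.2⟩, h⟩ : P') : Ω') =
        θ ⟨((α : MulAut P) x : P), hP ((α : MulAut P) x).2⟩ := by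
  subst hPP
  haveI := finite_sub hP
  haveI : Finite S' := finite_image hE.2.2.1
  obtain ⟨⟨hS', hmor⟩, -, -⟩ := factor_isSurjectiveMorphism hS hF hT hE
  haveI : Finite (imageAlong θ P) := finite_sub (S := S') (by rintro _ ⟨s, -, rfl⟩; exact hS' s)
  have hm : ∀ x : P, θ ⟨x, hP x.2⟩ ∈ imageAlong θ P := fun x => ⟨⟨x, hP x.2⟩, x.2, rfl⟩
  have hex : ∀ α : F.autGroup P, ∃ β : MulAut (imageAlong θ P), β ∈ E.autGroup (imageAlong θ P) ∧
      ∀ x : P, ((β ⟨_, hm x⟩ : imageAlong θ P) : Ω') = θ ⟨((α : MulAut P) x : P), hP ((α : MulAut P) x).2⟩ := by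
    intro α
    obtain ⟨φ, hφ, -, hφα⟩ := exists_hom_of_aut hP α.2
    obtain ⟨φ', hφ', hind⟩ := hmor P φ hφ
    have he : ∀ x : P, φ' ⟨_, hm x⟩ = θ ⟨((α : MulAut P) x : P), hP ((α : MulAut P) x).2⟩ := fun x =>
      (inducedAlong_apply hind x (hP x.2) (hm x) (apply_mem hφ x)).trans (congrArg θ (Subtype.ext (hφα x)))
    have hr : φ'.range = imageAlong θ P := by
      refine range_eq_of_mem hφ' (fun y => ?_) le_rfl
      obtain ⟨s, hs, hsy⟩ := y.2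
      rw [show y = ⟨_, hm ⟨s, hs⟩⟩ from Subtype.ext hsy.symm, he]
      exact hm _
    exact ⟨homEquiv hφ' hr, homEquiv_mem_autGroup hφ' hr, fun x => (homEquiv_coe hφ' hr _).trans (he x)⟩
  choose β hβ hβe using hex
  refine ⟨MonoidHom.mk' (fun α => ⟨β α, hβ α⟩) fun a b => ?_, fun α x _ => hβe α x⟩
  refine Subtype.ext (MulEquiv.ext fun y => ?_)
  obtain ⟨s, hs, hsy⟩ := y.2
  rw [show y = ⟨_, hm ⟨s, hs⟩⟩ from Subtype.ext hsy.symm]
  have e : β b ⟨_, hm ⟨s, hs⟩⟩ = ⟨_, hm ((b : MulAut P) ⟨s, hs⟩)⟩ := Subtype.ext (hβe b _)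
  apply Subtype.ext
  show ((β (a * b) _ : imageAlong θ P) : Ω') = ((β a (β b _) : imageAlong θ P) : Ω')
  rw [e, hβe, hβe]
  rfl

theorem hyperfocal_factor (hS : IsPGroup p S) (hF : F.IsSaturated p) {T : Subgroup Ω} (hT : F.StronglyClosed T)
    (hE : F.IsFactorSystem T θ E) :
    E.hyperfocalSubgroup p = ((F.hyperfocalSubgroup p).subgroupOf S).map θ := by
  obtain ⟨h₀, hker, hr, hmem⟩ := hE
  have hK : F.StronglyClosed (θ.ker.map S.subtype) := by rw [ker_map_eq h₀ hker]; exact hT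
  refine le_antisymm ((Subgroup.closure_le _).mpr ?_) ?_
  · rintro _ ⟨P', β, y, hP', hβ, rfl⟩
    obtain ⟨ρ, hρ⟩ := exists_autHom hS hF hT ⟨h₀, hker, hr, hmem⟩ (preimageAlong_le θ P')
      (imageAlong_preimageAlong hr hP')
    have hsurj : Function.Surjective ρ := by
      rintro ⟨γ, hγ⟩
      obtain ⟨φ', hφ', hrange, hφ'γ⟩ := exists_hom_of_aut hP' hγ
      obtain ⟨-, φ, hφ, hind⟩ := (hmem _ _).1 hφ'
      have hrφ : φ.range = preimageAlong θ P' := by rw [range_eq_preimage hK hr hP' hφ hind, hrange]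
      refine ⟨⟨_, homEquiv_mem_autGroup hφ hrφ⟩, Subtype.ext (MulEquiv.ext fun z => ?_)⟩
      obtain ⟨s, hs⟩ := hr.ge (hP' z.2)
      have hsP : θ s ∈ P' := hs ▸ z.2
      rw [show z = ⟨θ s, hsP⟩ from Subtype.ext hs.symm]
      apply Subtype.ext
      set x : preimageAlong θ P' := ⟨s, mem_preimageAlong.2 ⟨s.2, hsP⟩⟩
      refine (hρ ⟨_, homEquiv_mem_autGroup hφ hrφ⟩ x hsP).trans ?_
      rw [← hφ'γ]
      refine Eq.trans ?_ (inducedAlong_apply hind x s.2 hsP (apply_mem hφ x)).symm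
      exact congrArg θ (Subtype.ext (homEquiv_coe hφ hrφ x))
    haveI := finite_sub (preimageAlong_le θ P')
    haveI : Finite (MulAut (preimageAlong θ P')) :=
      Finite.of_injective (fun f => (f : preimageAlong θ P' → preimageAlong θ P')) DFunLike.coe_injective
    rw [← PResidual.map_pResidual_of_surjective ρ hsurj] at hβ
    obtain ⟨α, hα, rfl⟩ := hβ
    obtain ⟨s, hs⟩ := hr.ge (hP' y.2)
    have hsP : θ s ∈ P' := hs ▸ y.2
    set x : preimageAlong θ P' := ⟨s, mem_preimageAlong.2 ⟨s.2, hsP⟩⟩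
    refine ⟨(⟨(s : Ω)⁻¹ * ((α : MulAut _) x : _), mul_mem (inv_mem s.2) (preimageAlong_le θ P' ((α : MulAut _) x).2)⟩ : S),
      Subgroup.mem_subgroupOf.2 (Subgroup.subset_closure ⟨_, α, x, preimageAlong_le θ P', hα, rfl⟩), ?_⟩
    rw [show y = ⟨θ s, hsP⟩ from Subtype.ext hs.symm]
    show _ = (θ s)⁻¹ * _
    rw [hρ α x hsP, ← map_inv, ← map_mul]
    rfl
  · suffices h : F.hyperfocalSubgroup p ≤ ((E.hyperfocalSubgroup p).comap θ).map S.subtype by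
      rintro _ ⟨s, hs, rfl⟩
      obtain ⟨t, ht, hts⟩ := h hs
      rwa [Subtype.ext hts] at ht
    refine (Subgroup.closure_le _).mpr ?_
    rintro _ ⟨P, α, x, hP, hα, rfl⟩
    obtain ⟨ρ, hρ⟩ := exists_autHom hS hF hT ⟨h₀, hker, hr, hmem⟩ hP rfl
    refine ⟨(⟨x, hP x.2⟩ : S)⁻¹ * ⟨((α : MulAut P) x : P), hP ((α : MulAut P) x).2⟩, ?_, rfl⟩
    show θ _ ∈ E.hyperfocalSubgroup p
    have hm : θ ⟨x, hP x.2⟩ ∈ imageAlong θ P := ⟨⟨x, hP x.2⟩, x.2, rfl⟩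
    rw [map_mul, map_inv, ← hρ α x hm]
    exact Subgroup.subset_closure ⟨_, ρ α, ⟨_, hm⟩, by rintro _ ⟨s, -, rfl⟩; exact hr.le ⟨s, rfl⟩,
      PResidual.map_pResidual_le ρ ⟨α, hα, rfl⟩, rfl⟩

end Cfsg.Agent.Lib.FusionP3.FactorHyp
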