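import Cfsg.Agent.Lib.FusionP3.Tate
import Cfsg.Agent.Lib.FusionSystem.Normalizer
import Cfsg.Agent.Lib.FusionP3.StronglyClosed

/-!
Frobenius-type criteria for a saturated fusion system to be inner.
-/

set_option autoImplicit false
set_option linter.style.haveILetI false

namespace Cfsg.Agent.Lib.FusionP3.Frobenius

open Cfsg Cfsg.FusionSystem Cfsg.Agent.Lib.FS Cfsg.Agent.Lib.FusionP3.Induction
  Cfsg.Agent.Lib.FusionP3.StronglyClosed Cfsg.Agent.Lib.FusionP3.Tate

variable {Ω : Type*} [Group Ω] {S : Subgroup Ω} {F : FusionSystem S}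

theorem commutator_mem_derivedOf {x g : Ω} (hx : x ∈ S) (hg : g ∈ S) : x⁻¹ * (g * x * g⁻¹) ∈ derivedOf S :=
  ⟨_, Subgroup.commutator_mem_commutator (Subgroup.mem_top (⟨x, hx⟩⁻¹ : S)) (Subgroup.mem_top (⟨g, hg⟩ : S)),
    by simp [commutatorElement_def, mul_assoc]⟩

theorem stronglyClosed_base (F : FusionSystem S) : F.StronglyClosed S :=
  ⟨le_rfl, fun _ _ _ hφ x => apply_mem hφ x⟩

variable [Finite S]

/-- A map of `F` defined on all of `S` is a map of the normaliser system of `S`. -/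
theorem mem_normalizerHom_base {P : Subgroup Ω} (hSP : S ≤ P) {φ : P →* Ω} (hφ : φ ∈ F.Hom P) :
    φ ∈ F.normalizerHom S P := by
  obtain ⟨ψ, hψ, e⟩ := exists_restrict hφ (sup_le le_rfl hSP : P ⊔ S ≤ P)
  refine ⟨hφ, (src_le hφ).trans (le_normalizerIn le_rfl),
    fun x => le_normalizerIn le_rfl (apply_mem hφ x), ψ, hψ, fun x => e _,
    map_subgroupOf_eq (stronglyClosed_base F) hψ le_sup_right⟩

/-- If the normaliser system of `S` is inner then every map defined on `S` is a conjugation. -/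
theorem exists_conj_of_normalizer_inner
    (hN : ∀ N : FusionSystem (normalizerIn S S), F.IsNormalizerSystem S N →
      ∀ P : Subgroup Ω, N.Hom P = (innerFusionSystem (normalizerIn S S)).Hom P)
    {P : Subgroup Ω} (hSP : S ≤ P) {φ : P →* Ω} (hφ : φ ∈ F.Hom P) :
    ∃ g ∈ S, ∀ x : P, φ x = g * x * g⁻¹ := by
  obtain ⟨N, hNs⟩ := exists_normalizerSystem F (le_refl S)
  have h := mem_normalizerHom_base hSP hφ
  rw [← hNs P, hN N hNs P] at h
  obtain ⟨-, g, hg, e⟩ := h
  exact ⟨g, normalizerIn_le S hg, e⟩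

variable {p : ℕ} [Fact p.Prime]

/-- If `T ⊇ [S, S]` is strongly closed and `Aut_F(S)` acts trivially on `S / T` then so does every map. -/
theorem inv_mul_apply_mem (hS : IsPGroup p S) (hF : F.IsSaturated p) {T : Subgroup Ω}
    (hT : F.StronglyClosed T) (hD : derivedOf S ≤ T)
    (hA : ∀ φ ∈ F.Hom S, ∀ x : S, (x : Ω)⁻¹ * φ x ∈ T) :
    ∀ (P : Subgroup Ω) (φ : P →* Ω), φ ∈ F.Hom P → ∀ x : P, (x : Ω)⁻¹ * φ x ∈ T := by
  refine hom_induction hS hF (M := fun P φ => ∀ x : P, (x : Ω)⁻¹ * φ x ∈ T) ?_ ?_ ?_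
  · intro P Q φ ψ χ _ _ h he h1 h2 x
    have := mul_mem (h1 x) (h2 ⟨φ x, h x⟩)
    rw [he]
    simpa [mul_assoc] using this
  · intro P Q φ ψ h _ he h1 x
    rw [he]
    exact h1 ⟨x, h x.2⟩
  · intro P hPfn _ _ α hα big
    haveI := finite_sub hPfn.1
    rcases hPfn.1.lt_or_eq with hPS | hPS
    · set X := F.autGroup P
      have hXT : ∀ β ∈ X, ∀ x : P, (x : Ω) ∈ T → ((β x : P) : Ω) ∈ T := fun β hβ x hx =>
        apply_mem_of_stronglyClosed hT ((mem_autGroup hPfn.1).mp hβ) x hx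
      let K : Subgroup X :=
        { carrier := {β | ∀ x : P, ((x⁻¹ * β.1 x : P) : Ω) ∈ T}
          one_mem' := fun x => by simp
          mul_mem' := fun {a b} ha hb x => by
            have e : x⁻¹ * (a * b).1 x = (x⁻¹ * b.1 x) * ((b.1 x)⁻¹ * a.1 (b.1 x)) := by
              rw [Subgroup.coe_mul, MulAut.mul_apply]; group
            rw [e, Subgroup.coe_mul]
            exact mul_mem (hb x) (ha _)
          inv_mem' := fun {a} ha x => by
            have h := inv_mem (ha ((a.1)⁻¹ x))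
            rw [MulAut.apply_inv_self] at h
            simpa using h }
      haveI : K.Normal := ⟨fun β hβ γ x => by
        have e : x⁻¹ * (γ * β * γ⁻¹).1 x = γ.1 (((γ.1)⁻¹ x)⁻¹ * β.1 ((γ.1)⁻¹ x)) := by
          rw [map_mul, map_inv, MulAut.apply_inv_self]
          rfl
        rw [e]
        exact hXT γ.1 γ.2 _ (hβ _)⟩
      obtain ⟨-, R, hR⟩ := fullyAutomized_of_fullyNormalized hS hF hPfn
      have hRK : (R : Subgroup X) ≤ K := by
        intro β hβ x
        rw [hR, Subgroup.mem_subgroupOf, mem_autInducedBy] at hβ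
        obtain ⟨g, hg, e⟩ := hβ
        rw [Subgroup.coe_mul, Subgroup.coe_inv, e]
        exact hD (commutator_mem_derivedOf (hPfn.1 x.2) hg)
      have hFr := normalizer_inf_sup_eq_top R K
      rw [inf_eq_left.mpr hRK] at hFr
      obtain ⟨ν, hν, κ, hκ, hνκ⟩ :=
        Subgroup.mem_sup_of_normal_right.mp (hFr.ge (Subgroup.mem_top (⟨α, hα⟩ : X)))
      obtain ⟨ψ, hψ, e⟩ := exists_extend_preimage (receptive_of_fullyNormalized hS hF hPfn)
        (le_refl (autInducedBy S P)) (α := ν.1) ν.2 fun w hw => by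
          have hwR : (⟨w, autInducedBy_le_autGroup F hPfn.1 hw⟩ : X) ∈ (R : Subgroup X) := by
            rw [hR]; exact Subgroup.mem_subgroupOf.mpr hw
          have h1 := (Subgroup.mem_normalizer_iff.mp hν _).mp hwR
          rw [hR, Subgroup.mem_subgroupOf] at h1
          exact h1
      have hle : P ≤ preimageAut S P (autInducedBy S P) := le_preimageAut hPfn.1 (inn_le_autInducedBy hPfn.1)
      have hlt : P < preimageAut S P (autInducedBy S P) := by
        refine (lt_normalizerIn hS hPS).trans_le fun g hg => ?_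
        exact ⟨hg, _, mem_autInducedBy.mpr ⟨g, hg.1, fun _ => rfl⟩,
          fun x => normalizerMonoidHom_coe P ⟨g, hg.2⟩ x⟩
      haveI := finite_sub ((preimageAut_le P _).trans (normalizerIn_le P) :
        preimageAut S P (autInducedBy S P) ≤ S)
      have hb := big _ (lt_of_not_ge fun h => hlt.ne (Subgroup.eq_of_le_of_card_ge hlt.le h)) ψ hψ
      intro x
      have h1 := hb ⟨(κ.1 x : P), hle (κ.1 x).2⟩
      rw [e _ (κ.1 x).2] at h1
      have h2 : ((x⁻¹ * κ.1 x : P) : Ω) ∈ T := hκ x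
      rw [Subgroup.coe_mul, Subgroup.coe_inv] at h2
      have e2 : ((ν.1 (κ.1 x) : P) : Ω) = (α x : P) := by
        rw [← MulAut.mul_apply, ← Subgroup.coe_mul, hνκ]
      show (x : Ω)⁻¹ * (α x : P) ∈ T
      rw [← e2]
      simpa [mul_assoc] using mul_mem h2 h1
    · subst hPS
      exact hA _ ((mem_autGroup le_rfl).mp hα)

theorem focal_le_of_stronglyClosed (hS : IsPGroup p S) (hF : F.IsSaturated p) {T : Subgroup Ω}
    (hT : F.StronglyClosed T) (hD : derivedOf S ≤ T)
    (hA : ∀ φ ∈ F.Hom S, ∀ x : S, (x : Ω)⁻¹ * φ x ∈ T) : F.focalSubgroup ≤ T :=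
  (Subgroup.closure_le _).mpr fun _ ⟨P, φ, x, hφ, hy⟩ => hy ▸ inv_mul_apply_mem hS hF hT hD hA P φ hφ x

theorem derivedOf_le_frattini (hS : IsPGroup p S) : derivedOf S ≤ (frattini S).map S.subtype :=
  Subgroup.map_mono (PGroups.commutator_le_frattini hS)

theorem stronglyClosed_of_inner (hI : ∀ P : Subgroup Ω, F.Hom P = (innerFusionSystem S).Hom P)
    (K : Subgroup S) [K.Normal] : F.StronglyClosed (K.map S.subtype) := by
  refine ⟨Subgroup.map_subtype_le K, fun R hR φ hφ x => ?_⟩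
  rw [hI] at hφ
  obtain ⟨-, g, hg, e⟩ := hφ
  obtain ⟨y, hy, hyx⟩ := hR x.2
  rw [e, ← hyx]
  exact ⟨⟨g, hg⟩ * y * ⟨g, hg⟩⁻¹, Subgroup.Normal.conj_mem inferInstance y hy _, rfl⟩

theorem normalizer_inner_of_inner (hI : ∀ P : Subgroup Ω, F.Hom P = (innerFusionSystem S).Hom P)
    (N : FusionSystem (normalizerIn S S)) (hN : F.IsNormalizerSystem S N) (P : Subgroup Ω) :
    N.Hom P = (innerFusionSystem (normalizerIn S S)).Hom P := by
  rw [hN P]
  refine Set.Subset.antisymm (fun φ hφ => ?_) ?_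
  · have h := hφ.1
    rw [hI] at h
    obtain ⟨-, g, hg, e⟩ := h
    exact ⟨hφ.2.1, g, le_normalizerIn le_rfl hg, e⟩
  · rintro φ ⟨hP, g, hg, e⟩
    refine ⟨mem_of_conj F (hP.trans (normalizerIn_le S)) (normalizerIn_le S hg) e, hP,
      fun x => by rw [e]; exact mul_mem (mul_mem hg (hP x.2)) (inv_mem hg),
      conjHom (P ⊔ S) g, F.conj_mem (sup_le (hP.trans (normalizerIn_le S)) le_rfl) (normalizerIn_le S hg),
      fun x => (e x).symm, ?_⟩
    exact map_subgroupOf_eq (stronglyClosed_base F)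
      (F.conj_mem (sup_le (hP.trans (normalizerIn_le S)) le_rfl) (normalizerIn_le S hg)) le_sup_right

end Cfsg.Agent.Lib.FusionP3.Frobenius
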