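import Mathlib.GroupTheory.GroupAction.Quotient
import Mathlib.GroupTheory.GroupAction.SubMulAction
import Mathlib.GroupTheory.Index
import Mathlib.Algebra.Group.Action.Sum
import Mathlib.Data.Fintype.BigOperators
import Mathlib.Data.SetLike.Fintype
import Mathlib.Algebra.Group.Subgroup.Finite
import Mathlib.Algebra.BigOperators.Ring.Finset

/-!
Finite `G`-sets: fixed point counts (marks), sets with equal marks are isomorphic, and congruences between marks.
-/

set_option autoImplicit false

namespace Cfsg.Agent.Lib.FusionP3.GSets

open MulAction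

universe uG uX uY

variable {G : Type uG} [Group G]

/-- The number of points fixed by the subgroup `K`. -/
noncomputable def markCount (X : Type uX) [MulAction G X] (K : Subgroup G) : ℕ :=
  Nat.card {x : X // K ≤ stabilizer G x}

/-- The number of points whose stabilizer is exactly `K`. -/
noncomputable def exactCount (X : Type uX) [MulAction G X] (K : Subgroup G) : ℕ :=
  Nat.card {x : X // stabilizer G x = K}

section

variable {X : Type uX} [MulAction G X] {Y : Type uY} [MulAction G Y]

theorem stabilizer_congr (e : X ≃ Y) (he : ∀ (g : G) (x : X), e (g • x) = g • e x) (x : X) :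
    stabilizer G (e x) = stabilizer G x := by
  ext g
  simp only [mem_stabilizer_iff, ← he, e.injective.eq_iff]

theorem markCount_congr (e : X ≃ Y) (he : ∀ (g : G) (x : X), e (g • x) = g • e x) (K : Subgroup G) :
    markCount X K = markCount Y K :=
  Nat.card_congr (e.subtypeEquiv fun x => by rw [stabilizer_congr e he])

theorem markCount_conj (g : G) (K : Subgroup G) :
    markCount X (K.map (MulAut.conj g).toMonoidHom) = markCount X K := by
  refine Nat.card_congr ((MulAction.toPerm g).symm.subtypeEquiv fun x => ?_)
  show _ ↔ K ≤ stabilizer G (g⁻¹ • x)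
  conv_lhs => rw [show x = g • (g⁻¹ • x) by rw [smul_inv_smul], stabilizer_smul_eq_stabilizer_map_conj]
  exact Subgroup.map_le_map_iff_of_injective (MulAut.conj g).injective

theorem markCount_sum [Finite X] [Finite Y] (K : Subgroup G) :
    markCount (X ⊕ Y) K = markCount X K + markCount Y K := by
  have hl : ∀ x : X, stabilizer G (Sum.inl x : X ⊕ Y) = stabilizer G x := fun x => by
    ext g; simp [mem_stabilizer_iff]
  have hr : ∀ y : Y, stabilizer G (Sum.inr y : X ⊕ Y) = stabilizer G y := fun y => by
    ext g; simp [mem_stabilizer_iff]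
  unfold markCount
  rw [Nat.card_congr (Equiv.subtypeSum (p := fun z : X ⊕ Y => K ≤ stabilizer G z)), Nat.card_sum]
  simp only [hl, hr]

theorem markCount_bot : markCount X (⊥ : Subgroup G) = Nat.card X :=
  Nat.card_congr (Equiv.subtypeUnivEquiv fun _ => bot_le)

theorem markCount_eq_sum [Finite G] [Finite X] (K : Subgroup G) [Fintype (Subgroup G)]
    [DecidablePred (K ≤ ·)] :
    markCount X K = ∑ L ∈ Finset.univ.filter (K ≤ ·), exactCount X L := by
  rw [Finset.sum_subtype (Finset.univ.filter (K ≤ ·)) (p := (K ≤ ·)) (fun L => by simp)]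
  unfold markCount exactCount
  rw [← Nat.card_sigma]
  exact Nat.card_congr
    { toFun := fun x => ⟨⟨stabilizer G x.1, x.2⟩, ⟨x.1, rfl⟩⟩
      invFun := fun z => ⟨z.2.1, z.2.2.symm ▸ z.1.2⟩
      left_inv := fun x => rfl
      right_inv := by
        rintro ⟨⟨L, hL⟩, ⟨x, hx⟩⟩
        simp only at hx
        subst hx
        rfl }

theorem exactCount_eq_of_markCount_eq [Finite G] [Finite X] [Finite Y] (D : Subgroup G)
    (h : ∀ K, D ≤ K → markCount X K = markCount Y K) : exactCount X D = exactCount Y D := by
  classical
  have : Fintype (Subgroup G) := Fintype.ofFinite _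
  induction D using WellFoundedGT.induction with
  | _ D ih =>
    have h1 := h D le_rfl
    rw [markCount_eq_sum, markCount_eq_sum,
      ← Finset.sum_erase_add _ _ (by simp : D ∈ Finset.univ.filter (D ≤ ·)),
      ← Finset.sum_erase_add _ _ (by simp : D ∈ Finset.univ.filter (D ≤ ·))] at h1
    have h2 : ∑ L ∈ (Finset.univ.filter (D ≤ ·)).erase D, exactCount X L =
        ∑ L ∈ (Finset.univ.filter (D ≤ ·)).erase D, exactCount Y L := by
      refine Finset.sum_congr rfl fun L hL => ?_
      simp only [Finset.mem_erase, Finset.mem_filter, Finset.mem_univ, true_and] at hL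
      exact ih L (lt_of_le_of_ne hL.2 (Ne.symm hL.1)) fun K hK => h K (hL.2.trans hK)
    omega

theorem index_dvd_exactCount [Finite G] [Finite X] (D : Subgroup G) [hD : D.Normal] :
    D.index ∣ exactCount X D := by
  classical
  let Z : SubMulAction G X :=
    { carrier := {x | stabilizer G x = D}
      smul_mem' := fun g x hx => by
        show stabilizer G (g • x) = D
        rw [stabilizer_smul_eq_stabilizer_map_conj, hx]
        ext y
        rw [Subgroup.mem_map_equiv, MulAut.conj_symm_apply]
        exact ⟨fun h => by simpa [mul_assoc] using hD.conj_mem _ h g,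
          fun h => by simpa [mul_assoc] using hD.conj_mem _ h g⁻¹⟩ }
  have hs : ∀ z : Z, stabilizer G z = D := fun z => by
    rw [SubMulAction.stabilizer_of_subMul]; exact z.2
  have hcard : Nat.card Z = exactCount X D := rfl
  have : Fintype (orbitRel.Quotient G Z) := Fintype.ofFinite _
  rw [← hcard, Nat.card_congr (MulAction.selfEquivSigmaOrbits' G Z), Nat.card_sigma]
  refine Finset.dvd_sum fun w _ => ?_
  induction w using Quotient.inductionOn' with
  | h z =>
    rw [orbitRel.Quotient.orbit_mk, Nat.card_congr (orbitEquivQuotientStabilizer G z), hs]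
    exact dvd_refl _

theorem markCount_modEq [Finite G] [Finite X] [Finite Y] (D : Subgroup G) [D.Normal]
    (h : ∀ K, D < K → markCount X K = markCount Y K) :
    markCount X D ≡ markCount Y D [MOD D.index] := by
  classical
  have : Fintype (Subgroup G) := Fintype.ofFinite _
  have h2 : ∑ L ∈ (Finset.univ.filter (D ≤ ·)).erase D, exactCount X L =
      ∑ L ∈ (Finset.univ.filter (D ≤ ·)).erase D, exactCount Y L := by
    refine Finset.sum_congr rfl fun L hL => ?_
    simp only [Finset.mem_erase, Finset.mem_filter, Finset.mem_univ, true_and] at hL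
    have hlt : D < L := lt_of_le_of_ne hL.2 (Ne.symm hL.1)
    exact exactCount_eq_of_markCount_eq L fun K hK => h K (hlt.trans_le hK)
  rw [markCount_eq_sum, markCount_eq_sum,
    ← Finset.sum_erase_add _ _ (by simp : D ∈ Finset.univ.filter (D ≤ ·)),
    ← Finset.sum_erase_add _ _ (by simp : D ∈ Finset.univ.filter (D ≤ ·)), h2]
  exact Nat.ModEq.add_left _ <| (Nat.modEq_zero_iff_dvd.mpr (index_dvd_exactCount D)).trans
    (Nat.modEq_zero_iff_dvd.mpr (index_dvd_exactCount D)).symm

end

/-- Finite `G`-sets with the same marks are isomorphic. -/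
theorem exists_equiv_of_markCount_eq [Finite G] : ∀ (n : ℕ) (X : Type uX) [MulAction G X] [Finite X]
    (Y : Type uY) [MulAction G Y] [Finite Y], Nat.card X = n →
    (∀ K : Subgroup G, markCount X K = markCount Y K) →
    ∃ e : X ≃ Y, ∀ (g : G) (x : X), e (g • x) = g • e x := by
  intro n
  induction n using Nat.strong_induction_on with
  | _ n ih =>
    intro X _ _ Y _ _ hn h
    classical
    rcases isEmpty_or_nonempty X with hX | ⟨⟨x⟩⟩
    · have : Nat.card Y = 0 := by
        rw [← markCount_bot (G := G), ← h, markCount_bot]; exact Nat.card_of_isEmpty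
      have : IsEmpty Y := (Nat.card_eq_zero.mp this).resolve_right fun hI => hI.not_finite inferInstance
      exact ⟨Equiv.equivOfIsEmpty X Y, fun g x => isEmptyElim x⟩
    · obtain ⟨y, hy⟩ : ∃ y : Y, stabilizer G y = stabilizer G x := by
        have he : exactCount X (stabilizer G x) = exactCount Y (stabilizer G x) :=
          exactCount_eq_of_markCount_eq _ fun K _ => h K
        have : Nonempty {y : Y // stabilizer G y = stabilizer G x} := by
          by_contra hne
          rw [not_nonempty_iff] at hne
          have h0 : exactCount X (stabilizer G x) = 0 := he.trans Nat.card_of_isEmpty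
          have : Nonempty {x' : X // stabilizer G x' = stabilizer G x} := ⟨⟨x, rfl⟩⟩
          exact Nat.card_pos.ne' h0
        obtain ⟨⟨y, hy⟩⟩ := this
        exact ⟨y, hy⟩
      let OX : SubMulAction G X :=
        { carrier := orbit G x, smul_mem' := fun g z hz => by
            obtain ⟨a, ha⟩ := hz
            exact ⟨g * a, by simp only [mul_smul] at *; rw [ha]⟩ }
      let OY : SubMulAction G Y :=
        { carrier := orbit G y, smul_mem' := fun g z hz => by
            obtain ⟨a, ha⟩ := hz
            exact ⟨g * a, by simp only [mul_smul] at *; rw [ha]⟩ }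
      let CX : SubMulAction G X :=
        { carrier := (orbit G x)ᶜ, smul_mem' := fun g z hz h' => hz (by
            obtain ⟨a, ha⟩ := h'
            exact ⟨g⁻¹ * a, by simp only [mul_smul] at *; rw [ha, inv_smul_smul]⟩) }
      let CY : SubMulAction G Y :=
        { carrier := (orbit G y)ᶜ, smul_mem' := fun g z hz h' => hz (by
            obtain ⟨a, ha⟩ := h'
            exact ⟨g⁻¹ * a, by simp only [mul_smul] at *; rw [ha, inv_smul_smul]⟩) }
      let eX : OX ⊕ CX ≃ X := Equiv.sumCompl (· ∈ orbit G x)
      let eY : OY ⊕ CY ≃ Y := Equiv.sumCompl (· ∈ orbit G y)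
      have heX : ∀ (g : G) (z : OX ⊕ CX), eX (g • z) = g • eX z := by rintro g (z | z) <;> rfl
      have heY : ∀ (g : G) (z : OY ⊕ CY), eY (g • z) = g • eY z := by rintro g (z | z) <;> rfl
      -- the two orbits are isomorphic
      let qX : G ⧸ stabilizer G x ≃ OX := (orbitEquivQuotientStabilizer G x).symm
      let qY : G ⧸ stabilizer G x ≃ OY :=
        (Subgroup.quotientEquivOfEq hy.symm).trans (orbitEquivQuotientStabilizer G y).symm
      let eO : OX ≃ OY := qX.symm.trans qY
      have hqX : ∀ a : G, (qX (a : G ⧸ stabilizer G x)).1 = a • x := fun a =>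
        orbitEquivQuotientStabilizer_symm_apply G x a
      have hqY : ∀ a : G, (qY (a : G ⧸ stabilizer G x)).1 = a • y := fun a => by
        simp only [qY, Equiv.trans_apply, Subgroup.quotientEquivOfEq_mk]
        exact orbitEquivQuotientStabilizer_symm_apply G y a
      have heO : ∀ (g : G) (z : OX), eO (g • z) = g • eO z := by
        intro g z
        obtain ⟨a, ha⟩ := z.2
        have hz : z = qX (a : G ⧸ stabilizer G x) := Subtype.ext (ha.symm.trans (hqX a).symm)
        have hgz : g • z = qX ((g * a : G) : G ⧸ stabilizer G x) := by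
          apply Subtype.ext
          rw [SubMulAction.val_smul, hz, hqX, hqX, mul_smul]
        rw [hgz, hz]
        simp only [eO, Equiv.trans_apply, Equiv.symm_apply_apply]
        apply Subtype.ext
        rw [SubMulAction.val_smul, hqY, hqY, mul_smul]
      have hC : ∀ K : Subgroup G, markCount CX K = markCount CY K := by
        intro K
        have := h K
        rw [← markCount_congr eX heX, ← markCount_congr eY heY, markCount_sum, markCount_sum,
          markCount_congr eO heO] at this
        omega
      have hlt : Nat.card CX < n := by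
        have : Nonempty OX := ⟨⟨x, mem_orbit_self x⟩⟩
        rw [← hn, ← Nat.card_congr eX, Nat.card_sum]
        have := Nat.card_pos (α := OX)
        omega
      obtain ⟨eC, heC⟩ := ih _ hlt CX CY rfl hC
      refine ⟨(eX.symm.trans (Equiv.sumCongr eO eC)).trans eY, fun g z => ?_⟩
      obtain ⟨z, rfl⟩ := eX.surjective z
      simp only [Equiv.trans_apply, ← heX, Equiv.symm_apply_apply]
      rw [← heY]
      congr 1
      rcases z with z | z
      · simp [heO]
      · simp [heC]

/-- The marks of a single orbit `G ⧸ K` at a subgroup of order at least `|K|`. -/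
theorem markCount_quotient_eq_zero [Finite G] {K L : Subgroup G} (hcard : Nat.card K ≤ Nat.card L)
    (hne : ∀ g : G, L ≠ K.map (MulAut.conj g).toMonoidHom) : markCount (G ⧸ K) L = 0 := by
  have : IsEmpty {q : G ⧸ K // L ≤ stabilizer G q} := by
    constructor
    rintro ⟨q, hq⟩
    obtain ⟨g, rfl⟩ := QuotientGroup.mk_surjective q
    have hs : stabilizer G (g : G ⧸ K) = K.map (MulAut.conj g).toMonoidHom := by
      have : (g : G ⧸ K) = g • ((1 : G) : G ⧸ K) := by rw [MulAction.Quotient.smul_mk, smul_eq_mul, mul_one]
      rw [this, stabilizer_smul_eq_stabilizer_map_conj, stabilizer_quotient]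
    rw [hs] at hq
    refine hne g (Subgroup.eq_of_le_of_card_ge hq ?_)
    rw [Subgroup.card_map_of_injective (MulAut.conj g).injective]
    exact hcard
  exact Nat.card_of_isEmpty

theorem markCount_quotient_self [Finite G] (K : Subgroup G) :
    markCount (G ⧸ K) K = (K.subgroupOf (Subgroup.normalizer (K : Set G))).index := by
  set N := Subgroup.normalizer (K : Set G) with hN
  have key : ∀ g : G, K ≤ stabilizer G (g : G ⧸ K) ↔ g ∈ N := by
    intro g
    constructor
    · intro h
      have h1 : ∀ k ∈ K, g⁻¹ * k * g ∈ K := by
        intro k hk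
        have := h hk
        rw [mem_stabilizer_iff, MulAction.Quotient.smul_mk, smul_eq_mul, eq_comm, QuotientGroup.eq] at this
        simpa [mul_assoc] using this
      refine inv_mem_iff.mp (Subgroup.mem_normalizer_iff''.mpr fun k => ?_)
      have himg : K.map (MulAut.conj g⁻¹).toMonoidHom = K := by
        refine Subgroup.eq_of_le_of_card_ge ?_ ?_
        · rintro _ ⟨k, hk, rfl⟩
          simpa using h1 k hk
        · rw [Subgroup.card_map_of_injective (MulAut.conj g⁻¹).injective]
      constructor
      · intro hk
        have hk' : g * k * g⁻¹ ∈ K := by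
          rw [← himg] at hk
          obtain ⟨k', hk', rfl⟩ := hk
          simpa [mul_assoc] using hk'
        simpa using hk'
      · intro hk
        rw [inv_inv] at hk
        have := h1 _ hk
        simpa [mul_assoc] using this
    · intro h k hk
      rw [mem_stabilizer_iff, MulAction.Quotient.smul_mk, smul_eq_mul, eq_comm, QuotientGroup.eq, ← mul_assoc]
      simpa [mul_assoc] using (Subgroup.mem_normalizer_iff''.mp h k).mp hk
  let f : ↥N ⧸ K.subgroupOf N → {q : G ⧸ K // K ≤ stabilizer G q} := fun q =>
    Quotient.liftOn' q (fun g => ⟨((g : G) : G ⧸ K), (key g).mpr g.2⟩) fun a b hab => by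
      apply Subtype.ext
      rw [QuotientGroup.leftRel_apply, Subgroup.mem_subgroupOf] at hab
      exact QuotientGroup.eq.mpr hab
  rw [Subgroup.index]
  refine (Nat.card_congr (Equiv.ofBijective f ⟨?_, ?_⟩)).symm
  · intro a b hab
    induction a using QuotientGroup.induction_on with
    | H a =>
      induction b using QuotientGroup.induction_on with
      | H b =>
        have := congrArg Subtype.val hab
        simp only [f] at this
        exact QuotientGroup.eq.mpr (Subgroup.mem_subgroupOf.mpr (QuotientGroup.eq.mp this))
  · rintro ⟨q, hq⟩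
    obtain ⟨g, rfl⟩ := QuotientGroup.mk_surjective q
    exact ⟨((⟨g, (key g).mp hq⟩ : ↥N) : ↥N ⧸ K.subgroupOf N), rfl⟩

end Cfsg.Agent.Lib.FusionP3.GSets
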