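import Cfsg.Agent.Lib.OddLocal.CoprimeFix

/-!
Elements of order prime to `p` fixing all elements of small exponent of a `p`-group (any prime `p`).
-/

set_option autoImplicit false
set_option linter.style.haveILetI false

namespace Cfsg.Agent.Lib.FusionP3.PowFix

open Subgroup Cfsg.Agent.Lib.OddLocal.CoprimeFix
open scoped commutatorElement

variable {G : Type*} [Group G]

/-- If `p` divides `q` and `q.choose 2`, an element of order prime to `p` fixing every element with
`h ^ q = 1` of a finite `p`-group centralizes that group. -/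
theorem centralizes_of_pow {p q : ℕ} [Fact p.Prime] [Finite G] (hpq : p ∣ q) (hq2 : p ∣ q.choose 2) {x : G}
    (hcop : (orderOf x).Coprime p) {Q : Subgroup G} (hQ : IsPGroup p Q)
    (hxQ : x ∈ normalizer (Q : Set G)) (hfix : ∀ h ∈ Q, h ^ q = 1 → x * h = h * x) :
    ∀ h ∈ Q, x * h = h * x := by
  suffices ∀ (N : ℕ) (Q : Subgroup G), Nat.card Q = N → IsPGroup p Q →
      x ∈ normalizer (Q : Set G) → (∀ h ∈ Q, h ^ q = 1 → x * h = h * x) →
      ∀ h ∈ Q, x * h = h * x from this _ Q rfl hQ hxQ hfix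
  intro N
  induction N using Nat.strong_induction_on with
  | _ N ih =>
  intro Q hN hQ hxQ hfix h hh
  rcases eq_or_ne Q ⊥ with hbot | hbot
  · rw [hbot, mem_bot] at hh
    simp [hh]
  have hlt : ∀ R : Subgroup G, R ≤ Q → R ≠ Q → x ∈ normalizer (R : Set G) →
      ∀ r ∈ R, x * r = r * x := fun R hle hne hxR =>
    ih (Nat.card R) (hN ▸ lt_of_le_of_ne (card_le_of_le hle)
      (fun he => hne (eq_of_le_of_card_ge hle he.ge))) R rfl (hQ.to_le hle) hxR
      (fun r hr => hfix r (hle hr))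
  have hxQ' : ∀ y ∈ Q, x * y * x⁻¹ ∈ Q := fun y hy => (mem_normalizer_iff.mp hxQ y).mp hy
  have hkQ : ∀ y ∈ Q, x * y * x⁻¹ * y⁻¹ ∈ Q := fun y hy => mul_mem (hxQ' y hy) (inv_mem hy)
  have hkcop : ∀ y ∈ Q, (orderOf x).Coprime (orderOf (x * y * x⁻¹ * y⁻¹)) := by
    intro y hy
    obtain ⟨m, hm⟩ := IsPGroup.iff_orderOf.mp hQ ⟨_, hkQ y hy⟩
    rw [Subgroup.orderOf_mk] at hm
    rw [hm]
    exact hcop.pow_right m
  -- the subgroup generated by the commutators with `x`
  let K : Subgroup G := closure {k | ∃ y ∈ Q, k = x * y * x⁻¹ * y⁻¹}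
  have hKQ : K ≤ Q := (closure_le _).mpr (by rintro k ⟨y, hy, rfl⟩; exact hkQ y hy)
  have hxK : x ∈ normalizer (K : Set G) := by
    have hle : K.map (MulAut.conj x).toMonoidHom ≤ K := by
      rw [MonoidHom.map_closure]
      refine closure_mono ?_
      rintro k ⟨_, ⟨y, hy, rfl⟩, rfl⟩
      refine ⟨x * y * x⁻¹, hxQ' y hy, ?_⟩
      simp [MulAut.conj_apply, mul_assoc]
    have heq : K.map (MulAut.conj x).toMonoidHom = K :=
      eq_of_le_of_card_ge hle (card_map_of_injective (MulAut.conj x).injective).ge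
    rw [mem_normalizer_iff]
    intro y
    conv_rhs => rw [← heq]
    constructor
    · intro hy
      exact ⟨y, hy, rfl⟩
    · rintro ⟨z, hz, he⟩
      rw [MulEquiv.coe_toMonoidHom, MulAut.conj_apply] at he
      exact (mul_left_cancel (mul_right_cancel he) : z = y) ▸ hz
  by_cases hK : K = Q
  swap
  · exact comm_of_fixed (k := x * h * x⁻¹ * h⁻¹) (by group)
      (hlt K hKQ hK hxK _ (subset_closure ⟨h, hh, rfl⟩)) (hkcop h hh)
  -- the Frattini subgroup of `Q`
  haveI : Group.IsNilpotent Q := hQ.isNilpotent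
  haveI : Nontrivial Q := (nontrivial_iff_ne_bot Q).mpr hbot
  let D : Subgroup G := (frattini Q).map Q.subtype
  have hDQ : D ≤ Q := map_subtype_le _
  have hDne : D ≠ Q := by
    intro he
    have htop : frattini Q = ⊤ := map_injective Q.subtype_injective
      (he.trans (by rw [← MonoidHom.range_eq_map, range_subtype]))
    exact bot_ne_top (α := Subgroup Q) (frattini_nongenerating (by rw [htop, bot_sup_eq]))
  have hmem : ∀ y : Q, ∀ z : Q, y ^ p ∈ frattini Q ∧ y * z * y⁻¹ * z⁻¹ ∈ frattini Q := by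
    intro y z
    suffices ∀ M : Subgroup Q, IsCoatom M → y ^ p ∈ M ∧ y * z * y⁻¹ * z⁻¹ ∈ M by
      refine ⟨?_, ?_⟩ <;> simp only [frattini, Order.radical, mem_iInf] <;> intro M hM
      exacts [(this M hM).1, (this M hM).2]
    intro M hM
    haveI hMn : M.Normal := Group.normalizerCondition_of_isNilpotent.normal_of_coatom M hM
    haveI : IsSimpleGroup (Q ⧸ M) := by
      haveI : Nontrivial (Q ⧸ M) := QuotientGroup.nontrivial_iff.mpr hM.1
      refine ⟨fun L hL => ?_⟩
      rcases hM.le_iff.mp (show M ≤ L.comap (QuotientGroup.mk' M) from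
        fun m hm => by rw [mem_comap, QuotientGroup.mk'_apply, (QuotientGroup.eq_one_iff m).mpr hm];
                       exact one_mem L) with h1 | h1
      · refine Or.inr ?_
        rw [eq_top_iff]
        intro w _
        obtain ⟨v, rfl⟩ := QuotientGroup.mk'_surjective M w
        exact (h1 ▸ mem_top v : v ∈ L.comap (QuotientGroup.mk' M))
      · refine Or.inl ((eq_bot_iff_forall L).mpr fun w hw => ?_)
        obtain ⟨v, rfl⟩ := QuotientGroup.mk'_surjective M w
        rw [QuotientGroup.mk'_apply, QuotientGroup.eq_one_iff, ← h1]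
        exact hw
    have hcomm : ∀ a b : Q ⧸ M, a * b = b * a := by
      have hcn : (center (Q ⧸ M)) ≠ ⊥ :=
        (nontrivial_iff_ne_bot _).mp (hQ.to_quotient M).center_nontrivial
      have htop := ((center (Q ⧸ M)).normal_of_characteristic.eq_bot_or_eq_top).resolve_left hcn
      intro a b
      exact (mem_center_iff.mp (htop ▸ mem_top a : a ∈ center (Q ⧸ M)) b).symm
    haveI : IsMulCommutative (Q ⧸ M) := ⟨⟨hcomm⟩⟩
    have hcard : Nat.card (Q ⧸ M) = p := by
      obtain ⟨m, hm⟩ := IsPGroup.iff_card.mp (hQ.to_quotient M)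
      have hpr := Group.is_simple_iff_prime_card.mp (inferInstance : IsSimpleGroup (Q ⧸ M))
      rw [hm] at hpr ⊢
      rw [Nat.Prime.eq_one_of_pow hpr, pow_one]
    refine ⟨?_, ?_⟩
    · rw [← QuotientGroup.eq_one_iff, QuotientGroup.mk_pow, ← hcard]
      exact pow_card_eq_one'
    · rw [← QuotientGroup.eq_one_iff]
      simp only [QuotientGroup.mk_mul, QuotientGroup.mk_inv]
      rw [hcomm (y : Q ⧸ M) (z : Q ⧸ M), mul_assoc (z : Q ⧸ M), mul_inv_cancel, mul_one,
        mul_inv_cancel]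
  have hxD : x ∈ normalizer (D : Set G) := by
    have hQN : (frattini Q).map Q.subtype ≤ Q := map_subtype_le _
    let e : Q ≃* Q :=
      { toFun := fun y => ⟨x * y * x⁻¹, hxQ' y y.2⟩
        invFun := fun y => ⟨x⁻¹ * y * x, (mem_normalizer_iff''.mp hxQ y).mp y.2⟩
        left_inv := fun y => by ext; simp [mul_assoc]
        right_inv := fun y => by ext; simp [mul_assoc]
        map_mul' := fun y z => by ext; simp [mul_assoc] }
    have hchar := characteristic_iff_comap_eq.mp (frattini_characteristic (G := Q)) e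
    rw [mem_normalizer_iff]
    intro y
    constructor
    · rintro ⟨w, hw, rfl⟩
      refine ⟨e w, ?_, rfl⟩
      rw [← hchar] at hw
      exact hw
    · rintro ⟨w, hw, hwy⟩
      have hwy' : (w : G) = x * y * x⁻¹ := hwy
      refine ⟨e.symm w, ?_, ?_⟩
      · rw [← hchar]
        change e (e.symm w) ∈ frattini Q
        rw [e.apply_symm_apply]
        exact hw
      · change x⁻¹ * (w : G) * x = y
        rw [hwy']
        simp [mul_assoc]
  have hDfix := hlt D hDQ hDne hxD
  have hxDc : x ∈ centralizer (D : Set G) := mem_centralizer_iff.mpr fun d hd => (hDfix d hd).symm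
  have hQND : ∀ y ∈ Q, y ∈ normalizer (D : Set G) := by
    intro y hy
    rw [mem_normalizer_iff]
    intro d
    constructor
    · rintro ⟨w, hw, rfl⟩
      exact ⟨⟨y, hy⟩ * w * ⟨y, hy⟩⁻¹, (inferInstance : (frattini Q).Normal).conj_mem w hw _, rfl⟩
    · rintro ⟨w, hw, hwy⟩
      have hwy' : (w : G) = y * d * y⁻¹ := hwy
      refine ⟨⟨y, hy⟩⁻¹ * w * ⟨y, hy⟩, ?_, ?_⟩
      · simpa using (inferInstance : (frattini Q).Normal).conj_mem w hw ⟨y, hy⟩⁻¹
      · change y⁻¹ * (w : G) * y = d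
        rw [hwy']
        simp [mul_assoc]
  have hDcent : ∀ y ∈ Q, y ∈ centralizer (D : Set G) := by
    have : K ≤ centralizer (D : Set G) := (closure_le _).mpr (by
      rintro k ⟨y, hy, rfl⟩
      exact comm_mem_centralizer hxDc (hQND y hy))
    rwa [hK] at this
  -- the commutator `k = [x, h]` has order dividing `p`
  obtain ⟨k, hk⟩ : ∃ k, k = x * h * x⁻¹ * h⁻¹ := ⟨_, rfl⟩
  have hkmem : k ∈ Q := hk ▸ hkQ h hh
  obtain ⟨d, hd⟩ : ∃ d, d = h * k * h⁻¹ * k⁻¹ := ⟨_, rfl⟩
  have hdD : d ∈ D := ⟨⟨h, hh⟩ * ⟨k, hkmem⟩ * ⟨h, hh⟩⁻¹ * ⟨k, hkmem⟩⁻¹,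
    (hmem _ _).2, by simp [hd]⟩
  have hhpD : h ^ p ∈ D := ⟨⟨h, hh⟩ ^ p, (hmem _ ⟨k, hkmem⟩).1, by simp⟩
  have hdh : Commute d h := (mem_centralizer_iff.mp (hDcent h hh) d hdD)
  have hdk : Commute d k := (mem_centralizer_iff.mp (hDcent k hkmem) d hdD)
  have hhk : h * k = d * k * h := by rw [hd]; group
  have hdp : d ^ p = 1 := by
    have h1 : k * h * k⁻¹ = d⁻¹ * h := by rw [hd]; group
    have h2 : (k * h * k⁻¹) ^ p = k * h ^ p * k⁻¹ := by rw [conj_pow]
    rw [h1, (hdh.inv_left).mul_pow, ← mem_centralizer_iff.mp (hDcent k hkmem) _ hhpD,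
      mul_inv_cancel_right, mul_eq_right, inv_pow, inv_eq_one] at h2
    exact h2
  have hpp := (Fact.out : p.Prime)
  have hhqD : h ^ q ∈ D := by
    obtain ⟨c, rfl⟩ := hpq
    rw [pow_mul]
    exact pow_mem hhpD c
  have hformula := pow_mul_comm_formula hhk hdh hdk q
  have hkh : k * h = x * h * x⁻¹ := by rw [hk]; group
  obtain ⟨c, hc⟩ := hq2
  rw [hc, pow_mul, hdp, one_pow, one_mul, hkh, conj_pow, hDfix _ hhqD, mul_inv_cancel_right,
    eq_comm, mul_eq_right] at hformula
  exact comm_of_fixed (k := k) hkh.symm (hfix k hkmem hformula) (hk ▸ hkcop h hh)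

end Cfsg.Agent.Lib.FusionP3.PowFix
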