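import Cfsg.Agent.Lib.FusionP3.KSystemControl
import Cfsg.Agent.Lib.FusionP3.PowFix
import Cfsg.Agent.Lib.PGroups.MaxAbelian
import Mathlib.GroupTheory.SemidirectProduct

/-!
Abelian subgroups of small exponent control fusion in saturated fusion systems.
-/

set_option autoImplicit false
set_option linter.style.haveILetI false

namespace Cfsg.Agent.Lib.FusionP3.SmallExponent

open Cfsg Cfsg.FusionSystem Cfsg.Agent.Lib.FS Cfsg.Agent.Lib.FusionP3.Induction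
open scoped commutatorElement

section Group

variable {p : ℕ} [Fact p.Prime] {Q : Type*} [Group Q] [Finite Q] {n : ℕ}

theorem exists_maximal_exponent (q : ℕ) :
    ∃ A : Subgroup Q, A.Normal ∧ IsMulCommutative A ∧ (∀ a ∈ A, a ^ q = 1) ∧
      ∀ B : Subgroup Q, B.Normal → IsMulCommutative B → (∀ b ∈ B, b ^ q = 1) → A ≤ B → B = A := by
  obtain ⟨A, ⟨hn, hc, he⟩, hmax⟩ :=
    (Set.toFinite {A : Subgroup Q | A.Normal ∧ IsMulCommutative A ∧ ∀ a ∈ A, a ^ q = 1}).exists_maximal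
      ⟨⊥, inferInstance, inferInstance, fun a ha => by rw [Subgroup.mem_bot.1 ha, one_pow]⟩
  exact ⟨A, hn, hc, he, fun B hBn hBc hBe hAB => le_antisymm (hmax ⟨hBn, hBc, hBe⟩ hAB) hAB⟩

/-- An automorphism of order prime to `p` fixing a maximal normal abelian subgroup of exponent `p ^ n`. -/
theorem eq_one_of_fix_maximal (hQ : IsPGroup p Q) (hn : p ^ n ≠ 2) (hn0 : 1 ≤ n) {A : Subgroup Q} [hA : A.Normal]
    (hc : IsMulCommutative A) (he : ∀ a ∈ A, a ^ p ^ n = 1)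
    (hmax : ∀ B : Subgroup Q, B.Normal → IsMulCommutative B → (∀ b ∈ B, b ^ p ^ n = 1) → A ≤ B → B = A)
    (γ : MulAut Q) (hcop : (orderOf γ).Coprime p) (hfix : ∀ a ∈ A, γ a = a) : γ = 1 := by
  let G := SemidirectProduct Q (MulAut Q) (MonoidHom.id _)
  haveI : Finite (MulAut Q) := Finite.of_injective (fun f => (f : Q → Q)) DFunLike.coe_injective
  haveI : Finite G := Finite.of_equiv _ SemidirectProduct.equivProd.symm
  let x : G := SemidirectProduct.inr γ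
  have hconj : ∀ h : Q, x * SemidirectProduct.inl h * x⁻¹ = SemidirectProduct.inl (γ h) := fun h =>
    ((congrArg (fun y => SemidirectProduct.inr γ * SemidirectProduct.inl h * y)
      (map_inv (SemidirectProduct.inr : MulAut Q →* G) γ)).symm.trans
        (SemidirectProduct.inl_aut (φ := MonoidHom.id _) γ h).symm)
  let C : Subgroup G := (Subgroup.centralizer (A : Set Q)).map SemidirectProduct.inl
  have hCfix : ∀ c ∈ Subgroup.centralizer (A : Set Q), γ c = c := by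
    intro c hcC
    have hcent := PowFix.centralizes_of_pow (p := p) (q := p ^ n) (dvd_pow_self p (by omega))
      (PGroups.prime_dvd_choose_two hn hn0) (x := x) (Q := C) ?_ ?_ ?_ ?_ _ ⟨c, hcC, rfl⟩
    · have h1 := hconj c
      rw [hcent, mul_inv_cancel_right] at h1
      exact (SemidirectProduct.inl_injective h1).symm
    · rwa [orderOf_injective _ SemidirectProduct.inr_injective]
    · exact (hQ.to_subgroup _).map _
    · refine Subgroup.mem_normalizer_iff.mpr fun g => ⟨?_, ?_⟩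
      · rintro ⟨q, hq, rfl⟩
        refine ⟨γ q, fun a ha => ?_, (hconj q).symm⟩
        rw [← hfix a ha, ← map_mul, ← map_mul, hq a ha]
      · rintro ⟨q, hq, hqe⟩
        refine ⟨γ⁻¹ q, fun a ha => γ.injective ?_, ?_⟩
        · rw [map_mul, map_mul, MulAut.apply_inv_self, hfix a ha]
          exact hq a ha
        · have h1 := hconj (γ⁻¹ q)
          rw [MulAut.apply_inv_self, hqe] at h1
          exact mul_left_cancel (mul_right_cancel h1)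
    · rintro _ ⟨q, hq, rfl⟩ hqn
      rw [← map_pow, ← map_one (SemidirectProduct.inl : Q →* G)] at hqn
      have hqA := PGroups.mem_of_maximal_exponent hQ n hn hc he hmax hq (SemidirectProduct.inl_injective hqn)
      have h1 := hconj q
      rw [hfix q hqA] at h1
      exact mul_inv_eq_iff_eq_mul.mp h1
  refine MulEquiv.ext fun y => ?_
  have hd : γ (y⁻¹ * γ y) = y⁻¹ * γ y := by
    refine hCfix _ fun a ha => ?_
    have h1 := hfix _ (hA.conj_mem a ha y)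
    rw [map_mul, map_mul, map_inv, hfix a ha] at h1
    calc a * (y⁻¹ * γ y) = y⁻¹ * (y * a * y⁻¹) * γ y := by group
      _ = y⁻¹ * γ y * a := by rw [← h1]; group
  have hpow : ∀ j : ℕ, (γ ^ j) y = y * (y⁻¹ * γ y) ^ j := by
    intro j
    induction j with
    | zero => simp
    | succ j ih => rw [pow_succ', MulAut.mul_apply, ih, map_mul, map_pow, hd, pow_succ', ← mul_assoc,
        mul_inv_cancel_left]
  have h1 := hpow (orderOf γ)
  rw [pow_orderOf_eq_one, MulAut.one_apply, left_eq_mul] at h1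
  obtain ⟨j, hj⟩ := hQ (y⁻¹ * γ y)
  have h2 := Nat.dvd_gcd (orderOf_dvd_of_pow_eq_one hj) (orderOf_dvd_of_pow_eq_one h1)
  rw [(hcop.symm).pow_left j, Nat.dvd_one, orderOf_eq_one_iff, inv_mul_eq_one] at h2
  exact h2.symm

theorem isPGroup_of_fix_maximal (hQ : IsPGroup p Q) (hn : p ^ n ≠ 2) (hn0 : 1 ≤ n) {A : Subgroup Q} [A.Normal]
    (hc : IsMulCommutative A) (he : ∀ a ∈ A, a ^ p ^ n = 1)
    (hmax : ∀ B : Subgroup Q, B.Normal → IsMulCommutative B → (∀ b ∈ B, b ^ p ^ n = 1) → A ≤ B → B = A)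
    (X : Subgroup (MulAut Q)) (hX : ∀ γ ∈ X, ∀ a ∈ A, γ a = a) : IsPGroup p X := by
  haveI : Finite (MulAut Q) := Finite.of_injective (fun f => (f : Q → Q)) DFunLike.coe_injective
  rintro ⟨γ, hγ⟩
  obtain ⟨k, m, hm, hkm⟩ := Nat.exists_eq_pow_mul_and_not_dvd (orderOf_pos γ).ne' p
    (Fact.out : p.Prime).ne_one
  refine ⟨k, Subtype.ext (eq_one_of_fix_maximal hQ hn hn0 hc he hmax (γ ^ p ^ k) ?_ (hX _ (pow_mem hγ _)))⟩
  refine Nat.Coprime.coprime_dvd_left (orderOf_dvd_of_pow_eq_one ?_)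
    (((Fact.out : p.Prime).coprime_iff_not_dvd.2 hm).symm)
  rw [← pow_mul, ← hkm, pow_orderOf_eq_one]

end Group

variable {Ω : Type*} [Group Ω]

/-- The graphs of the maps of a system. -/
def graphs {S : Subgroup Ω} (F : FusionSystem S) : Set (Set (Ω × Ω)) :=
  {g | ∃ P : Subgroup Ω, ∃ φ ∈ F.Hom P, g = Set.range fun x : P => ((x : Ω), φ x)}

theorem finite_graphs {S : Subgroup Ω} [Finite S] (F : FusionSystem S) : (graphs F).Finite := by
  have hS : (S : Set Ω).Finite := Set.toFinite _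
  refine ((hS.prod hS).finite_subsets).subset ?_
  rintro _ ⟨P, φ, hφ, rfl⟩ _ ⟨x, rfl⟩
  exact ⟨src_le hφ x.2, apply_mem hφ x⟩

theorem graphs_mono {S T : Subgroup Ω} {F : FusionSystem S} {D : FusionSystem T} (h : D.IsSubsystemOf F) :
    graphs D ⊆ graphs F := fun _ ⟨P, φ, hφ, e⟩ => ⟨P, φ, h P hφ, e⟩

theorem mem_of_graph {S : Subgroup Ω} {D : FusionSystem S} {P : Subgroup Ω} {φ : P →* Ω}
    (h : (Set.range fun x : P => ((x : Ω), φ x)) ∈ graphs D) : φ ∈ D.Hom P := by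
  obtain ⟨P', ψ, hψ, e⟩ := h
  obtain rfl : P' = P := by
    ext y
    constructor
    · intro hy
      obtain ⟨x, hx⟩ := e.ge ⟨⟨y, hy⟩, rfl⟩
      exact (show (x : Ω) = y from (Prod.mk.inj hx).1) ▸ x.2
    · intro hy
      obtain ⟨x, hx⟩ := e.le ⟨⟨y, hy⟩, rfl⟩
      exact (show (x : Ω) = y from (Prod.mk.inj hx).1) ▸ x.2
  refine hom_congr hψ fun y => ?_
  obtain ⟨x, hx⟩ := e.le ⟨y, rfl⟩
  obtain ⟨h1, h2⟩ := Prod.mk.inj hx
  rw [← h2, Subtype.ext h1]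

/-- A common map defined on a subgroup of small exponent. -/
def SameAbelian {S : Subgroup Ω} (q : ℕ) (E F : FusionSystem S) : Prop :=
  ∀ A : Subgroup Ω, (∀ a ∈ A, ∀ b ∈ A, a * b = b * a) → (∀ a ∈ A, a ^ q = 1) →
    ∀ φ ∈ F.Hom A, φ ∈ E.Hom A

theorem hom_subset {p : ℕ} [Fact p.Prime] {n : ℕ} (hn : p ^ n ≠ 2) (hn0 : 1 ≤ n) :
    ∀ (S : Subgroup Ω), Finite S → IsPGroup p S → ∀ (E F : FusionSystem S), E.IsSaturated p → F.IsSaturated p →
      E.IsSubsystemOf F → SameAbelian (p ^ n) E F → F.IsSubsystemOf E := by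
  suffices h : ∀ (k : ℕ) (S : Subgroup Ω), Finite S → IsPGroup p S → ∀ (E F : FusionSystem S),
      E.IsSaturated p → F.IsSaturated p → E.IsSubsystemOf F → SameAbelian (p ^ n) E F →
      (graphs F).ncard ≤ k → F.IsSubsystemOf E from
    fun S hfin hS E F hE hF hEF hH => h _ S hfin hS E F hE hF hEF hH le_rfl
  intro k
  induction k using Nat.strong_induction_on with
  | _ k ih =>
  intro S hfin hS E F hE hF hEF hH hk P φ hφ
  revert P φ
  refine hom_induction hS hF (M := fun P φ => φ ∈ E.Hom P) ?_ ?_ ?_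
  · intro P P' φ ψ χ _ _ h he h1 h2
    obtain ⟨χ', hχ', e⟩ := exists_comp h1 h2 h
    exact hom_congr hχ' fun x => (he x).trans (e x).symm
  · intro P P' φ ψ h _ he h1
    obtain ⟨φ', hφ', e⟩ := exists_restrict h1 h
    exact hom_congr hφ' fun x => (he x).trans (e x).symm
  intro P hPfn _ _ α hα _
  haveI := finite_sub hPfn.1
  have hP : IsPGroup p P := isPGroup_of_le hS hPfn.1
  obtain ⟨A₀, hA₀, hc₀, he₀, hmax⟩ := exists_maximal_exponent (Q := P) (p ^ n)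
  set A := A₀.map P.subtype with hA
  have hAP : A ≤ P := Subgroup.map_subtype_le _
  have hAS : A ≤ S := hAP.trans hPfn.1
  haveI := finite_sub hAS
  have hAc : ∀ a ∈ A, ∀ b ∈ A, a * b = b * a := by
    rintro _ ⟨a, ha, rfl⟩ _ ⟨b, hb, rfl⟩
    exact congrArg Subtype.val (setLike_mul_comm (s := A₀) ha hb)
  have hAe : ∀ a ∈ A, a ^ p ^ n = 1 := by
    rintro _ ⟨a, ha, rfl⟩
    rw [← map_pow, he₀ a ha, map_one]
  -- a fully normalized conjugate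
  obtain ⟨Q, hAQ, hQE⟩ := exists_isFullyNormalized E hAS
  obtain ⟨σ₀, hσ₀, hσ₀r⟩ := hAQ
  have hQc : ∀ a ∈ Q, ∀ b ∈ Q, a * b = b * a := by
    intro a ha b hb
    obtain ⟨x, rfl⟩ := hσ₀r.ge ha
    obtain ⟨y, rfl⟩ := hσ₀r.ge hb
    rw [← map_mul, ← map_mul]
    exact congrArg σ₀ (Subtype.ext (hAc x x.2 y y.2))
  have hQe : ∀ a ∈ Q, a ^ p ^ n = 1 := by
    intro a ha
    obtain ⟨x, rfl⟩ := hσ₀r.ge ha
    rw [← map_pow, show x ^ p ^ n = 1 from Subtype.ext (hAe x x.2), map_one]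
  have hQF : F.IsFullyNormalized Q :=
    ⟨hQE.1, fun R ⟨χ, hχ, hχr⟩ => hQE.2 R ⟨χ, hH Q hQc hQe χ hχ, hχr⟩⟩
  haveI := finite_sub hQE.1
  by_cases hcentral : ∀ (R : Subgroup Ω) (χ : R →* Ω), χ ∈ F.Hom R → χ ∈ F.centralizerHom Q R
  · -- `Q` is central, so the automizer of `P` is a `p`-group
    have hfix : ∀ γ ∈ F.autGroup P, ∀ a ∈ A₀, γ a = a := by
      intro γ hγ a ha
      have haA : (a : Ω) ∈ A := ⟨a, ha, rfl⟩
      obtain ⟨-, -, -, ψ, hψ, hψA, hψQ⟩ := hcentral A σ₀ (hEF A hσ₀)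
      have hmem : σ₀ ⟨a, haA⟩ ∈ Q := hσ₀r.le ⟨_, rfl⟩
      have haQ : (a : Ω) ∈ Q := by
        have h1 := (hψQ ⟨_, hmem⟩).trans (hψA ⟨a, haA⟩).symm
        have h2 := congrArg Subtype.val (F.injective_of_mem hψ h1)
        exact (show σ₀ ⟨a, haA⟩ = a from h2) ▸ hmem
      obtain ⟨φ, hφ, -, hφγ⟩ := exists_hom_of_aut hPfn.1 hγ
      obtain ⟨-, -, -, ψ', -, hψ'P, hψ'Q⟩ := hcentral P φ hφ
      apply Subtype.ext
      rw [← hφγ, ← hψ'P]
      exact (congrArg ψ' (Subtype.ext rfl)).trans (hψ'Q ⟨a, haQ⟩)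
    have hX : IsPGroup p (F.autGroup P) := isPGroup_of_fix_maximal hP hn hn0 hc₀ he₀ hmax _ hfix
    obtain ⟨-, R, hR⟩ := fullyAutomized_of_fullyNormalized hS hF hPfn
    have htop : (R : Subgroup (F.autGroup P)) = ⊤ :=
      (R.is_maximal' (hX.to_subgroup ⊤) le_top).symm
    have h1 : (⟨α, hα⟩ : F.autGroup P) ∈ (R : Subgroup (F.autGroup P)) := by
      rw [htop]; exact Subgroup.mem_top _
    rw [hR, Subgroup.mem_subgroupOf] at h1
    exact (mem_autGroup hPfn.1).1 (autInducedBy_le_autGroup E hPfn.1 h1)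
  -- the centralizer systems coincide
  obtain ⟨FC, hFC⟩ := exists_centralizerSystem F hQF.1
  obtain ⟨EC, hEC⟩ := exists_centralizerSystem E hQE.1
  have hC : ∀ (R : Subgroup Ω) (χ : R →* Ω), χ ∈ F.centralizerHom Q R → χ ∈ E.Hom R := by
    haveI : Finite (centralizerIn S Q) := finite_sub (centralizerIn_le Q)
    have hsubF : FC.IsSubsystemOf F := fun R χ h => by rw [hFC R] at h; exact h.1
    have hsub : EC.IsSubsystemOf FC := by
      intro R χ h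
      rw [hEC] at h
      rw [hFC]
      obtain ⟨h1, h2, h3, ψ, hψ, h4⟩ := h
      exact ⟨hEF R h1, h2, h3, ψ, hEF _ hψ, h4⟩
    have hHC : SameAbelian (p ^ n) EC FC := by
      intro B hBc hBe χ hχ
      rw [hFC] at hχ
      obtain ⟨h1, h2, h3, ψ, hψ, h4⟩ := hχ
      rw [hEC]
      have hBQ : ∀ b ∈ B, ∀ q ∈ Q, b * q = q * b := fun b hb q hq => ((h2 hb).2 q hq).symm
      have hnorm : ∀ b ∈ B, ∀ q ∈ Q, b * q * b⁻¹ ∈ Q := fun b hb q hq => by
        rw [hBQ b hb q hq, mul_inv_cancel_right]; exact hq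
      refine ⟨hH B hBc hBe χ h1, h2, h3, ψ, hH _ ?_ ?_ ψ hψ, h4⟩
      · intro a ha b hb
        obtain ⟨a₁, ha₁, a₂, ha₂, rfl⟩ := StronglyClosed.exists_mul_of_mem_sup hnorm ha
        obtain ⟨b₁, hb₁, b₂, hb₂, rfl⟩ := StronglyClosed.exists_mul_of_mem_sup hnorm hb
        exact Commute.mul_left (Commute.mul_right (hBc a₁ ha₁ b₁ hb₁) (hBQ a₁ ha₁ b₂ hb₂))
          (Commute.mul_right (hBQ b₁ hb₁ a₂ ha₂).symm (hQc a₂ ha₂ b₂ hb₂))
      · intro a ha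
        obtain ⟨a₁, ha₁, a₂, ha₂, rfl⟩ := StronglyClosed.exists_mul_of_mem_sup hnorm ha
        rw [(show Commute a₁ a₂ from hBQ a₁ ha₁ a₂ ha₂).mul_pow, hBe a₁ ha₁, hQe a₂ ha₂, one_mul]
    have hlt : (graphs FC).ncard < (graphs F).ncard := by
      refine Set.ncard_lt_ncard (Set.ssubset_iff_subset_ne.2 ⟨graphs_mono hsubF, fun heq => ?_⟩) (finite_graphs F)
      refine hcentral fun R χ hχ => ?_
      rw [← hFC R]
      exact mem_of_graph (heq ▸ ⟨R, χ, hχ, rfl⟩)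
    intro R χ hχ
    have h := ih _ (hlt.trans_le hk) _ ‹_› (isPGroup_of_le hS (centralizerIn_le Q)) EC FC
      (centralizerSystem_isSaturated hS hE (fullyNormalized_props hS hE hQE).1 hEC)
      (centralizerSystem_isSaturated hS hF (fullyNormalized_props hS hF hQF).1 hFC) hsub hHC le_rfl R
      (by rw [hFC]; exact hχ)
    rw [hEC] at h
    exact h.1
  -- transport `α` to `Q`
  obtain ⟨φ, hφ, hφr, hφα⟩ := exists_hom_of_aut hPfn.1 hα
  obtain ⟨β, hβF, eβ⟩ := exists_restrict hφ hAP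
  have hβE : β ∈ E.Hom A := hH A hAc hAe β hβF
  set B := β.range with hB
  obtain ⟨σA, hσA, -, hσAQ⟩ := exists_normalizer_map hS hE hQE ⟨σ₀, hσ₀, hσ₀r⟩
  obtain ⟨σB, hσB, -, hσBQ⟩ :=
    exists_normalizer_map hS hE hQE (isConj_trans (isConj_symm ⟨β, hβE, rfl⟩) ⟨σ₀, hσ₀, hσ₀r⟩)
  have hPA : P ≤ normalizerIn S A := le_inf hPfn.1 (Subgroup.le_normalizer_iff.2 fun g hg x hx => by
    obtain ⟨a, ha, rfl⟩ := hx
    exact ⟨⟨g, hg⟩ * a * ⟨g, hg⟩⁻¹, hA₀.conj_mem a ha _, rfl⟩)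
  have hPB : P ≤ normalizerIn S B := le_inf hPfn.1 (Subgroup.le_normalizer_iff.2 fun g hg x hx => by
    obtain ⟨a, rfl⟩ := hx
    obtain ⟨g', hg'⟩ : ∃ g' : P, φ g' = g := hφr.ge hg
    refine ⟨⟨(g' : Ω) * a * (g' : Ω)⁻¹, conj_mem_of_normalizer (hPA g'.2).2 a.2⟩, ?_⟩
    rw [eβ, eβ, ← hg', ← map_inv, ← map_mul, ← map_mul]
    rfl)
  obtain ⟨sA, hsA, esA⟩ := exists_restrict hσA hPA
  obtain ⟨sB, hsB, esB⟩ := exists_restrict hσB hPB
  set P₁ := sA.range with hP₁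
  obtain ⟨θA, hθA, hθAr, hθl, hθr⟩ := exists_inv hsA rfl
  have hθP : ∀ y, θA y ∈ P := fun y => hθAr.le ⟨y, rfl⟩
  obtain ⟨τ, hτ, eτ⟩ := exists_comp (hEF _ hθA) hφ hθP
  have hτP : ∀ y, τ y ∈ P := fun y => hφr.le ⟨⟨θA y, hθP y⟩, (eτ y).symm⟩
  obtain ⟨ω, hω, eω⟩ := exists_comp hτ (hEF _ hsB) hτP
  have hQP₁ : Q ≤ P₁ := by
    intro y hy
    obtain ⟨a, ha, rfl⟩ := hσAQ.ge hy
    exact ⟨⟨a, hAP (Subgroup.mem_subgroupOf.1 ha)⟩, esA _⟩
  have hP₁Q : P₁ ≤ normalizerIn S Q := by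
    refine le_inf (range_le_base hsA) ?_
    rintro _ ⟨g, rfl⟩
    haveI := finite_sub hQE.1
    refine mem_normalizer_of_conj_mem fun y hy => ?_
    obtain ⟨a, ha, rfl⟩ := hσAQ.ge hy
    rw [esA, ← map_inv, ← map_mul, ← map_mul]
    exact hσAQ.le ⟨_, Subgroup.mem_subgroupOf.2 (conj_mem_of_normalizer (hPA g.2).2 (Subgroup.mem_subgroupOf.1 ha)), rfl⟩
  obtain ⟨ω₀, hω₀, eω₀⟩ := exists_restrict hω hQP₁
  have hω₀E : ω₀ ∈ E.Hom Q := hH Q hQc hQe ω₀ hω₀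
  have hω₀Q : ∀ y, ω₀ y ∈ Q := by
    intro y
    obtain ⟨a, ha, hay⟩ := hσAQ.ge y.2
    have haA : (a : Ω) ∈ A := Subgroup.mem_subgroupOf.1 ha
    have h2 : θA ⟨y, hQP₁ y.2⟩ = a := by
      have h := hθl ⟨a, hAP haA⟩ ⟨_, rfl⟩
      refine Eq.trans (congrArg θA (Subtype.ext ?_)) h
      exact hay.symm.trans (esA ⟨a, hAP haA⟩).symm
    rw [eω₀, eω, esB]
    refine hσBQ.le ⟨_, Subgroup.mem_subgroupOf.2 ⟨⟨a, haA⟩, ?_⟩, rfl⟩
    show β _ = τ ⟨(y : Ω), hQP₁ y.2⟩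
    rw [eβ, eτ]
    exact congrArg φ (Subtype.ext h2.symm)
  have hω₀r : ω₀.range = Q := range_eq_of_mem hω₀E hω₀Q le_rfl
  have hωQ : ∀ g, ω g ∈ normalizerIn S Q := fun g => by
    refine ⟨apply_mem hω g, mem_normalizer_of_conj_mem fun y hy => ?_⟩
    obtain ⟨z, rfl⟩ := hω₀r.ge hy
    have hz : (g : Ω) * z * (g : Ω)⁻¹ ∈ Q := conj_mem_of_normalizer (hP₁Q g.2).2 z.2
    rw [eω₀, ← map_inv, ← map_mul, ← map_mul]
    have h := hω₀Q ⟨_, hz⟩
    rw [eω₀] at h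
    exact h
  obtain ⟨γ, hγ, eγ⟩ := exists_extend_aut (receptive_of_fullyNormalized hS hE hQE) hP₁Q
    (homEquiv_mem_autGroup hω₀E hω₀r) fun g hg => ⟨ω ⟨g, hg⟩, apply_mem hω _, fun x hx => by
      rw [homEquiv_coe, homEquiv_coe, eω₀, eω₀, ← map_inv, ← map_mul, ← map_mul]
      rfl⟩
  set P₃ := γ.range with hP₃
  obtain ⟨γi, hγi, hγir, hγil, -⟩ := exists_inv hγ rfl
  have hγiP : ∀ y, γi y ∈ P₁ := fun y => hγir.le ⟨y, rfl⟩
  obtain ⟨δ, hδ, eδ⟩ := exists_comp (hEF _ hγi) hω hγiP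
  have hQP₃ : Q ≤ P₃ := by
    intro y hy
    obtain ⟨z, hz⟩ := hω₀r.ge hy
    refine ⟨⟨z, hQP₁ z.2⟩, ?_⟩
    rw [eγ _ z.2, homEquiv_coe]
    exact hz
  have hδQ : ∀ y : Q, δ ⟨y, hQP₃ y.2⟩ = y := by
    intro y
    obtain ⟨z, hz⟩ := hω₀r.ge y.2
    have h1 : γ ⟨z, hQP₁ z.2⟩ = (y : Ω) := by rw [eγ _ z.2, homEquiv_coe]; exact hz
    have h2 : γi ⟨y, hQP₃ y.2⟩ = (z : Ω) := by
      have h := hγil ⟨z, hQP₁ z.2⟩ ⟨_, rfl⟩
      exact Eq.trans (congrArg γi (Subtype.ext h1.symm)) h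
    rw [eδ]
    refine Eq.trans ?_ hz
    rw [eω₀]
    exact congrArg ω (Subtype.ext h2)
  have hNQ : ∀ g ∈ normalizerIn S Q, g ∈ kNorm S Q.subtype (autInducedBy S Q) := fun g hg =>
    ⟨hg.1, Q.normalizerMonoidHom ⟨g, hg.2⟩, mem_autInducedBy.2 ⟨g, hg.1, fun _ => rfl⟩, fun _ => rfl⟩
  have hδE : δ ∈ E.Hom P₃ := by
    refine KSystemControl.kHom_subset hS hE hF hEF hQE hQF hQc hC P₃ δ ?_
    obtain ⟨δ', hδ', eδ'⟩ := exists_restrict hδ (sup_le le_rfl hQP₃ : P₃ ⊔ Q ≤ P₃)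
    refine ⟨hδ, ?_, fun y => ?_, δ', hδ', fun x => eδ' _, 1, one_mem _, fun y => (eδ' _).trans (hδQ y)⟩
    · intro y hy
      obtain ⟨g, rfl⟩ := hy
      refine hNQ _ ⟨apply_mem hγ g, ?_⟩
      exact ext_apply_mem_normalizer hQP₁ (fun x hx hxR => (eγ x hx hxR).trans (homEquiv_coe hω₀E hω₀r _))
        hω₀r g (hP₁Q g.2).2
    · rw [eδ]
      exact hNQ _ (hωQ _)
  -- assemble
  have hγP₃ : ∀ y, γ y ∈ P₃ := fun y => ⟨y, rfl⟩
  obtain ⟨ω', hω', eω'⟩ := exists_comp hγ hδE hγP₃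
  have hωE : ω ∈ E.Hom P₁ := hom_congr hω' fun y => by
    rw [eω', eδ]
    exact congrArg ω (Subtype.ext (hγil y _).symm)
  obtain ⟨θB, hθB, -, hθBl, -⟩ := exists_inv hsB rfl
  obtain ⟨μ, hμ, eμ⟩ := exists_comp hsA hωE fun x => ⟨x, rfl⟩
  have hμB : ∀ x, μ x ∈ sB.range := fun x => by rw [eμ, eω]; exact ⟨_, rfl⟩
  obtain ⟨ν, hν, eν⟩ := exists_comp hμ hθB hμB
  refine hom_congr hν fun x => ?_
  show ((α x : P) : Ω) = ν x
  rw [eν, ← hφα]
  have h : μ x = sB ⟨φ x, hφr.le ⟨x, rfl⟩⟩ := by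
    rw [eμ, eω]
    refine congrArg sB (Subtype.ext ?_)
    show τ _ = φ x
    rw [eτ]
    exact congrArg φ (Subtype.ext (hθl x _))
  exact Eq.trans (hθBl ⟨φ x, hφr.le ⟨x, rfl⟩⟩ ⟨_, rfl⟩).symm (congrArg θB (Subtype.ext h.symm))

end Cfsg.Agent.Lib.FusionP3.SmallExponent
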