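import Cfsg.Agent.Lib.FusionP3.StronglyClosed
import Cfsg.Agent.Lib.FusionSystem.Normal

/-!
Centric subgroups meeting a normal subsystem in a non-centric subgroup.
-/

set_option autoImplicit false
set_option linter.style.haveILetI false

namespace Cfsg.Agent.Lib.FusionP3.NotCentric

open Cfsg Cfsg.FusionSystem Cfsg.Agent.Lib.FS Cfsg.Agent.Lib.FusionP3.Induction
  Cfsg.Agent.Lib.FusionP3.StronglyClosed

variable {Ω : Type*} [Group Ω] {S : Subgroup Ω} {F : FusionSystem S}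

/-- The stabilizer of the series `1 ≤ R ∩ T ≤ R`. -/
def stab (R T : Subgroup Ω) : Subgroup (MulAut R) :=
  layerStab R (fun b : Bool => bif b then T else ⊥) (fun b => bif b then ⊤ else T)

theorem mem_stab {R T : Subgroup Ω} {γ : MulAut R} (h₁ : ∀ x : R, (x : Ω) ∈ T → γ x = x)
    (h₂ : ∀ x : R, (x : Ω)⁻¹ * ((γ x : R) : Ω) ∈ T) : γ ∈ stab R T := by
  rintro (_ | _)
  · refine ⟨fun x => ?_, fun x hx => Subgroup.mem_bot.2 (by rw [h₁ x hx, inv_mul_cancel])⟩
    simp only [cond_false, Subgroup.mem_bot, OneMemClass.coe_eq_one]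
    exact ⟨fun h => by rw [h, map_one], fun h => γ.injective (h.trans (map_one γ).symm)⟩
  · refine ⟨fun x => ?_, fun x _ => h₂ x⟩
    constructor
    · intro hx
      have hx : (x : Ω) ∈ T := hx
      simpa using mul_mem hx (h₂ x)
    · intro hx
      have hx : ((γ x : R) : Ω) ∈ T := hx
      simpa [mul_assoc] using mul_mem hx (inv_mem (h₂ x))

variable [Finite S] {p : ℕ} [Fact p.Prime]

theorem isPGroup_stab (hS : IsPGroup p S) {R T : Subgroup Ω} (hR : R ≤ S) :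
    IsPGroup p (stab R T) := by
  rintro ⟨γ, hγ⟩
  obtain ⟨b, -, hb⟩ := exists_pow_fix (γ := γ) hS hR (Z := T) (a := 0) (fun x hx => ((hγ true).1 x).1 hx)
    fun x hx => by
      have h : (x : Ω)⁻¹ * ((γ x : R) : Ω) = 1 := Subgroup.mem_bot.1 ((hγ false).2 x hx)
      rw [pow_zero, pow_one]
      exact Subtype.ext (inv_mul_eq_one.1 h).symm
  exact ⟨b, Subtype.ext (MulEquiv.ext fun x => hb x ((hγ true).2 x (Subgroup.mem_top _)))⟩

theorem stab_conj_mem {R T : Subgroup Ω} (hT : F.StronglyClosed T) (hR : R ≤ S) {α k : MulAut R}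
    (hα : α ∈ F.autGroup R) (hk : k ∈ stab R T) : α * k * α⁻¹ ∈ stab R T := by
  refine layerStab_conj_mem ?_ ?_ hk
  · rintro (_ | _) x
    · simp only [cond_false, Subgroup.mem_bot, OneMemClass.coe_eq_one]
      exact ⟨fun h => by rw [h, map_one], fun h => α.injective (h.trans (map_one α).symm)⟩
    · exact autGroup_mem_iff_of_stronglyClosed hT hR hα x
  · rintro (_ | _) x
    · exact autGroup_mem_iff_of_stronglyClosed hT hR hα x
    · exact ⟨fun _ => Subgroup.mem_top _, fun _ => Subgroup.mem_top _⟩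

theorem exists_outside (hS : IsPGroup p S) (hF : F.IsSaturated p) {T : Subgroup Ω} (hT : F.StronglyClosed T)
    {P R : Subgroup Ω} (hP : P ≤ S) (hPR : F.IsConj (P ⊓ T) R) (hR : ¬ centralizerIn T R ≤ R) :
    ∃ (φ : P →* Ω) (hφ : φ ∈ F.Hom P) (c : Ω) (α : MulAut φ.range), c ∈ S ∧
      c ∈ Subgroup.normalizer (φ.range : Set Ω) ∧ c ∉ φ.range ∧
      (∀ y : φ.range, ((α y : φ.range) : Ω) = c * y * c⁻¹) ∧ α ∈ stab φ.range T := by
  obtain ⟨Q, hQconj, hQfn⟩ := exists_isFullyNormalized F (inf_le_left.trans hP : P ⊓ T ≤ S)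
  obtain ⟨ψ, hψ, -, hψQ⟩ := exists_normalizer_map hS hF hQfn hQconj
  obtain ⟨χ, hχ, -, hχQ⟩ := exists_normalizer_map hS hF hQfn (isConj_trans (isConj_symm hPR) hQconj)
  have hPN : P ≤ normalizerIn S (P ⊓ T) := le_inf hP <| Subgroup.le_normalizer_iff.2 fun g hg x hx =>
    ⟨P.mul_mem (P.mul_mem hg hx.1) (P.inv_mem hg), conj_mem_of_stronglyClosed hT (hP hg) hx.2⟩
  obtain ⟨φ, hφ, eφ⟩ := exists_restrict hψ hPN
  have hQmem : ∀ z, z ∈ Q ↔ z ∈ φ.range ∧ z ∈ T := by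
    intro z
    constructor
    · intro hz
      obtain ⟨a, ha, rfl⟩ := hψQ.ge hz
      have ha' := Subgroup.mem_subgroupOf.1 ha
      refine ⟨⟨⟨a, ha'.1⟩, eφ _⟩, apply_mem_of_stronglyClosed hT hψ a ha'.2⟩
    · rintro ⟨⟨x, rfl⟩, hzT⟩
      obtain ⟨θ, hθ, -, hl, -⟩ := exists_inv hφ rfl
      have h1 := apply_mem_of_stronglyClosed hT hθ ⟨φ x, x, rfl⟩ hzT
      rw [hl x ⟨x, rfl⟩] at h1
      rw [eφ]
      exact hψQ.le ⟨_, Subgroup.mem_subgroupOf.2 ⟨x.2, h1⟩, rfl⟩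
  -- the centraliser of `Q` in `T` is not inside `Q`
  have hC : ¬ centralizerIn T Q ≤ φ.range := by
    intro hle
    refine hR fun y hy => ?_
    have hyN : y ∈ normalizerIn S R := centralizerIn_le_normalizerIn R ⟨hT.1 hy.1, hy.2⟩
    have h1 : χ ⟨y, hyN⟩ ∈ centralizerIn T Q := by
      refine ⟨apply_mem_of_stronglyClosed hT hχ ⟨y, hyN⟩ hy.1, fun z hz => ?_⟩
      obtain ⟨r, hr, rfl⟩ := hχQ.ge hz
      rw [← map_mul, ← map_mul]
      exact congrArg χ (Subtype.ext (hy.2 r (Subgroup.mem_subgroupOf.1 hr)))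
    obtain ⟨r, hr, hre⟩ := hχQ.ge ((hQmem _).2 ⟨hle h1, h1.1⟩)
    exact (show (r : Ω) = y from congrArg Subtype.val (F.injective_of_mem hχ hre)) ▸ Subgroup.mem_subgroupOf.1 hr
  have hnorm : ∀ u ∈ φ.range, ∀ t ∈ centralizerIn T Q, u * t * u⁻¹ ∈ centralizerIn T Q := by
    intro u hu t ht
    refine mem_centralizerIn'.2 ⟨conj_mem_of_stronglyClosed hT (range_le_base hφ hu) ht.1, fun z hz => ?_⟩
    have hz' : u⁻¹ * z * u ∈ Q := (hQmem _).2 ⟨mul_mem (mul_mem (inv_mem hu) ((hQmem z).1 hz).1) hu,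
      by simpa using conj_mem_of_stronglyClosed hT (inv_mem (range_le_base hφ hu)) ((hQmem z).1 hz).2⟩
    calc u * t * u⁻¹ * z * (u * t * u⁻¹)⁻¹ = u * (t * (u⁻¹ * z * u) * t⁻¹) * u⁻¹ := by group
      _ = z := by rw [(mem_centralizerIn'.1 ht).2 _ hz']; group
  set W := φ.range ⊔ centralizerIn T Q with hW
  have hWS : W ≤ S := sup_le (range_le_base hφ) (inf_le_left.trans hT.1)
  haveI := finite_sub hWS
  obtain ⟨g, hg, hgP⟩ := SetLike.exists_of_lt
    (lt_normalizerIn (isPGroup_of_le hS hWS) (left_lt_sup.2 hC : φ.range < W))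
  obtain ⟨u, hu, c, hc, rfl⟩ := exists_mul_of_mem_sup hnorm hg.1
  have hcS : c ∈ S := hT.1 hc.1
  have hcN : c ∈ Subgroup.normalizer (φ.range : Set Ω) := by
    simpa using mul_mem (inv_mem (Subgroup.le_normalizer hu)) hg.2
  refine ⟨φ, hφ, c, φ.range.normalizerMonoidHom ⟨c, hcN⟩, hcS, hcN, fun h => hgP (mul_mem hu h),
    fun _ => rfl, mem_stab (fun x hx => Subtype.ext ?_) fun x => ?_⟩
  · rw [normalizerMonoidHom_coe]
    exact (mem_centralizerIn'.1 hc).2 _ ((hQmem _).2 ⟨x.2, hx⟩)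
  · rw [normalizerMonoidHom_coe]
    have h1 : (x : Ω)⁻¹ * c * x ∈ T := by
      simpa using conj_mem_of_stronglyClosed hT (inv_mem (range_le_base hφ x.2)) hc.1
    simpa [mul_assoc] using mul_mem h1 (inv_mem hc.1)

theorem mem_pCore_and_not_radical (hS : IsPGroup p S) (hF : F.IsSaturated p) {T : Subgroup Ω}
    (hT : F.StronglyClosed T) {P R : Subgroup Ω} (hP : F.IsCentric P) (hPR : F.IsConj (P ⊓ T) R)
    (hR : ¬ centralizerIn T R ≤ R) :
    (∃ φ ∈ F.Hom P, ∃ x ∈ S ⊓ Subgroup.normalizer (φ.range : Set Ω), x ∉ φ.range ∧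
      ∃ α ∈ ((pCore p ↥(F.autGroup φ.range)).map (F.autGroup φ.range).subtype : Subgroup (MulAut ↥φ.range)),
        ∀ y : ↥φ.range, ((α y : ↥φ.range) : Ω) = x * (y : Ω) * x⁻¹) ∧ ¬ F.IsRadical p P := by
  obtain ⟨φ, hφ, c, α, hcS, hcN, hcP, hα, hαst⟩ := exists_outside hS hF hT hP.1 hPR hR
  have hP' := range_le_base hφ
  haveI := finite_sub hP'
  haveI := finite_sub hP.1
  have hαF : α ∈ F.autGroup φ.range := autInducedBy_le_autGroup F hP' (mem_autInducedBy.2 ⟨c, hcS, hα⟩)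
  refine ⟨⟨φ, hφ, c, ⟨hcS, hcN⟩, hcP, α, ?_, hα⟩, fun hrad => hcP ?_⟩
  · haveI : ((stab φ.range T).subgroupOf (F.autGroup φ.range)).Normal :=
      ⟨fun n hn g => Subgroup.mem_subgroupOf.2 (stab_conj_mem hT hP' g.2 (Subgroup.mem_subgroupOf.1 hn))⟩
    refine ⟨⟨α, hαF⟩, Cores.le_pCore (N := (stab φ.range T).subgroupOf (F.autGroup φ.range)) ?_
      (Subgroup.mem_subgroupOf.2 hαst), rfl⟩
    exact (isPGroup_stab hS hP').comap_of_injective _ (Subgroup.subtype_injective _)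
  · set e := homEquiv hφ (rfl : φ.range = φ.range) with he
    -- pull the automorphism back to `P`
    obtain ⟨β, hβF, hβ⟩ : ∃ β ∈ F.autGroup P, MulAut.congr e β = α :=
      Subgroup.mem_map.1 ((map_congr_autGroup hφ rfl).ge hαF)
    have hβe : ∀ x, e (β x) = α (e x) := fun x => by
      rw [← hβ]; exact (congrArg (fun z => e (β z)) (e.symm_apply_apply x)).symm
    obtain ⟨θ, hθ, -, hl, -⟩ := exists_inv hφ rfl
    have hTiff : ∀ x : P, (x : Ω) ∈ T ↔ ((e x : φ.range) : Ω) ∈ T := fun x => by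
      refine ⟨fun hx => apply_mem_of_stronglyClosed hT hφ x hx, fun hx => ?_⟩
      have h1 := apply_mem_of_stronglyClosed hT hθ ⟨φ x, x, rfl⟩ hx
      rwa [hl x ⟨x, rfl⟩] at h1
    have hβst : β ∈ stab P T ⊓ F.autGroup P := by
      refine ⟨mem_stab (fun x hx => e.injective ?_) fun x => ?_, hβF⟩
      · rw [hβe]
        have h1 := (hαst false).2 (e x) ((hTiff x).1 hx)
        exact Subtype.ext (inv_mul_eq_one.1 (Subgroup.mem_bot.1 h1)).symm
      · refine (hTiff (x⁻¹ * β x)).2 ?_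
        rw [map_mul, map_inv, hβe]
        exact (hαst true).2 (e x) (Subgroup.mem_top _)
    obtain ⟨q, hq⟩ := le_inn_of_radical hrad inf_le_right
      (fun a ha k hk => ⟨stab_conj_mem hT hP.1 ha hk.1, (F.autGroup P).mul_mem ((F.autGroup P).mul_mem ha hk.2) ((F.autGroup P).inv_mem ha)⟩)
      ((isPGroup_stab hS hP.1).to_le inf_le_left) hβst
    have hcent : ((e q : φ.range) : Ω)⁻¹ * c ∈ centralizerIn S φ.range := by
      refine mem_centralizerIn'.2 ⟨mul_mem (inv_mem (hP' (e q).2)) hcS, fun y hy => ?_⟩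
      obtain ⟨x, hx⟩ := e.surjective ⟨y, hy⟩
      have h1 : ((e (β x) : φ.range) : Ω) = c * y * c⁻¹ := by rw [hβe, hx, hα]
      rw [← hq, MulAut.conj_apply, map_mul, map_mul, map_inv, hx] at h1
      simp only [Subgroup.coe_mul, Subgroup.coe_inv] at h1
      calc ((e q : φ.range) : Ω)⁻¹ * c * y * (((e q : φ.range) : Ω)⁻¹ * c)⁻¹
          = ((e q : φ.range) : Ω)⁻¹ * (c * y * c⁻¹) * (e q : φ.range) := by group
        _ = y := by rw [← h1]; group
    have := mul_mem (e q).2 (hP.2 φ.range ⟨φ, hφ, rfl⟩ hcent)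
    simpa using this

end Cfsg.Agent.Lib.FusionP3.NotCentric
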