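import Cfsg.Agent.Lib.FusionSystem.Normalizer
import Cfsg.Agent.Lib.FusionP3.Tate
import Cfsg.Agent.Lib.FusionP3.NotCentric

/-!
If two saturated systems have the same centralizer system of an abelian fully normalized subgroup `Q`, they have the
same maps normalizing `Q` that act on it as elements of `S`.
-/

set_option autoImplicit false
set_option linter.style.haveILetI false

namespace Cfsg.Agent.Lib.FusionP3.KSystemControl

open Cfsg Cfsg.FusionSystem Cfsg.Agent.Lib.FS Cfsg.Agent.Lib.FusionP3.Induction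
  Cfsg.Agent.Lib.FusionP3.StronglyClosed Cfsg.Agent.Lib.FusionP3.NotCentric

variable {Ω : Type*} [Group Ω] {S : Subgroup Ω} [Finite S] {p : ℕ} [Fact p.Prime]

theorem sylowIn_autInducedBy (hS : IsPGroup p S) (F : FusionSystem S) {Q : Subgroup Ω} (hQ : Q ≤ S) :
    SylowIn p (F.autGroup Q ⊓ autInducedBy S Q) (autInducedBy S Q ⊓ autInducedBy S Q) := by
  rw [inf_eq_right.mpr (autInducedBy_le_autGroup F hQ), inf_idem]
  refine ⟨le_rfl, ?_⟩
  haveI := finite_sub hQ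
  obtain ⟨m, hm⟩ := IsPGroup.iff_card.1 (isPGroup_autInducedBy hS Q)
  rw [hm, Nat.Prime.factorization_pow (Fact.out : p.Prime), Finsupp.single_eq_same]

theorem kHom_subset (hS : IsPGroup p S) {E F : FusionSystem S} (hE : E.IsSaturated p) (hF : F.IsSaturated p)
    (hEF : E.IsSubsystemOf F) {Q : Subgroup Ω} (hQE : E.IsFullyNormalized Q) (hQF : F.IsFullyNormalized Q)
    (hQc : ∀ a ∈ Q, ∀ b ∈ Q, a * b = b * a)
    (hC : ∀ (P : Subgroup Ω) (φ : P →* Ω), φ ∈ F.centralizerHom Q P → φ ∈ E.Hom P) :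
    ∀ (P : Subgroup Ω) (φ : P →* Ω), φ ∈ kHom F (autInducedBy S Q) P → φ ∈ E.Hom P := by
  set K := autInducedBy S Q with hKdef
  set T := kNorm S Q.subtype K with hTdef
  obtain ⟨FK, hFK⟩ := exists_kSystem F hQF.1 K hTdef
  obtain ⟨EK, hEK⟩ := exists_kSystem E hQE.1 K hTdef
  haveI : Finite T := finite_sub (kNorm_le _ _)
  haveI := finite_sub hQF.1
  have hST : IsPGroup p T := isPGroup_of_le hS (kNorm_le _ _)
  have hFKs : FK.IsSaturated p := kSystem_isSaturated hS hF (receptive_of_fullyNormalized hS hF hQF)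
    (sylowIn_autInducedBy hS F hQF.1) hTdef hFK
  have hEKs : EK.IsSaturated p := kSystem_isSaturated hS hE (receptive_of_fullyNormalized hS hE hQE)
    (sylowIn_autInducedBy hS E hQE.1) hTdef hEK
  have hsub : EK.IsSubsystemOf FK := by
    intro P φ h
    rw [hEK] at h
    rw [hFK]
    obtain ⟨h1, h2, h3, ψ, hψ, h4⟩ := h
    exact ⟨hEF P h1, h2, h3, ψ, hEF _ hψ, h4⟩
  have hQT : Q ≤ T := fun q hq => ⟨hQF.1 hq, _,
    inn_le_autInducedBy hQF.1 ⟨⟨q, hq⟩, rfl⟩, fun _ => rfl⟩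
  set C₀ := centralizerIn S Q with hC₀
  have hC₀T : C₀ ≤ T := fun g hg => ⟨hg.1, 1, one_mem _, fun y => (mem_centralizerIn'.1 hg).2 y y.2⟩
  have hQC₀ : Q ≤ C₀ := fun q hq => ⟨hQF.1 hq, fun y hy => hQc y hy q hq⟩
  have hC₀sc : FK.StronglyClosed C₀ := by
    refine ⟨hC₀T, fun R hR φ hφ x => ?_⟩
    rw [hFK] at hφ
    obtain ⟨hφF, -, -, ψ, -, he, k, -, hk⟩ := hφ
    refine ⟨apply_mem hφF x, fun z hz => ?_⟩
    have h1 : z = ψ (Subgroup.inclusion le_sup_right (k⁻¹ ⟨z, hz⟩)) := by rw [hk, MulAut.apply_inv_self]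
    rw [← he x, h1, ← map_mul, ← map_mul]
    exact congrArg ψ (Subtype.ext ((hR x.2).2 _ (k⁻¹ ⟨z, hz⟩).2))
  have hQn : FK.IsNormal Q := by
    refine ⟨hQT, fun P φ hφ => ?_⟩
    rw [hFK] at hφ
    obtain ⟨-, hP, hφT, ψ, hψ, he, k, hk, hkQ⟩ := hφ
    have hψT : ∀ z, ψ z ∈ T := by
      intro z
      have h : P ⊔ Q ≤ (T.comap ψ).map (P ⊔ Q).subtype := by
        refine sup_le (fun x hx => ⟨Subgroup.inclusion le_sup_left ⟨x, hx⟩, ?_, rfl⟩)
          (fun y hy => ⟨Subgroup.inclusion le_sup_right ⟨y, hy⟩, ?_, rfl⟩)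
        · show ψ _ ∈ T
          rw [he]; exact hφT _
        · show ψ _ ∈ T
          rw [hkQ]; exact hQT (k _).2
      obtain ⟨w, hw, hwz⟩ := h z.2
      rwa [Subtype.ext hwz] at hw
    obtain ⟨ψ', hψ', e⟩ := exists_restrict hψ (sup_le le_rfl le_sup_right : (P ⊔ Q) ⊔ Q ≤ P ⊔ Q)
    refine ⟨ψ, ?_, he, ?_⟩
    · rw [hFK]
      exact ⟨hψ, sup_le hP hQT, hψT, ψ', hψ', fun z => e _, k, hk, fun y => (e _).trans (hkQ y)⟩
    · ext z
      constructor
      · rintro ⟨y, hy, rfl⟩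
        rw [show y = Subgroup.inclusion le_sup_right ⟨(y : Ω), Subgroup.mem_subgroupOf.1 hy⟩ from rfl, hkQ]
        exact (k _).2
      · intro hz
        exact ⟨Subgroup.inclusion le_sup_right (k⁻¹ ⟨z, hz⟩),
          Subgroup.mem_subgroupOf.2 (k⁻¹ ⟨z, hz⟩).2, by rw [hkQ, MulAut.apply_inv_self]⟩
  suffices h : ∀ (P : Subgroup Ω) (φ : P →* Ω), φ ∈ FK.Hom P → φ ∈ EK.Hom P by
    intro P φ hφ
    have h1 := h P φ (by rw [hFK]; exact hφ)
    rw [hEK] at h1
    exact h1.1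
  refine hom_induction hST hFKs (M := fun P φ => φ ∈ EK.Hom P) ?_ ?_ ?_
  · intro P P' φ ψ χ _ _ h he h1 h2
    obtain ⟨χ', hχ', e⟩ := exists_comp h1 h2 h
    exact hom_congr hχ' fun x => (he x).trans (e x).symm
  · intro P P' φ ψ h _ he h1
    obtain ⟨φ', hφ', e⟩ := exists_restrict h1 h
    exact hom_congr hφ' fun x => (he x).trans (e x).symm
  · intro R hRfn hRc hRr α hα _
    haveI := finite_sub hRfn.1
    have hQR : Q ≤ R := isNormal_le_centricRadical hST hQn hRc hRr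
    suffices key : ∀ γ : FK.autGroup R, (orderOf γ).Coprime p → (γ : MulAut R) ∈ EK.autGroup R by
      obtain ⟨-, Rs, hRs⟩ := fullyAutomized_of_fullyNormalized hST hFKs hRfn
      obtain ⟨n, hn, r, hr, hnr⟩ :=
        Cfsg.Agent.Lib.Transfer.PResidual.exists_mul_sylow Rs (⟨α, hα⟩ : FK.autGroup R)
      have hle : pResidual p (FK.autGroup R) ≤ (EK.autGroup R).comap (FK.autGroup R).subtype :=
        Cfsg.Agent.Lib.Transfer.PResidual.pResidual_le_iff.2 key
      have hr' : (r : MulAut R) ∈ EK.autGroup R := by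
        rw [← SetLike.mem_coe, ← Sylow.coe_coe, hRs, SetLike.mem_coe, Subgroup.mem_subgroupOf] at hr
        exact autInducedBy_le_autGroup EK hRfn.1 hr
      have hαe : α = (n : MulAut R) * r := (congrArg Subtype.val hnr).symm
      exact (mem_autGroup hRfn.1).1 (hαe ▸ mul_mem (show (n : MulAut R) ∈ EK.autGroup R from hle hn) hr')
    intro γ hγ
    obtain ⟨φ, hφ, -, hφγ⟩ := exists_hom_of_aut hRfn.1 γ.2
    have hφ' := hφ
    rw [hFK] at hφ'
    obtain ⟨hφF, -, -, ψ, -, he, k, hk, hkQ⟩ := hφ'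
    -- `γ` centralizes `Q`
    have hγk : ∀ y : Q, (γ : MulAut R) (Subgroup.inclusion hQR y) = Subgroup.inclusion hQR (k y) := by
      intro y
      apply Subtype.ext
      rw [← hφγ, ← he]
      exact (congrArg ψ (Subtype.ext rfl)).trans (hkQ y)
    have hpow : ∀ (j : ℕ) (y : Q),
        ((γ : MulAut R) ^ j) (Subgroup.inclusion hQR y) = Subgroup.inclusion hQR ((k ^ j) y) := by
      intro j
      induction j with
      | zero => intro y; simp
      | succ j ih => intro y; rw [pow_succ', MulAut.mul_apply, ih, hγk, pow_succ', MulAut.mul_apply]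
    have hk1 : k = 1 := by
      have h1 : k ^ orderOf γ = 1 := by
        refine MulEquiv.ext fun y => Subgroup.inclusion_injective hQR ?_
        rw [← hpow, ← Subgroup.coe_pow, pow_orderOf_eq_one]
        rfl
      obtain ⟨i, hi⟩ := isPGroup_autInducedBy hS Q ⟨k, hk⟩
      have h2 := Nat.dvd_gcd (orderOf_dvd_of_pow_eq_one (congrArg Subtype.val hi : k ^ p ^ i = 1))
        (orderOf_dvd_of_pow_eq_one h1)
      rwa [(hγ.symm).pow_left i, Nat.dvd_one, orderOf_eq_one_iff] at h2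
    have hfixQ : ∀ y : Q, φ (Subgroup.inclusion hQR y) = y := fun y => by
      rw [hφγ, hγk, hk1]; rfl
    -- the centralizer of `Q` in `R`
    set R₀ := R ⊓ C₀ with hR₀
    obtain ⟨ε, hεF, eε⟩ := exists_restrict hφF (inf_le_left : R₀ ≤ R)
    obtain ⟨ε', hε'F, eε'⟩ := exists_restrict hφF (sup_le inf_le_left hQR : R₀ ⊔ Q ≤ R)
    have hεC : ε ∈ F.centralizerHom Q R₀ := by
      refine ⟨hεF, inf_le_right, fun x => ?_, ε', hε'F, fun x => (eε' _).trans (eε x).symm,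
        fun y => (eε' _).trans (hfixQ y)⟩
      rw [eε]
      exact apply_mem_of_stronglyClosed hC₀sc hφ _ x.2.2
    have hεE := hC _ ε hεC
    have hεR₀ : ∀ x, ε x ∈ R₀ := fun x => by
      rw [eε, hφγ]
      exact ⟨((γ : MulAut R) _).2, by rw [← hφγ]; exact apply_mem_of_stronglyClosed hC₀sc hφ _ x.2.2⟩
    have hQR₀ : Q ≤ R₀ := le_inf hQR hQC₀
    have hR₀T : R₀ ≤ T := inf_le_left.trans hRfn.1
    have hεK : ε ∈ EK.Hom R₀ := by
      obtain ⟨ψ₀, hψ₀, e₀⟩ := exists_restrict hεE (sup_le le_rfl hQR₀ : R₀ ⊔ Q ≤ R₀)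
      rw [hEK]
      refine ⟨hεE, hR₀T, fun x => hR₀T (hεR₀ x), ψ₀, hψ₀, fun x => e₀ _, 1, one_mem _, fun y => ?_⟩
      rw [e₀, eε]
      exact hfixQ y
    -- `R₀` is centric in both systems
    have hcen : ∀ R₁, FK.IsConj R₀ R₁ → centralizerIn T R₁ ≤ R₁ := by
      intro R₁ hR₁
      have hQR₁ : Q ≤ R₁ := by
        obtain ⟨χ, hχ, hχr⟩ := hR₁
        intro y hy
        obtain ⟨χ', -, he', hm⟩ := hQn.2 R₀ χ hχ
        obtain ⟨w, hw, hwy⟩ := hm.ge hy
        rw [← hχr]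
        exact ⟨⟨w, hQR₀ (Subgroup.mem_subgroupOf.1 hw)⟩, (he' _).symm.trans hwy⟩
      intro g hg
      by_contra hgR
      refine (mem_pCore_and_not_radical hST hFKs hC₀sc hRc hR₁ fun hle => hgR (hle ?_)).2 hRr
      exact ⟨⟨kNorm_le _ _ hg.1, fun y hy => hg.2 y (hQR₁ hy)⟩, hg.2⟩
    have hfc : EK.IsFullyCentralized R₀ := by
      refine ⟨hR₀T, fun R₁ hR₁ => ?_⟩
      obtain ⟨χ, hχ, hχr⟩ := hR₁
      obtain ⟨θ, hθ, hθr, -, hθ'⟩ := exists_inv hχ hχr
      have hle := hcen R₁ ⟨χ, hsub _ hχ, hχr⟩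
      haveI : Finite (centralizerIn T R₀) := finite_sub (centralizerIn_le R₀)
      refine Nat.card_le_card_of_injective (fun g : centralizerIn T R₁ =>
        (⟨θ ⟨g, hle g.2⟩, apply_mem hθ _, fun z hz => ?_⟩ : centralizerIn T R₀)) ?_
      · obtain ⟨w, rfl⟩ := hθr.ge hz
        rw [← map_mul, ← map_mul]
        exact congrArg θ (Subtype.ext (g.2.2 w w.2))
      · intro a b h
        exact Subtype.ext (congrArg (fun w : R₁ => (w : Ω)) (EK.injective_of_mem hθ (congrArg Subtype.val h)))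
    have hεr : ε.range = R₀ := by
      haveI := finite_sub hR₀T
      exact range_eq_of_mem hεK hεR₀ le_rfl
    have hnormR : R ≤ normalizerIn T R₀ := by
      refine le_inf hRfn.1 (Subgroup.le_normalizer_iff.2 fun g hg x hx =>
        ⟨R.mul_mem (R.mul_mem hg hx.1) (R.inv_mem hg), ?_⟩)
      exact StronglyClosed.conj_mem_of_stronglyClosed hC₀sc (hRfn.1 hg) hx.2
    obtain ⟨ψ₁, hψ₁, e₁⟩ := exists_extend_aut (receptive_of_fullyCentralized hST hEKs hfc) hnormR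
      (homEquiv_mem_autGroup hεK hεr) fun g hg => ⟨_, hRfn.1 ((γ : MulAut R) ⟨g, hg⟩).2, fun x hx => by
        rw [homEquiv_coe, homEquiv_coe, eε, eε, ← hφγ, ← map_inv, ← map_mul, ← map_mul]
        rfl⟩
    have hd : ∀ g : R, (((γ : MulAut R) g : R) : Ω)⁻¹ * ψ₁ g ∈ R₀ := by
      intro g
      refine hcen R₀ (isConj_refl FK hR₀T) (mem_centralizerIn'.2
        ⟨mul_mem (inv_mem (hRfn.1 ((γ : MulAut R) g).2)) (apply_mem hψ₁ g), fun z hz => ?_⟩)
      obtain ⟨x, rfl⟩ := hεr.ge hz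
      have hx' : (g : Ω) * x * (g : Ω)⁻¹ ∈ R₀ := conj_mem_of_normalizer (hnormR g.2).2 x.2
      have h1 := ext_apply_conj (φ := ε) inf_le_left
        (fun y hy hyR => (e₁ y hy hyR).trans (homEquiv_coe hεK hεr _)) g x hx'
      rw [eε] at h1
      have h2 : φ ⟨(g : Ω) * x * (g : Ω)⁻¹, hx'.1⟩ = φ g * ε x * (φ g)⁻¹ := by
        rw [eε, ← map_inv, ← map_mul, ← map_mul]; rfl
      have h3 : ψ₁ g * ε x * (ψ₁ g)⁻¹ = φ g * ε x * (φ g)⁻¹ := h1.symm.trans h2
      rw [← hφγ]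
      calc (φ g)⁻¹ * ψ₁ g * ε x * ((φ g)⁻¹ * ψ₁ g)⁻¹ = (φ g)⁻¹ * (ψ₁ g * ε x * (ψ₁ g)⁻¹) * φ g := by group
        _ = ε x := by rw [h3]; group
    have hψ₁R : ∀ g, ψ₁ g ∈ R := fun g => by
      have := mul_mem ((γ : MulAut R) g).2 (hd g).1
      simpa using this
    have hr₁ : ψ₁.range = R := range_eq_of_mem hψ₁ hψ₁R le_rfl
    set η := homEquiv hψ₁ hr₁ with hη
    have hηE : η ∈ EK.autGroup R := homEquiv_mem_autGroup hψ₁ hr₁
    have hle : EK.autGroup R ≤ FK.autGroup R := fun a ha =>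
      (mem_autGroup hRfn.1).2 (hsub R ((mem_autGroup hRfn.1).1 ha))
    have hηF : η⁻¹ ∈ FK.autGroup R := (FK.autGroup R).inv_mem (hle hηE)
    have hθ : η⁻¹ * (γ : MulAut R) ∈ stab R C₀ ⊓ FK.autGroup R := by
      refine ⟨mem_stab (fun x hx => ?_) fun x => ?_, (FK.autGroup R).mul_mem hηF γ.2⟩
      · apply η.injective
        rw [MulAut.mul_apply, MulAut.apply_inv_self]
        apply Subtype.ext
        rw [homEquiv_coe, e₁ x ⟨x.2, hx⟩, homEquiv_coe, eε, hφγ]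
      · have h1 : ((η x)⁻¹ * (γ : MulAut R) x : R).1 ∈ C₀ := by
          have := (C₀.inv_mem (hd x).2)
          rw [mul_inv_rev, inv_inv] at this
          exact this
        have h2 : ((η⁻¹ ((η x)⁻¹ * (γ : MulAut R) x) : R) : Ω) ∈ C₀ :=
          apply_mem_of_stronglyClosed hC₀sc ((mem_autGroup hRfn.1).1 hηF) _ h1
        rwa [map_mul, map_inv, MulAut.inv_apply_self] at h2
    have hinn := le_inn_of_radical hRr inf_le_right
      (fun a ha b hb => ⟨stab_conj_mem hC₀sc hRfn.1 ha hb.1,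
        (FK.autGroup R).mul_mem ((FK.autGroup R).mul_mem ha hb.2) ((FK.autGroup R).inv_mem ha)⟩)
      ((isPGroup_stab hST hRfn.1).to_le inf_le_left) hθ
    have := (EK.autGroup R).mul_mem hηE (inn_le_autGroup EK hRfn.1 hinn)
    rwa [mul_inv_cancel_left] at this

end Cfsg.Agent.Lib.FusionP3.KSystemControl
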