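import Cfsg.Agent.Lib.FusionP3.GSets
import Mathlib.Data.Nat.ModEq
import Mathlib.Algebra.Order.BigOperators.Group.Finset
import Mathlib.Data.Finite.Sum

/-!
Adjusting the marks of a finite `G`-set on one level by adding orbits.
-/

set_option autoImplicit false
set_option linter.style.haveILetI false

namespace Cfsg.Agent.Lib.FusionP3.GSets

open MulAction

universe u v

variable {G : Type u} [Group G] {X : Type v} [MulAction G X]

theorem markCount_comp {H : Type*} [Group H] (f : H →* G) (K : Subgroup H) :
    letI := MulAction.compHom X f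
    markCount X K = markCount X (K.map f) := by
  letI := MulAction.compHom X f
  refine Nat.card_congr (Equiv.subtypeEquivRight fun x => ?_)
  simp only [SetLike.le_def, Subgroup.mem_map, mem_stabilizer_iff]
  exact ⟨fun h g ⟨k, hk, e⟩ => e ▸ h hk, fun h k hk => h ⟨k, hk, rfl⟩⟩

theorem markCount_le_card [Finite X] (K : Subgroup G) : markCount X K ≤ Nat.card X :=
  Nat.card_le_card_of_injective Subtype.val Subtype.val_injective

theorem markCount_eq_zero {K : Subgroup G} (h : ∀ x : X, ¬ K ≤ stabilizer G x) : markCount X K = 0 := by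
  have : IsEmpty {x : X // K ≤ stabilizer G x} := ⟨fun x => h x.1 x.2⟩
  exact Nat.card_of_isEmpty

theorem index_subgroupOf_normalizer_conj [Finite G] (g : G) (K : Subgroup G) :
    ((K.map (MulAut.conj g).toMonoidHom).subgroupOf
        (Subgroup.normalizer ((K.map (MulAut.conj g).toMonoidHom : Subgroup G) : Set G))).index =
      (K.subgroupOf (Subgroup.normalizer (K : Set G))).index := by
  rw [← markCount_quotient_self, ← markCount_quotient_self]
  have hs : stabilizer G (g : G ⧸ K) = K.map (MulAut.conj g).toMonoidHom := by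
    have : (g : G ⧸ K) = g • ((1 : G) : G ⧸ K) := by
      rw [MulAction.Quotient.smul_mk, smul_eq_mul, mul_one]
    rw [this, stabilizer_smul_eq_stabilizer_map_conj, stabilizer_quotient]
  have hpre : orbit G (g : G ⧸ K) = Set.univ := orbit_eq_univ G _
  let e : G ⧸ K.map (MulAut.conj g).toMonoidHom ≃ G ⧸ K :=
    (Subgroup.quotientEquivOfEq hs.symm).trans <| (orbitEquivQuotientStabilizer G (g : G ⧸ K)).symm.trans <|
      (Equiv.setCongr hpre).trans (Equiv.Set.univ _)
  have he : ∀ a : G, e (a : G ⧸ K.map (MulAut.conj g).toMonoidHom) = a • (g : G ⧸ K) := fun a => by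
    simp only [e, Equiv.trans_apply, Subgroup.quotientEquivOfEq_mk]
    exact orbitEquivQuotientStabilizer_symm_apply G (g : G ⧸ K) a
  rw [markCount_congr e (fun a q => by
    induction q using QuotientGroup.induction_on with
    | H b => rw [MulAction.Quotient.smul_mk, he, he, smul_eq_mul, mul_smul]),
    markCount_conj]

/-- Add orbits so as to reach prescribed marks on the subgroups of order `d` satisfying `Q`. -/
theorem exists_extend_marks [Finite G] (Q : Subgroup G → Prop)
    (hQ : ∀ (g : G) (K : Subgroup G), Q K → Q (K.map (MulAut.conj g).toMonoidHom)) (d : ℕ)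
    (L : Subgroup G → ℕ)
    (hL : ∀ (g : G) (K : Subgroup G), Q K → Nat.card K = d → L (K.map (MulAut.conj g).toMonoidHom) = L K)
    (Y : Type u) [MulAction G Y] [Finite Y] (hY : ∀ y : Y, Q (stabilizer G y))
    (hle : ∀ K, Q K → Nat.card K = d → markCount Y K ≤ L K)
    (hdvd : ∀ K, Q K → Nat.card K = d →
      (K.subgroupOf (Subgroup.normalizer (K : Set G))).index ∣ L K - markCount Y K) :
    ∃ (Z : Type u) (_ : MulAction G Z) (_ : Finite Z), (∀ z : Z, Q (stabilizer G z)) ∧
      (∀ K : Subgroup G, d < Nat.card K → markCount Z K = markCount Y K) ∧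
      (∀ K, Q K → Nat.card K = d → markCount Z K = L K) ∧
      (∀ n : ℕ, (∀ K, Q K → Nat.card K = d → n ∣ K.index) → Nat.card Z ≡ Nat.card Y [MOD n]) ∧
      ((∀ y : Y, Nat.card (stabilizer G y) = d) → ∀ z : Z, Nat.card (stabilizer G z) = d) := by
  classical
  have : Fintype (Subgroup G) := Fintype.ofFinite _
  let T : Finset (Subgroup G) := Finset.univ.filter fun K => Q K ∧ Nat.card K = d
  suffices hmain : ∀ (N : ℕ) (Y : Type u) [MulAction G Y] [Finite Y], ∑ K ∈ T, (L K - markCount Y K) = N →
      (∀ y : Y, Q (stabilizer G y)) → (∀ K, Q K → Nat.card K = d → markCount Y K ≤ L K) →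
      (∀ K, Q K → Nat.card K = d →
        (K.subgroupOf (Subgroup.normalizer (K : Set G))).index ∣ L K - markCount Y K) →
      ∃ (Z : Type u) (_ : MulAction G Z) (_ : Finite Z), (∀ z : Z, Q (stabilizer G z)) ∧
        (∀ K : Subgroup G, d < Nat.card K → markCount Z K = markCount Y K) ∧
        (∀ K, Q K → Nat.card K = d → markCount Z K = L K) ∧
        (∀ n : ℕ, (∀ K, Q K → Nat.card K = d → n ∣ K.index) → Nat.card Z ≡ Nat.card Y [MOD n]) ∧
        ((∀ y : Y, Nat.card (stabilizer G y) = d) → ∀ z : Z, Nat.card (stabilizer G z) = d) from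
    hmain _ Y rfl hY hle hdvd
  clear! Y
  intro N
  induction N using Nat.strong_induction_on with
  | _ N ih =>
    intro Y _ _ hN hY hle hdvd
    by_cases hdone : ∀ K, Q K → Nat.card K = d → markCount Y K = L K
    · exact ⟨Y, inferInstance, inferInstance, hY, fun _ _ => rfl, hdone, fun _ _ => Nat.ModEq.refl _,
        fun h => h⟩
    simp only [not_forall] at hdone
    obtain ⟨K, hKQ, hKd, hKne⟩ := hdone
    have hstab : ∀ q : G ⧸ K, ∃ g : G, stabilizer G q = K.map (MulAut.conj g).toMonoidHom := by
      intro q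
      obtain ⟨g, rfl⟩ := QuotientGroup.mk_surjective q
      refine ⟨g, ?_⟩
      have : (g : G ⧸ K) = g • ((1 : G) : G ⧸ K) := by
        rw [MulAction.Quotient.smul_mk, smul_eq_mul, mul_one]
      rw [this, stabilizer_smul_eq_stabilizer_map_conj, stabilizer_quotient]
    have hl : ∀ y : Y, stabilizer G (Sum.inl y : Y ⊕ G ⧸ K) = stabilizer G y := fun y => by
      ext g; simp [mem_stabilizer_iff]
    have hr : ∀ q : G ⧸ K, stabilizer G (Sum.inr q : Y ⊕ G ⧸ K) = stabilizer G q := fun q => by
      ext g; simp [mem_stabilizer_iff]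
    set k := (K.subgroupOf (Subgroup.normalizer (K : Set G))).index with hk
    have hmark : ∀ H, Q H → Nat.card H = d → markCount (G ⧸ K) H ≤ L H - markCount Y H ∧
        (K.subgroupOf (Subgroup.normalizer (K : Set G))).index ∣ k ∧
        (H.subgroupOf (Subgroup.normalizer (H : Set G))).index ∣ markCount (G ⧸ K) H := by
      intro H hHQ hHd
      by_cases hc : ∃ g : G, H = K.map (MulAut.conj g).toMonoidHom
      · obtain ⟨g, rfl⟩ := hc
        rw [markCount_conj, markCount_conj, markCount_quotient_self, hL g K hKQ hKd,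
          index_subgroupOf_normalizer_conj]
        refine ⟨Nat.le_of_dvd ?_ (hdvd K hKQ hKd), dvd_refl _, dvd_refl _⟩
        have := hle K hKQ hKd
        omega
      · simp only [not_exists] at hc
        rw [markCount_quotient_eq_zero (hKd.trans hHd.symm).le hc]
        exact ⟨Nat.zero_le _, dvd_refl _, dvd_zero _⟩
    have hlt : ∑ H ∈ T, (L H - markCount (Y ⊕ G ⧸ K) H) < N := by
      rw [← hN]
      refine Finset.sum_lt_sum (fun H _ => by rw [markCount_sum]; omega) ⟨K, by simp [T, hKQ, hKd], ?_⟩
      have h1 := hmark K hKQ hKd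
      have h2 : 0 < markCount (G ⧸ K) K := by
        rw [markCount_quotient_self]
        exact Nat.pos_of_ne_zero Subgroup.index_ne_zero_of_finite
      have := hle K hKQ hKd
      rw [markCount_sum]
      omega
    obtain ⟨Z, hZa, hZf, hZ1, hZ2, hZ3, hZ4, hZ5⟩ := ih _ hlt (Y ⊕ G ⧸ K) rfl
      (by
        rintro (y | q)
        · rw [hl]; exact hY y
        · rw [hr]; obtain ⟨g, hg⟩ := hstab q; rw [hg]; exact hQ g K hKQ)
      (fun H hHQ hHd => by
        rw [markCount_sum]
        have := (hmark H hHQ hHd).1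
        have := hle H hHQ hHd
        omega)
      (fun H hHQ hHd => by
        rw [markCount_sum, Nat.sub_add_eq]
        exact Nat.dvd_sub (hdvd H hHQ hHd) (hmark H hHQ hHd).2.2)
    refine ⟨Z, hZa, hZf, hZ1, fun H hH => ?_, hZ3, fun n hn => ?_, fun h => hZ5 ?_⟩
    · rw [hZ2 H hH, markCount_sum]
      have : markCount (G ⧸ K) H = 0 := by
        refine markCount_eq_zero fun q hq => ?_
        obtain ⟨g, hg⟩ := hstab q
        rw [hg] at hq
        have := Subgroup.card_le_of_le hq
        rw [Subgroup.card_map_of_injective (MulAut.conj g).injective] at this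
        omega
      omega
    · refine (hZ4 n hn).trans ?_
      rw [Nat.card_sum, ← Subgroup.index_eq_card]
      exact (Nat.ModEq.add_left _ (Nat.modEq_zero_iff_dvd.mpr (hn K hKQ hKd))).trans (by rw [Nat.add_zero])
    · rintro (y | q)
      · rw [hl]; exact h y
      · rw [hr]; obtain ⟨g, hg⟩ := hstab q
        rw [hg, Subgroup.card_map_of_injective (MulAut.conj g).injective, hKd]

end Cfsg.Agent.Lib.FusionP3.GSets
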