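import Cfsg.Agent.Lib.FusionP3.OmegaNormal
import Cfsg.Agent.Lib.PGroups.CyclicIndexP
import Cfsg.Agent.Lib.Coprime.Action

/-!
For odd `p` a strongly closed metacyclic subgroup is normal.
-/

set_option autoImplicit false
set_option linter.style.haveILetI false

namespace Cfsg.Agent.Lib.FusionP3.Metacyclic

open Cfsg Cfsg.FusionSystem Cfsg.Agent.Lib.FS Cfsg.Agent.Lib.FusionP3.Induction
  Cfsg.Agent.Lib.FusionP3.StronglyClosed
open scoped commutatorElement

theorem exists_omega_metacyclic {p : ℕ} [Fact p.Prime] (hp : p ≠ 2) {R : Type*} [Group R] [Finite R]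
    (hR : IsPGroup p R) (hm : IsMetacyclic R) :
    ∃ E : Subgroup R, (∀ x, x ∈ E ↔ x ^ p = 1) ∧ IsMulCommutative E ∧ Nat.card E ≤ p ^ 2 := by
  classical
  obtain ⟨N, hN, hNc, hQc⟩ := hm
  let _ : CommGroup (R ⧸ N) := @IsCyclic.commGroup _ _ hQc
  let K : Subgroup (R ⧸ N) := (powMonoidHom p).ker
  let M : Subgroup R := K.comap (QuotientGroup.mk' N)
  have hmemM : ∀ x : R, x ^ p = 1 → x ∈ M := fun x hx => by
    show QuotientGroup.mk' N x ^ p = 1
    rw [← map_pow, hx, map_one]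
  have hNM : N ≤ M := fun x hx => by
    show QuotientGroup.mk' N x ^ p = 1
    rw [show QuotientGroup.mk' N x = 1 from (QuotientGroup.eq_one_iff x).2 hx, one_pow]
  have hM : IsPGroup p M := hR.to_subgroup M
  by_cases hcyc : IsCyclic M
  · let _ : CommGroup M := @IsCyclic.commGroup _ _ hcyc
    refine ⟨(powMonoidHom p : M →* M).ker.map M.subtype, fun x => ⟨?_, fun hx => ?_⟩, ?_, ?_⟩
    · rintro ⟨y, hy, rfl⟩
      rw [← map_pow, show y ^ p = 1 from hy, map_one]
    · exact ⟨⟨x, hmemM x hx⟩, Subtype.ext hx, rfl⟩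
    · refine ⟨⟨?_⟩⟩
      rintro ⟨_, a, _, rfl⟩ ⟨_, b, _, rfl⟩
      exact Subtype.ext (congrArg (fun v : M => (v : R)) (mul_comm a b))
    · rw [Subgroup.card_map_of_injective M.subtype_injective]
      haveI : Fintype M := Fintype.ofFinite M
      have h := IsCyclic.card_pow_eq_one_le (α := M) (n := p) (Fact.out : p.Prime).pos
      refine le_trans (le_trans ?_ h) (Nat.le_self_pow (by norm_num) p)
      rw [← Nat.card_eq_finsetCard]
      exact Nat.card_le_card_of_injective (fun y => ⟨y.1, Finset.mem_filter.2 ⟨Finset.mem_univ _, y.2⟩⟩)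
        fun a b h => Subtype.ext (congrArg Subtype.val h :)
  · have hidx : (N.subgroupOf M).index = p := by
      have hle : (N.subgroupOf M).index ≤ p := by
        let f : M →* R ⧸ N := (QuotientGroup.mk' N).comp M.subtype
        have hker : f.ker = N.subgroupOf M := by
          ext y
          simp [f, Subgroup.mem_subgroupOf, QuotientGroup.eq_one_iff]
        rw [← hker, Subgroup.index_ker]
        haveI : Fintype (R ⧸ N) := Fintype.ofFinite _
        refine le_trans ?_ (IsCyclic.card_pow_eq_one_le (α := R ⧸ N) (n := p) (Fact.out : p.Prime).pos)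
        rw [← Nat.card_eq_finsetCard]
        refine Nat.card_le_card_of_injective (fun y : f.range => ⟨y.1, ?_⟩)
          fun a b h => Subtype.ext (congrArg Subtype.val h :)
        obtain ⟨y, hy⟩ := y
        obtain ⟨m, rfl⟩ := hy
        exact Finset.mem_filter.2 ⟨Finset.mem_univ _, m.2⟩
      obtain ⟨k, hk⟩ := hM.index (N.subgroupOf M)
      rw [hk] at hle ⊢
      rcases Nat.lt_or_ge k 1 with h0 | h1
      · obtain rfl : k = 0 := by omega
        refine absurd ?_ hcyc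
        rw [pow_zero, Subgroup.index_eq_one, Subgroup.subgroupOf_eq_top] at hk
        rw [show M = N from le_antisymm hk hNM]
        exact hNc
      · obtain rfl : k = 1 := by
          refine le_antisymm ?_ h1
          exact (Nat.pow_le_pow_iff_right (Fact.out : p.Prime).one_lt).1 (by rwa [pow_one])
        rw [pow_one]
    obtain ⟨E, hE, hEc, hEcard⟩ := PGroups.omega_of_cyclic_index_prime hp hM hcyc
      (isCyclic_of_surjective (Subgroup.subgroupOfEquivOfLe hNM).symm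
        (Subgroup.subgroupOfEquivOfLe hNM).symm.surjective) hidx
    refine ⟨E.map M.subtype, fun x => ⟨?_, fun hx => ?_⟩, ?_, ?_⟩
    · rintro ⟨y, hy, rfl⟩
      rw [← map_pow, (hE y).1 hy, map_one]
    · exact ⟨⟨x, hmemM x hx⟩, (hE _).2 (Subtype.ext hx), rfl⟩
    · refine ⟨⟨?_⟩⟩
      rintro ⟨_, a, ha, rfl⟩ ⟨_, b, hb, rfl⟩
      have := hEc.1
      exact Subtype.ext (congrArg (fun v : M => (v : R)) (setLike_mul_comm (S := Subgroup M) ha hb))
    · rw [Subgroup.card_map_of_injective M.subtype_injective, hEcard]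

variable {Ω : Type*} [Group Ω] {S : Subgroup Ω} {F : FusionSystem S} [Finite S] {p : ℕ} [Fact p.Prime]

/-- An automorphism inverting the subgroup `E` cannot exist on `P` when `E = Ω₁(P)` is not central. -/
theorem no_inverting (hp : p ≠ 2) {P : Type*} [Group P] [Finite P] (hP : IsPGroup p P) (E : Subgroup P)
    (hE : ∀ x, x ∈ E ↔ x ^ p = 1) (π : MulAut P) (hπ : ∀ x ∈ E, π x = x⁻¹) :
    ∀ w : P, ∀ e ∈ E, w * e = e * w := by
  haveI : Finite (MulAut P) := Finite.of_injective (fun f => (f : P → P)) DFunLike.coe_injective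
  obtain ⟨k, m, hm, hkm⟩ := Nat.exists_eq_pow_mul_and_not_dvd (orderOf_pos π).ne' p
    (Fact.out : p.Prime).ne_one
  set γ := π ^ p ^ k with hγ
  have hcop : (orderOf γ).Coprime p := by
    refine Nat.Coprime.coprime_dvd_left (orderOf_dvd_of_pow_eq_one ?_)
      (((Fact.out : p.Prime).coprime_iff_not_dvd.2 hm).symm)
    rw [hγ, ← pow_mul, ← hkm, pow_orderOf_eq_one]
  have hγE : ∀ x ∈ E, γ x = x⁻¹ := by
    have hodd : Odd (p ^ k) := ((Fact.out : p.Prime).odd_of_ne_two hp).pow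
    have key : ∀ (j : ℕ), ∀ x ∈ E, (Even j → (π ^ j) x = x) ∧ (Odd j → (π ^ j) x = x⁻¹) := by
      intro j
      induction j with
      | zero => exact fun x _ => ⟨fun _ => rfl, fun h => absurd h (by simp)⟩
      | succ j ih =>
        intro x hx
        constructor
        · intro he
          rw [pow_succ', MulAut.mul_apply, (ih x hx).2 (by simpa [Nat.even_add_one] using he),
            map_inv, hπ x hx, inv_inv]
        · intro he
          rw [pow_succ', MulAut.mul_apply, (ih x hx).1 (by simpa [Nat.odd_add_one] using he), hπ x hx]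
    exact fun x hx => (key _ x hx).2 hodd
  intro w e he
  by_contra hne
  set C := Subgroup.centralizer (E : Set P) with hC
  have hEn : ∀ (g : P), ∀ x ∈ E, g * x * g⁻¹ ∈ E := fun g x hx => (hE _).2 (by
    rw [conj_pow, (hE x).1 hx]; group)
  have hCinv : ∀ x ∈ C, γ x ∈ C := by
    intro x hx y hy
    have h1 : y = γ (y⁻¹) := by rw [hγE _ (inv_mem hy), inv_inv]
    rw [h1, ← map_mul, ← map_mul, hx y⁻¹ (inv_mem hy)]
  have hmod : ∀ g : P, g⁻¹ * γ g ∈ C := by
    intro g x hx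
    have h2 := hγE _ (hEn g x⁻¹ (inv_mem hx))
    rw [map_mul, map_mul, map_inv, map_inv, hγE _ hx, inv_inv] at h2
    have h3 : γ g * x * (γ g)⁻¹ = g * x * g⁻¹ := by rw [h2]; group
    calc x * (g⁻¹ * γ g) = g⁻¹ * (g * x * g⁻¹) * γ g := by group
      _ = g⁻¹ * γ g * x := by rw [← h3]; group
  have hpowC : ∀ (j : ℕ), (∀ x ∈ C, (γ ^ j) x ∈ C) ∧ ∀ g : P, g⁻¹ * (γ ^ j) g ∈ C := by
    intro j
    induction j with
    | zero => exact ⟨fun x hx => hx, fun g => by simp⟩
    | succ j ih =>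
      refine ⟨fun x hx => ?_, fun g => ?_⟩
      · rw [pow_succ', MulAut.mul_apply]; exact hCinv _ (ih.1 x hx)
      · rw [pow_succ', MulAut.mul_apply]
        have h1 := C.mul_mem (ih.2 g) (hmod ((γ ^ j) g))
        simpa [mul_assoc] using h1
  obtain ⟨n, hn, hfix⟩ := Coprime.Action.exists_mul_fixed (A := Subgroup.zpowers γ) (N := C)
    (fun ⟨a, ha⟩ x hx => by
      obtain ⟨j, rfl⟩ := (mem_powers_iff_mem_zpowers).2 ha
      exact (hpowC j).1 x hx)
    (by
      obtain ⟨i, hi⟩ := (hP.to_subgroup C).exists_card_eq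
      rw [Nat.card_zpowers, hi]
      exact hcop.pow_right i)
    (Or.inl inferInstance) (g := w) (fun ⟨a, ha⟩ => by
      obtain ⟨j, rfl⟩ := (mem_powers_iff_mem_zpowers).2 ha
      exact (hpowC j).2 w)
  have hw' : γ (w * n) = w * n := hfix ⟨γ, Subgroup.mem_zpowers γ⟩
  have hw1 : w * n ≠ 1 := fun h => hne <| by
    have hwC : w ∈ C := by rw [eq_inv_of_mul_eq_one_left h]; exact C.inv_mem hn
    exact (hwC e he).symm
  obtain ⟨j, hj⟩ := IsPGroup.iff_orderOf.1 hP (w * n)
  obtain ⟨j, rfl⟩ : ∃ i, j = i + 1 := ⟨j - 1, by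
    rcases j with _ | i
    · rw [pow_zero, orderOf_eq_one_iff] at hj; exact absurd hj hw1
    · simp⟩
  set x := (w * n) ^ p ^ j with hx
  have hxE : x ∈ E := (hE x).2 (by rw [hx, ← pow_mul, ← pow_succ, ← hj, pow_orderOf_eq_one])
  have hx1 : x⁻¹ = x := by rw [← hγE x hxE, hx, map_pow, hw']
  have h2 : x ^ 2 = 1 := by
    nth_rewrite 1 [sq, ← hx1]
    exact inv_mul_cancel x
  have h3 := Nat.dvd_gcd (orderOf_dvd_of_pow_eq_one h2) (orderOf_dvd_of_pow_eq_one ((hE x).1 hxE))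
  rw [(Nat.coprime_primes Nat.prime_two (Fact.out : p.Prime)).2 hp.symm, Nat.dvd_one,
    orderOf_eq_one_iff] at h3
  have := Nat.le_of_dvd (pow_pos (Fact.out : p.Prime).pos j) (hj ▸ orderOf_dvd_of_pow_eq_one h3)
  exact this.not_gt (Nat.pow_lt_pow_right (Fact.out : p.Prime).one_lt (Nat.lt_succ_self j))

theorem isNormal_of_omega_small (hS : IsPGroup p S) (hF : F.IsSaturated p) (hp : p ≠ 2) {P E : Subgroup Ω}
    (hP : F.StronglyClosed P) (hE : ∀ x, x ∈ E ↔ x ∈ P ∧ x ^ p = 1)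
    (hEc : ∀ a ∈ E, ∀ b ∈ E, a * b = b * a) (hEcard : Nat.card E ≤ p ^ 2) : F.IsNormal P := by
  have hEP : E ≤ P := fun x hx => ((hE x).1 hx).1
  have hES : E ≤ S := hEP.trans hP.1
  haveI := finite_sub hES
  haveI := finite_sub hP.1
  have hEsc : F.StronglyClosed E := ⟨hES, fun R hR φ hφ x => (hE _).2
    ⟨apply_mem_of_stronglyClosed hP hφ x (hEP (hR x.2)), by
      rw [← map_pow, show x ^ p = 1 from Subtype.ext ((hE _).1 (hR x.2)).2, map_one]⟩⟩
  have hEn : ∀ g ∈ S, ∀ x ∈ E, g * x * g⁻¹ ∈ E := fun g hg x hx => conj_mem_of_stronglyClosed hEsc hg hx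
  set L := ⁅E, P⁆ with hL
  have hLE : L ≤ E := Subgroup.commutator_le.2 fun a ha b hb => by
    have h := E.mul_mem ha (hEn b (hP.1 hb) a⁻¹ (inv_mem ha))
    simpa [commutatorElement_def, mul_assoc] using h
  have hbot : F.StronglyClosed ⊥ := ⟨bot_le, fun R hR φ _ x => Subgroup.mem_bot.2 (by
    rw [show x = 1 from Subtype.ext (Subgroup.mem_bot.1 (hR x.2)), map_one])⟩
  have hΩ : omegaOne p P = E := le_antisymm ((Subgroup.closure_le _).2 fun x hx => (hE x).2 hx)
    fun x hx => Subgroup.subset_closure ((hE x).1 hx)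
  suffices hLsc : F.StronglyClosed L ∧ ⁅L, P⁆ = ⊥ by
    refine OmegaNormal.isNormal_of_omega_series hS hF hp hP ![⊥, L, E] rfl hΩ.symm ?_ ?_
    · intro i
      fin_cases i
      · exact hbot
      · exact hLsc.1
      · exact hEsc
    · intro i
      fin_cases i
      · exact hLsc.2.le
      · exact le_refl L
  rcases eq_or_ne L ⊥ with hL0 | hL0
  · rw [hL0]
    exact ⟨hbot, Subgroup.commutator_bot_left P⟩
  -- `L` has order `p`
  have hne : ¬ E ≤ L := by
    intro hle
    haveI : Group.IsNilpotent P := (isPGroup_of_le hS hP.1).isNilpotent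
    obtain ⟨n, hn⟩ := (Subgroup.isNilpotent_iff_lowerCentralSeries P).1 inferInstance
    have h : ∀ j, E ≤ P.lowerCentralSeries j := by
      intro j
      induction j with
      | zero => exact hEP
      | succ j ih => exact hle.trans (Subgroup.commutator_mono ih le_rfl)
    exact hL0 (le_bot_iff.1 (hLE.trans ((h n).trans hn.le)))
  haveI := finite_sub (hLE.trans hES)
  obtain ⟨a, ha⟩ := (isPGroup_of_le hS (hLE.trans hES)).exists_card_eq
  obtain ⟨b, hb⟩ := (isPGroup_of_le hS hES).exists_card_eq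
  have hpp := (Fact.out : p.Prime)
  have hab : a < b := by
    refine (Nat.pow_lt_pow_iff_right hpp.one_lt).1 ?_
    rw [← ha, ← hb]
    exact lt_of_not_ge fun h => hne (Subgroup.eq_of_le_of_card_ge hLE h).ge
  have hb2 : b ≤ 2 := (Nat.pow_le_pow_iff_right hpp.one_lt).1 (hb ▸ hEcard)
  have ha1 : a = 1 := by
    have : a ≠ 0 := fun h => hL0 (Subgroup.card_eq_one.1 (by rw [ha, h, pow_zero]))
    omega
  have hLcard : Nat.card L = p := by rw [ha, ha1, pow_one]
  have hEcard' : Nat.card E = p ^ 2 := by rw [hb, show b = 2 by omega]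
  -- `L` is central in `S`
  have hLn : ∀ g ∈ S, ∀ x ∈ L, g * x * g⁻¹ ∈ L := by
    intro g hg x hx
    have hmap : L.map (MulAut.conj g).toMonoidHom ≤ L := by
      rw [hL, Subgroup.map_commutator]
      exact Subgroup.commutator_mono (by rintro _ ⟨y, hy, rfl⟩; exact hEn g hg y hy)
        (by rintro _ ⟨y, hy, rfl⟩; exact conj_mem_of_stronglyClosed hP hg hy)
    exact hmap ⟨x, hx, rfl⟩
  have hLcent : ∀ g ∈ S, ∀ x ∈ L, g * x = x * g := by
    haveI hn : (L.subgroupOf S).Normal := ⟨fun x hx g => Subgroup.mem_subgroupOf.2 (hLn g g.2 x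
      (Subgroup.mem_subgroupOf.1 hx))⟩
    have hc := Cfsg.Agent.Lib.PGroups.le_center_of_normal_card_prime hS (L.subgroupOf S)
      (by rw [Nat.card_congr (Subgroup.subgroupOfEquivOfLe (hLE.trans hES)).toEquiv, hLcard])
    intro g hg x hx
    exact congrArg Subtype.val (Subgroup.mem_center_iff.1
      (hc (Subgroup.mem_subgroupOf.2 hx : (⟨x, hES (hLE hx)⟩ : S) ∈ _)) ⟨g, hg⟩)
  have hLP : ⁅L, P⁆ = ⊥ := le_bot_iff.1 <| Subgroup.commutator_le.2 fun x hx g hg => by
    rw [Subgroup.mem_bot, commutatorElement_eq_one_iff_mul_comm]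
    exact (hLcent g (hP.1 hg) x hx).symm
  refine ⟨⟨hLE.trans hES, fun R hR φ hφ x => ?_⟩, hLP⟩
  by_contra hxL
  -- `R = L`
  have hRL : R = L := by
    refine Subgroup.eq_of_le_of_card_ge hR ?_
    haveI := finite_sub (src_le hφ)
    rw [hLcard]
    obtain ⟨c, hc⟩ := (isPGroup_of_le hS (src_le hφ)).exists_card_eq
    rw [hc]
    refine Nat.le_self_pow ?_ p
    rintro rfl
    rw [pow_zero, Subgroup.card_eq_one] at hc
    have : x = 1 := Subtype.ext (Subgroup.mem_bot.1 (hc.le x.2))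
    exact hxL (by rw [this, map_one]; exact one_mem _)
  subst hRL
  set L' := φ.range with hL'
  have hL'E : L' ≤ E := by rintro _ ⟨y, rfl⟩; exact hEsc.2 _ hLE φ hφ y
  haveI : Finite (normalizerIn S L) := finite_sub (normalizerIn_le L)
  haveI : Finite L' := finite_sub (hL'E.trans hES)
  haveI : Finite (normalizerIn S E) := finite_sub (normalizerIn_le E)
  have hLfn : F.IsFullyNormalized L := ⟨hLE.trans hES, fun Q _ => Subgroup.card_le_of_le
    (le_inf inf_le_left (inf_le_left.trans (Subgroup.le_normalizer_iff.2 fun g hg y hy => hLn g hg y hy)))⟩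
  obtain ⟨ψ, hψ, -, hψL⟩ := exists_normalizer_map hS hF hLfn (isConj_symm ⟨φ, hφ, rfl⟩)
  have hEN : E ≤ normalizerIn S L' := le_inf hES (Subgroup.le_normalizer_iff.2 fun g hg y hy => by
    rw [hEc g hg y (hL'E hy), mul_inv_cancel_right]; exact hy)
  obtain ⟨β₀, hβ₀, eβ₀⟩ := exists_restrict hψ hEN
  have hβ₀r : β₀.range = E := range_eq_of_mem hβ₀
    (fun y => apply_mem_of_stronglyClosed hEsc hβ₀ y y.2) le_rfl
  set β₁ := homEquiv hβ₀ hβ₀r with hβ₁
  have hβ₁L : ∀ y : E, (y : Ω) ∈ L' → ((β₁ y : E) : Ω) ∈ L := fun y hy => by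
    rw [homEquiv_coe, eβ₀]
    exact hψL.le ⟨_, Subgroup.mem_subgroupOf.2 hy, rfl⟩
  have hβ₁L' : ∀ y : E, (y : Ω) ∈ L → ((β₁⁻¹ y : E) : Ω) ∈ L' := by
    intro y hy
    obtain ⟨u, hu, hue⟩ := hψL.ge hy
    have hu' := Subgroup.mem_subgroupOf.1 hu
    have : y = β₁ ⟨u, hL'E hu'⟩ := Subtype.ext (by rw [homEquiv_coe, eβ₀]; exact hue.symm)
    rw [this, MulAut.inv_apply_self]
    exact hu'
  -- the transvection
  obtain ⟨w, hw, hwE⟩ : ∃ w ∈ P, ¬ ∀ e ∈ E, w * e = e * w := by
    by_contra h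
    push Not at h
    exact hL0 (le_bot_iff.1 (Subgroup.commutator_le.2 fun e he g hg => by
      rw [Subgroup.mem_bot, commutatorElement_eq_one_iff_mul_comm]; exact (h g hg e he).symm))
  set X := F.autGroup E
  have hwN : w ∈ Subgroup.normalizer (E : Set Ω) := mem_normalizer_of_conj_mem (hEn w (hP.1 hw))
  set t : MulAut E := E.normalizerMonoidHom ⟨w, hwN⟩ with ht
  have htX : t ∈ X := autInducedBy_le_autGroup F hES (mem_autInducedBy.2 ⟨w, hP.1 hw, fun _ => rfl⟩)
  have htL : ∀ y : E, ((t y * y⁻¹ : E) : Ω) ∈ L := fun y => by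
    rw [Subgroup.coe_mul, Subgroup.coe_inv, normalizerMonoidHom_coe]
    have h := L.inv_mem (Subgroup.commutator_mem_commutator y.2 hw : ⁅(y : Ω), w⁆ ∈ ⁅E, P⁆)
    rwa [commutatorElement_inv, commutatorElement_def] at h
  have htfix : ∀ y : E, (y : Ω) ∈ L → t y = y := fun y hy => Subtype.ext (by
    rw [normalizerMonoidHom_coe, hLcent w (hP.1 hw) _ hy, mul_inv_cancel_right])
  have hgen : ∀ {y : Ω}, y ∈ L' → y ∉ L → ∀ (A : Subgroup Ω), L ≤ A → y ∈ A → E ≤ A := by
    intro y hy hyR A hA hyA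
    have hlt : L < L ⊔ Subgroup.zpowers y := lt_of_le_of_ne le_sup_left fun h =>
      hyR (h.ge (Subgroup.mem_sup_right (Subgroup.mem_zpowers y)))
    have hle : L ⊔ Subgroup.zpowers y ≤ E := sup_le hLE (Subgroup.zpowers_le.2 (hL'E hy))
    haveI := finite_sub (hle.trans hES)
    obtain ⟨c, hc⟩ := (isPGroup_of_le hS (hle.trans hES)).exists_card_eq
    have h2 : 2 ≤ c := by
      have := Nat.lt_of_le_of_ne (Subgroup.card_le_of_le hlt.le) fun h =>
        hlt.ne (Subgroup.eq_of_le_of_card_ge hlt.le h.ge)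
      rw [hc, hLcard] at this
      have h' : p ^ 1 < p ^ c := by rwa [pow_one]
      exact (Nat.pow_lt_pow_iff_right hpp.one_lt).1 h'
    rw [← Subgroup.eq_of_le_of_card_ge hle (by
      rw [hEcard', hc]; exact Nat.pow_le_pow_right hpp.pos h2)]
    exact sup_le hA (Subgroup.zpowers_le.2 hyA)
  obtain ⟨y, hy, hyR⟩ : ∃ y ∈ L', y ∉ L := ⟨φ x, ⟨x, rfl⟩, hxL⟩
  set y' : E := ⟨y, hL'E hy⟩ with hy'
  set z' : E := t y' * y'⁻¹ with hz'
  have hz'R : (z' : Ω) ∈ L := htL y'
  have hz'1 : z' ≠ 1 := by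
    intro h
    rw [hz', mul_inv_eq_one] at h
    refine hwE fun e he => ?_
    have hmem := hgen hy hyR (Subgroup.centralizer ({w} : Set Ω))
      (fun u hu => Subgroup.mem_centralizer_singleton_iff.2 (hLcent w (hP.1 hw) u hu).symm)
      (Subgroup.mem_centralizer_singleton_iff.2 (by
        have h' := congrArg Subtype.val h
        rw [normalizerMonoidHom_coe, mul_inv_eq_iff_eq_mul] at h'
        exact h'.symm)) he
    exact (Subgroup.mem_centralizer_singleton_iff.1 hmem).symm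
  have hzgen : L ≤ Subgroup.zpowers (z' : Ω) := by
    refine (Subgroup.eq_of_le_of_card_ge (Subgroup.zpowers_le.2 hz'R) ?_).ge
    rw [hLcard, Nat.card_zpowers, Subgroup.orderOf_coe]
    obtain ⟨c, hc⟩ := IsPGroup.iff_orderOf.1 (isPGroup_of_le hS hES) z'
    rw [hc]
    refine Nat.le_self_pow ?_ p
    rintro rfl
    rw [pow_zero, orderOf_eq_one_iff] at hc
    exact hz'1 hc
  -- the opposite transvection
  set t₁ : MulAut E := β₁⁻¹ * t * β₁ with ht₁
  have ht₁X : t₁ ∈ X :=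
    X.mul_mem (X.mul_mem (X.inv_mem (homEquiv_mem_autGroup hβ₀ hβ₀r)) htX) (homEquiv_mem_autGroup hβ₀ hβ₀r)
  have ht₁y : t₁ y' = y' := by
    rw [ht₁, MulAut.mul_apply, MulAut.mul_apply, htfix _ (hβ₁L y' hy), MulAut.inv_apply_self]
  have ht₁z : ((z'⁻¹ * t₁ z' : E) : Ω) ∈ L' := by
    have h1 := hβ₁L' _ (htL (β₁ z'))
    rw [map_mul, map_inv, MulAut.inv_apply_self] at h1
    have hc : z'⁻¹ * t₁ z' = t₁ z' * z'⁻¹ := Subtype.ext (hEc _ (z'⁻¹).2 _ (t₁ z').2)
    rw [hc, ht₁, MulAut.mul_apply, MulAut.mul_apply]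
    exact h1
  have hd : z'⁻¹ * t₁ z' ≠ 1 := by
    intro h
    rw [inv_mul_eq_one] at h
    have hall : ∀ v : E, t₁ v = v := by
      intro v
      have hmem := hgen hy hyR ((t₁.toMonoidHom.eqLocus (MonoidHom.id E)).map E.subtype)
        (fun u hu => ⟨⟨u, hLE hu⟩, by
          obtain ⟨i, hi⟩ := hzgen hu
          show t₁ _ = _
          rw [show (⟨u, hLE hu⟩ : E) = z' ^ i from Subtype.ext hi.symm, map_zpow, ← h]
          rfl, rfl⟩) ⟨y', ht₁y, rfl⟩ v.2
      obtain ⟨v', hv', hvv⟩ := hmem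
      rw [← Subtype.ext hvv]
      exact hv'
    have h1 := hall (β₁⁻¹ y')
    rw [ht₁, MulAut.mul_apply, MulAut.mul_apply, MulAut.apply_inv_self] at h1
    exact hz'1 (by rw [hz', β₁⁻¹.injective h1, mul_inv_cancel])
  obtain ⟨i, hi⟩ : ∃ i : ℕ, (z'⁻¹ * t₁ z') ^ i = y'⁻¹ := by
    have h2 : Subgroup.zpowers ((z'⁻¹ * t₁ z' : E) : Ω) = L' := by
      refine Subgroup.eq_of_le_of_card_ge (Subgroup.zpowers_le.2 ht₁z) ?_
      rw [card_range hφ, hLcard, Nat.card_zpowers, Subgroup.orderOf_coe]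
      obtain ⟨c, hc⟩ := IsPGroup.iff_orderOf.1 (isPGroup_of_le hS hES) (z'⁻¹ * t₁ z')
      rw [hc]
      refine Nat.le_self_pow ?_ p
      rintro rfl
      rw [pow_zero, orderOf_eq_one_iff] at hc
      exact hd hc
    have hm : ((y'⁻¹ : E) : Ω) ∈ Subgroup.zpowers ((z'⁻¹ * t₁ z' : E) : Ω) := by
      rw [h2]; exact L'.inv_mem hy
    obtain ⟨i, hi⟩ := (isOfFinOrder_of_finite (z'⁻¹ * t₁ z')).mem_powers_iff_mem_zpowers.2
      (show y'⁻¹ ∈ Subgroup.zpowers (z'⁻¹ * t₁ z') by
        obtain ⟨j, hj⟩ := hm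
        exact ⟨j, Subtype.ext (by simpa using hj)⟩)
    exact ⟨i, hi⟩
  set s := t₁ ^ i with hs
  have hsy : s y' = y' := by
    rw [hs]; clear hi hs
    induction i with
    | zero => rfl
    | succ i ih => rw [pow_succ', MulAut.mul_apply, ih, ht₁y]
  have hsz : s z' = z' * y'⁻¹ := by
    have hfixd : t₁ (z'⁻¹ * t₁ z') = z'⁻¹ * t₁ z' := by
      rw [ht₁, MulAut.mul_apply, MulAut.mul_apply, htfix _ (hβ₁L _ ?_), MulAut.inv_apply_self]
      exact ht₁z
    have hpow : ∀ j : ℕ, (t₁ ^ j) z' = z' * (z'⁻¹ * t₁ z') ^ j := by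
      intro j
      induction j with
      | zero => simp
      | succ j ih => rw [pow_succ', MulAut.mul_apply, ih, map_mul, map_pow, hfixd, pow_succ', ← mul_assoc,
          mul_inv_cancel_left]
    rw [hs, hpow, hi]
  have htz : t z' = z' := htfix z' hz'R
  have hty : t y' = z' * y' := by rw [hz', inv_mul_cancel_right]
  set r := t * s * t with hr
  have hrz : r z' = y'⁻¹ := by
    rw [hr, MulAut.mul_apply, MulAut.mul_apply, htz, hsz, map_mul, map_inv, htz, hty, mul_inv_rev]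
    exact Subtype.ext (by
      simp only [Subgroup.coe_mul, Subgroup.coe_inv]
      rw [hEc _ (E.inv_mem y'.2) _ (E.inv_mem z'.2), mul_inv_cancel_left])
  have hry : r y' = z' := by
    rw [hr, MulAut.mul_apply, MulAut.mul_apply, hty, map_mul, hsz, hsy, inv_mul_cancel_right, htz]
  set δ := r * r with hδ
  have hδX : δ ∈ X := by
    have : r ∈ X := X.mul_mem (X.mul_mem htX (pow_mem ht₁X i)) htX
    exact X.mul_mem this this
  let Inv : Subgroup E :=
    { carrier := {v | δ v = v⁻¹}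
      one_mem' := by simp
      mul_mem' := fun {a b} ha hb => by
        show δ (a * b) = (a * b)⁻¹
        rw [map_mul, show δ a = a⁻¹ from ha, show δ b = b⁻¹ from hb, mul_inv_rev]
        exact Subtype.ext (hEc _ (E.inv_mem a.2) _ (E.inv_mem b.2))
      inv_mem' := fun {a} ha => by
        show δ a⁻¹ = a⁻¹⁻¹
        rw [map_inv, show δ a = a⁻¹ from ha] }
  have hInv : ∀ v : E, δ v = v⁻¹ := by
    intro v
    have hzI : z' ∈ Inv := by
      show δ z' = _
      rw [hδ, MulAut.mul_apply, hrz, map_inv, hry]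
    have hyI : y' ∈ Inv := by
      show δ y' = _
      rw [hδ, MulAut.mul_apply, hry, hrz]
    have hmem := hgen hy hyR (Inv.map E.subtype) (fun u hu => by
      obtain ⟨j, hj⟩ := hzgen hu
      exact ⟨z' ^ j, zpow_mem hzI j, by simpa using hj⟩) ⟨y', hyI, rfl⟩ v.2
    obtain ⟨v', hv', hvv⟩ := hmem
    rw [← Subtype.ext hvv]
    exact hv'
  -- extend to `S`
  have hEfn : F.IsFullyNormalized E := ⟨hES, fun Q _ => Subgroup.card_le_of_le
    (le_inf inf_le_left (inf_le_left.trans (Subgroup.le_normalizer_iff.2 fun g hg v hv => hEn g hg v hv)))⟩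
  obtain ⟨ψ₁, hψ₁, e₁⟩ := exists_extend_aut (receptive_of_fullyNormalized hS hF hEfn)
    (le_inf le_rfl (Subgroup.le_normalizer_iff.2 fun g hg v hv => hEn g hg v hv) : S ≤ normalizerIn S E)
    hδX fun g hg => ⟨g, hg, fun v hv => by rw [hInv, hInv, Subgroup.coe_inv, Subgroup.coe_inv]; group⟩
  obtain ⟨π₀, hπ₀, eπ₀⟩ := exists_restrict hψ₁ hP.1
  have hπr : π₀.range = P := range_eq_of_mem hπ₀
    (fun v => apply_mem_of_stronglyClosed hP hπ₀ v v.2) le_rfl
  refine hwE fun e he => ?_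
  have hkey := no_inverting hp (isPGroup_of_le hS hP.1) (E.subgroupOf P)
    (fun v => by
      rw [Subgroup.mem_subgroupOf, hE]
      exact ⟨fun h => Subtype.ext h.2, fun h => ⟨v.2, congrArg Subtype.val h⟩⟩)
    (homEquiv hπ₀ hπr) (fun v hv => Subtype.ext (by
      rw [homEquiv_coe, eπ₀, e₁ _ (Subgroup.mem_subgroupOf.1 hv), hInv]; rfl))
    ⟨w, hw⟩ ⟨e, hEP he⟩ (Subgroup.mem_subgroupOf.2 he)
  exact congrArg Subtype.val hkey

theorem isNormal_of_metacyclic (hS : IsPGroup p S) (hF : F.IsSaturated p) (hp : p ≠ 2) {P : Subgroup Ω}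
    (hP : F.StronglyClosed P) (hm : IsMetacyclic P) : F.IsNormal P := by
  haveI := finite_sub hP.1
  obtain ⟨E, hE, hEc, hcard⟩ := exists_omega_metacyclic hp (isPGroup_of_le hS hP.1) hm
  refine isNormal_of_omega_small hS hF hp hP (E := E.map P.subtype) (fun x => ⟨?_, ?_⟩) ?_ ?_
  · rintro ⟨y, hy, rfl⟩
    exact ⟨y.2, congrArg Subtype.val ((hE y).1 hy)⟩
  · rintro ⟨hxP, hx⟩
    exact ⟨⟨x, hxP⟩, (hE _).2 (Subtype.ext hx), rfl⟩
  · rintro _ ⟨a, ha, rfl⟩ _ ⟨b, hb, rfl⟩
    exact congrArg Subtype.val (setLike_mul_comm (s := E) ha hb)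
  · rwa [Subgroup.card_map_of_injective P.subtype_injective]

end Cfsg.Agent.Lib.FusionP3.Metacyclic
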