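import Cfsg.Prelude.Def_OddOrderLocal
import Cfsg.Prelude.Def_PLocal
import Cfsg.Agent.Lib.FusionP3.StronglyClosed
import Cfsg.Agent.Lib.FusionSystem.Normal
import Cfsg.Agent.Lib.OddLocal.CoprimeFix
import Mathlib.GroupTheory.SemidirectProduct

/-!
For odd `p` a strongly closed subgroup is normal iff the subgroup generated by its elements of order `p` has a
central series of strongly closed subgroups.
-/

set_option autoImplicit false
set_option linter.style.haveILetI false

namespace Cfsg.Agent.Lib.FusionP3.OmegaNormal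

open Cfsg Cfsg.FusionSystem Cfsg.Agent.Lib.FS Cfsg.Agent.Lib.FusionP3.Induction
  Cfsg.Agent.Lib.FusionP3.StronglyClosed
open scoped commutatorElement

/-- An automorphism of order prime to `p` of a `p`-group fixing the elements of order `p` is trivial. -/
theorem aut_eq_one_of_omega {p : ℕ} [Fact p.Prime] (hp : p ≠ 2) {Q : Type*} [Group Q] [Finite Q]
    (hQ : IsPGroup p Q) (γ : MulAut Q) (hcop : (orderOf γ).Coprime p)
    (hfix : ∀ h : Q, orderOf h = p → γ h = h) : γ = 1 := by
  let G := SemidirectProduct Q (MulAut Q) (MonoidHom.id _)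
  haveI : Finite (MulAut Q) := Finite.of_injective (fun f => (f : Q → Q)) DFunLike.coe_injective
  haveI : Finite G := Finite.of_equiv _ SemidirectProduct.equivProd.symm
  let x : G := SemidirectProduct.inr γ
  have hconj : ∀ h : Q, x * SemidirectProduct.inl h * x⁻¹ = SemidirectProduct.inl (γ h) := fun h =>
    ((congrArg (fun y => SemidirectProduct.inr γ * SemidirectProduct.inl h * y)
      (map_inv (SemidirectProduct.inr : MulAut Q →* G) γ)).symm.trans (SemidirectProduct.inl_aut (φ := MonoidHom.id _) γ h).symm)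
  refine MulEquiv.ext fun h => ?_
  have hcent := OddLocal.CoprimeFix.centralizes_of_omega hp (x := x) (Q := (SemidirectProduct.inl : Q →* G).range)
    ?_ (hQ.of_equiv (MonoidHom.ofInjective SemidirectProduct.inl_injective)) ?_ ?_ _ ⟨h, rfl⟩
  · have h1 := hconj h
    rw [hcent, mul_inv_cancel_right] at h1
    exact (SemidirectProduct.inl_injective h1).symm
  · rwa [orderOf_injective _ SemidirectProduct.inr_injective]
  · refine Subgroup.mem_normalizer_iff.mpr fun g => ⟨?_, ?_⟩
    · rintro ⟨q, rfl⟩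
      exact ⟨γ q, (hconj q).symm⟩
    · rintro ⟨q, hq⟩
      refine ⟨γ⁻¹ q, ?_⟩
      have h1 := hconj (γ⁻¹ q)
      rw [MulAut.apply_inv_self, hq] at h1
      exact mul_left_cancel (mul_right_cancel h1)
  · rintro _ ⟨q, rfl⟩ hq
    rw [orderOf_injective _ SemidirectProduct.inl_injective] at hq
    have h1 := hconj q
    rw [hfix q hq] at h1
    exact mul_inv_eq_iff_eq_mul.mp h1

variable {Ω : Type*} [Group Ω] {S : Subgroup Ω} {F : FusionSystem S}

/-- The iterated commutators `[A, P, …, P]`. -/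
def commSeries (A P : Subgroup Ω) : ℕ → Subgroup Ω
  | 0 => A
  | k + 1 => ⁅commSeries A P k, P⁆

theorem commSeries_le {A P : Subgroup Ω} (h : A ≤ P) : ∀ k, commSeries A P k ≤ P.lowerCentralSeries k
  | 0 => h
  | k + 1 => Subgroup.commutator_mono (commSeries_le h k) le_rfl

theorem map_commSeries {Ω' : Type*} [Group Ω'] (f : Ω →* Ω') (A P : Subgroup Ω) :
    ∀ k, (commSeries A P k).map f = commSeries (A.map f) (P.map f) k
  | 0 => rfl
  | k + 1 => by
    show ⁅commSeries A P k, P⁆.map f = ⁅commSeries (A.map f) (P.map f) k, P.map f⁆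
    rw [Subgroup.map_commutator, map_commSeries f A P k]

theorem omegaOne_le' (p : ℕ) (P : Subgroup Ω) : omegaOne p P ≤ P :=
  (Subgroup.closure_le _).mpr fun _ h => h.1

theorem conj_mem_omegaOne {p : ℕ} {P : Subgroup Ω} {g : Ω} (hg : g ∈ P) {x : Ω} (hx : x ∈ omegaOne p P) :
    g * x * g⁻¹ ∈ omegaOne p P := by
  refine Subgroup.closure_induction (p := fun x _ => g * x * g⁻¹ ∈ omegaOne p P) ?_ ?_ ?_ ?_ hx
  · rintro y ⟨hy, hyp⟩
    exact Subgroup.subset_closure ⟨mul_mem (mul_mem hg hy) (inv_mem hg), by rw [conj_pow, hyp]; group⟩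
  · simp
  · intro a b _ _ ha hb
    simpa [mul_assoc] using mul_mem ha hb
  · intro a _ ha
    simpa [mul_assoc] using inv_mem ha

theorem le_normalizer_commSeries (p : ℕ) (P : Subgroup Ω) :
    ∀ k, P ≤ Subgroup.normalizer (commSeries (omegaOne p P) P k : Set Ω)
  | 0 => Subgroup.le_normalizer_iff.2 fun _ hg _ hx => conj_mem_omegaOne hg hx
  | k + 1 => by
    refine Subgroup.le_normalizer_iff.2 fun g hg x hx => ?_
    have hmap : ((commSeries (omegaOne p P) P (k + 1)).map (MulAut.conj g).toMonoidHom) ≤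
        commSeries (omegaOne p P) P (k + 1) := by
      show ⁅commSeries (omegaOne p P) P k, P⁆.map _ ≤ _
      rw [Subgroup.map_commutator]
      refine Subgroup.commutator_mono ?_ ?_
      · rintro _ ⟨y, hy, rfl⟩
        exact (le_normalizer_commSeries p P k hg y).1 hy
      · rintro _ ⟨y, hy, rfl⟩
        exact mul_mem (mul_mem hg hy) (inv_mem hg)
    exact hmap ⟨x, hx, rfl⟩

variable {p : ℕ}

theorem exists_series_of_isNormal [Finite S] [Fact p.Prime] (hS : IsPGroup p S) {P : Subgroup Ω} (hP : F.IsNormal P) :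
    ∃ (n : ℕ) (Q : Fin (n + 1) → Subgroup Ω), Q 0 = ⊥ ∧ Q (Fin.last n) = omegaOne p P ∧ Monotone Q ∧
      (∀ i, F.StronglyClosed (Q i)) ∧ ∀ i : Fin n, ⁅Q i.succ, P⁆ ≤ Q i.castSucc := by
  haveI := finite_sub hP.1
  haveI : Group.IsNilpotent P := (isPGroup_of_le hS hP.1).isNilpotent
  obtain ⟨n, hn⟩ := (Subgroup.isNilpotent_iff_lowerCentralSeries P).1 inferInstance
  set L := commSeries (omegaOne p P) P
  have hanti : Antitone L := antitone_nat_of_succ_le fun k => by
    show ⁅L k, P⁆ ≤ L k
    rw [← Subgroup.le_normalizer_iff_commutator_le_left]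
    exact le_normalizer_commSeries p P k
  have hsc : ∀ k, F.StronglyClosed (L k) := by
    intro k
    have hLP : L k ≤ P := (hanti (Nat.zero_le k)).trans (omegaOne_le' p P)
    refine ⟨hLP.trans hP.1, fun R hR φ hφ x => ?_⟩
    obtain ⟨ψ, hψ, he, hm⟩ := hP.2 R φ hφ
    rw [← he x]
    have h1 : ((commSeries ((omegaOne p P).subgroupOf (R ⊔ P)) (P.subgroupOf (R ⊔ P)) k)).map ψ ≤ L k := by
      rw [map_commSeries, hm]
      have hA : ((omegaOne p P).subgroupOf (R ⊔ P)).map ψ ≤ omegaOne p P := by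
        suffices h : omegaOne p P ≤ ((omegaOne p P).comap ψ).map (R ⊔ P).subtype by
          rintro _ ⟨y, hy, rfl⟩
          obtain ⟨z, hz, hzy⟩ := h hy
          rwa [Subtype.ext hzy] at hz
        refine (Subgroup.closure_le _).mpr fun y hy => ⟨⟨y, Subgroup.mem_sup_right hy.1⟩, ?_, rfl⟩
        refine Subgroup.subset_closure ⟨hm.le ⟨_, Subgroup.mem_subgroupOf.2 hy.1, rfl⟩, ?_⟩
        rw [← map_pow, show (⟨y, Subgroup.mem_sup_right hy.1⟩ : ↥(R ⊔ P)) ^ p = 1 from Subtype.ext hy.2,
          map_one]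
      clear hanti hLP hR
      induction k with
      | zero => exact hA
      | succ k ih => exact Subgroup.commutator_mono ih le_rfl
    refine h1 ⟨_, ?_, rfl⟩
    have h2 : (commSeries ((omegaOne p P).subgroupOf (R ⊔ P)) (P.subgroupOf (R ⊔ P)) k).map (R ⊔ P).subtype
        = L k := by
      rw [map_commSeries, Subgroup.map_subgroupOf_eq_of_le ((omegaOne_le' p P).trans le_sup_right),
        Subgroup.map_subgroupOf_eq_of_le le_sup_right]
    obtain ⟨z, hz, hzx⟩ := h2.ge (hR x.2)
    rwa [show Subgroup.inclusion le_sup_left x = z from Subtype.ext hzx.symm]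
  refine ⟨n, fun i => L (n - i), le_bot_iff.1 ?_, by simp [L, commSeries], ?_, fun i => hsc _, fun i => ?_⟩
  · rw [← hn]
    simpa using commSeries_le (omegaOne_le' p P) n
  · intro i j hij
    exact hanti (Nat.sub_le_sub_left hij n)
  · simp only [Fin.val_succ, Fin.val_castSucc]
    rw [show n - (i : ℕ) = (n - ((i : ℕ) + 1)) + 1 by omega]
    exact le_refl _

variable [Finite S] [Fact p.Prime]

theorem isNormal_of_omega_series (hS : IsPGroup p S) (hF : F.IsSaturated p) (hp : p ≠ 2) {P : Subgroup Ω}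
    (hP : F.StronglyClosed P) {n : ℕ} (Qs : Fin (n + 1) → Subgroup Ω) (h0 : Qs 0 = ⊥)
    (hn : Qs (Fin.last n) = omegaOne p P) (hsc : ∀ i, F.StronglyClosed (Qs i))
    (hcomm : ∀ i : Fin n, ⁅Qs i.succ, P⁆ ≤ Qs i.castSucc) : F.IsNormal P := by
  refine (isNormal_iff_centricRadical hS hF).2 ⟨hP, fun R hc hr => ?_⟩
  let A : Option (Fin n) → Subgroup Ω := fun i => i.elim P fun i => Qs (Fin.castSucc i)
  let B : Option (Fin n) → Subgroup Ω := fun i => i.elim ⊤ fun i => Qs i.succ
  haveI := finite_sub hc.1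
  refine le_of_layerStab hS hc hr hP A B ?_ ?_ ?_ ?_
  · rintro (_ | i) α hα x
    · exact autGroup_mem_iff_of_stronglyClosed hP hc.1 hα x
    · exact autGroup_mem_iff_of_stronglyClosed (hsc _) hc.1 hα x
  · rintro (_ | i) α hα x
    · exact ⟨fun _ => Subgroup.mem_top _, fun _ => Subgroup.mem_top _⟩
    · exact autGroup_mem_iff_of_stronglyClosed (hsc _) hc.1 hα x
  · rintro (_ | i) q hq x hx
    · exact comm_mem_of_le_normalizer (stronglyClosed_le_normalizer hP (hc.1 x.2)) hq
    · exact commutator_mem_of_le (Subgroup.commutator_comm (Qs i.succ) P ▸ hcomm i) hq hx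
  · rintro ⟨γ, hγ, -⟩
    have hfix : ∀ j : Fin (n + 1), ∃ a, ∀ x : R, (x : Ω) ∈ Qs j → (γ ^ p ^ a) x = x := by
      intro j
      induction j using Fin.induction with
      | zero =>
        refine ⟨0, fun x hx => ?_⟩
        rw [h0, Subgroup.mem_bot] at hx
        rw [show x = 1 from Subtype.ext hx, map_one]
      | succ i ih =>
        obtain ⟨a, ha⟩ := ih
        obtain ⟨b, -, hb⟩ := exists_pow_fix hS hc.1
          (fun x hx => ((hγ (some i)).1 x).1 hx) ha
        exact ⟨b, fun x hx => hb x ((hγ (some i)).2 x hx)⟩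
    obtain ⟨a, ha⟩ := hfix (Fin.last n)
    rw [hn] at ha
    haveI : Finite (MulAut R) := Finite.of_injective (fun f => (f : R → R)) DFunLike.coe_injective
    obtain ⟨k, m, hm, hkm⟩ := Nat.exists_eq_pow_mul_and_not_dvd (orderOf_pos γ).ne' p
      (Fact.out : p.Prime).ne_one
    set δ := γ ^ p ^ k with hδ
    have hδm : δ ^ m = 1 := by rw [hδ, ← pow_mul, ← hkm, pow_orderOf_eq_one]
    have hcop : (orderOf δ).Coprime p := Nat.Coprime.coprime_dvd_left (orderOf_dvd_of_pow_eq_one hδm)
      (((Fact.out : p.Prime).coprime_iff_not_dvd.2 hm).symm)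
    have hδmem : δ ∈ layerStab R A B := pow_mem hγ _
    -- `δ` is a power of `δ ^ (p ^ a)`
    obtain ⟨b, hb⟩ := exists_pow_eq_self_of_coprime (hcop.pow_right a).symm
    have hstep : ∀ x : R, (γ ^ p ^ a) x = x → δ x = x := by
      intro x hx
      have he : δ = (γ ^ p ^ a) ^ (p ^ k * b) := by
        conv_lhs => rw [← hb, hδ, ← pow_mul, ← pow_mul]
        rw [← pow_mul]
        congr 1
        ring
      rw [he]
      induction p ^ k * b with
      | zero => simp
      | succ j ih => rw [pow_succ', MulAut.mul_apply, ih, hx]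
    let K := P.subgroupOf R
    let δK : MulAut K :=
      { toFun := fun y => ⟨δ y, ((hδmem none).1 y).1 y.2⟩
        invFun := fun y => ⟨δ⁻¹ y, (((inv_mem hδmem : δ⁻¹ ∈ layerStab R A B) none).1 y).1 y.2⟩
        left_inv := fun y => Subtype.ext (MulAut.inv_apply_self _ δ _)
        right_inv := fun y => Subtype.ext (MulAut.apply_inv_self _ δ _)
        map_mul' := fun y z => Subtype.ext (map_mul δ _ _) }
    have hδK : δK ^ orderOf δ = 1 := by
      have h : ∀ (j : ℕ) (y : K), (((δK ^ j) y : K) : R) = (δ ^ j) y := by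
        intro j
        induction j with
        | zero => intro y; rfl
        | succ j ih => intro y; rw [pow_succ', pow_succ', MulAut.mul_apply, MulAut.mul_apply, ← ih]; rfl
      refine MulEquiv.ext fun y => Subtype.ext ?_
      rw [h, pow_orderOf_eq_one]
      rfl
    have htriv : δK = 1 := by
      refine aut_eq_one_of_omega hp ((isPGroup_of_le hS hc.1).to_subgroup K) δK
        (Nat.Coprime.coprime_dvd_left (orderOf_dvd_of_pow_eq_one hδK) hcop) fun h hh => ?_
      refine Subtype.ext (hstep h.1 (ha h.1 (Subgroup.subset_closure ⟨h.2, ?_⟩)))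
      have h1 : h ^ p = 1 := hh ▸ pow_orderOf_eq_one h
      exact congrArg (fun z : K => ((z : R) : Ω)) h1
    obtain ⟨c, -, hc'⟩ := exists_pow_fix (γ := δ) hS hc.1 (Z := P) (a := 0)
      (fun x hx => ((hδmem none).1 x).1 hx) fun x hx => by
        rw [pow_zero, pow_one]
        exact congrArg Subtype.val (DFunLike.congr_fun htriv ⟨x, hx⟩)
    have h2 : δ ^ p ^ c = 1 := MulEquiv.ext fun x => hc' x ((hδmem none).2 x (Subgroup.mem_top _))
    obtain ⟨e, he⟩ := exists_pow_eq_self_of_coprime (hcop.pow_right c).symm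
    rw [h2, one_pow] at he
    exact ⟨k, Subtype.ext he.symm⟩

end Cfsg.Agent.Lib.FusionP3.OmegaNormal
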